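import Mathlib.RingTheory.Int.Basic
import Mathlib.Tactic.LinearCombination
import Mathlib.Tactic.IntervalCases

/-!
# The equation of the dihedral case
-/

set_option autoImplicit false

namespace CfsgLib.TwoPointA4

theorem dio {f x δ : ℤ} (hf : 3 ≤ f) (hf4 : f % 4 = 3) (hx : 1 ≤ x) (hδ : δ = 1 ∨ δ = -1)
    (hne : x ≠ δ) (h : 3 * (4 * f ^ 2 - 1) * (x - δ) ^ 2 = 8 * x * (x + δ) * (f + 1) ^ 2) : f = 3 := by
  rcases hδ with rfl | rfl
  · exfalso
    -- `x ≡ 1` modulo four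
    obtain ⟨r, hr⟩ : ∃ r : ℤ, f + 1 = 4 * r := ⟨(f + 1) / 4, by omega⟩
    have h16 : (16 : ℤ) ∣ (x - 1) ^ 2 := by
      have h1 : (16 : ℤ) ∣ 3 * (4 * f ^ 2 - 1) * (x - 1) ^ 2 := by
        rw [h, hr]
        exact ⟨8 * x * (x + 1) * r ^ 2, by ring⟩
      have hco : IsCoprime (16 : ℤ) (3 * (4 * f ^ 2 - 1)) := by
        rw [Int.isCoprime_iff_nat_coprime, show (16 : ℤ).natAbs = 2 ^ 4 by norm_num]
        refine Nat.Coprime.pow_left 4 ((Nat.prime_two.coprime_iff_not_dvd).2 fun h2 => ?_)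
        have h2' : (2 : ℤ) ∣ 3 * (4 * f ^ 2 - 1) := Int.natCast_dvd.2 h2
        have h3 : (2 : ℤ) ∣ 12 * f ^ 2 := ⟨6 * f ^ 2, by ring⟩
        have := dvd_sub h3 h2'
        rw [show 12 * f ^ 2 - 3 * (4 * f ^ 2 - 1) = 3 by ring] at this
        omega
      exact hco.dvd_of_dvd_mul_left h1
    have h4 : (4 : ℤ) ∣ x - 1 := (Int.pow_dvd_pow_iff two_ne_zero).1 (by norm_num; exact h16)
    obtain ⟨y, hy⟩ := h4
    have hx' : x = 4 * y + 1 := by omega
    subst hx'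
    have hy0 : 1 ≤ y := by omega
    have hE : 3 * (4 * f ^ 2 - 1) * y ^ 2 = (4 * y + 1) * (2 * y + 1) * (f + 1) ^ 2 := by
      refine mul_left_cancel₀ (show (16 : ℤ) ≠ 0 by norm_num) ?_
      linear_combination h
    have hyf : y ∣ f + 1 := by
      refine (Int.pow_dvd_pow_iff two_ne_zero).1 ?_
      have hco : IsCoprime (y ^ 2) ((4 * y + 1) * (2 * y + 1)) :=
        (IsCoprime.mul_right (show IsCoprime y (4 * y + 1) from ⟨-4, 1, by ring⟩)
          (show IsCoprime y (2 * y + 1) from ⟨-2, 1, by ring⟩)).pow_left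
      exact hco.dvd_of_dvd_mul_left ⟨3 * (4 * f ^ 2 - 1), by linear_combination -hE⟩
    obtain ⟨k, hk⟩ := hyf
    have hk0 : 1 ≤ k := by nlinarith
    have hE' : 12 * f ^ 2 - 3 = 8 * (f + 1) ^ 2 + 6 * k * (f + 1) + k ^ 2 := by
      have : (12 * f ^ 2 - 3) * y ^ 2 = (8 * (f + 1) ^ 2 + 6 * k * (f + 1) + k ^ 2) * y ^ 2 := by
        rw [hk]
        rw [hk] at hE
        linear_combination hE
      exact mul_right_cancel₀ (pow_ne_zero 2 (by omega)) this
    have hk9 : k ∣ 9 := by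
      refine ⟨8 * y ^ 2 * k + 6 * y * k + k - (12 * y ^ 2 * k - 24 * y), ?_⟩
      have hf' : f = y * k - 1 := by omega
      rw [hf'] at hE'
      linear_combination hE'
    have hk9' : k ≤ 9 := Int.le_of_dvd (by norm_num) hk9
    have hf40 : f ≤ 40 := by nlinarith
    interval_cases k <;> interval_cases f <;> omega
  · have h1 : x * (x - 1) < (x + 1) ^ 2 := by nlinarith
    have hpos : 0 < 8 * (f + 1) ^ 2 := by positivity
    have h2 : 3 * (4 * f ^ 2 - 1) < 8 * (f + 1) ^ 2 := by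
      refine lt_of_mul_lt_mul_right ?_ (sq_nonneg (x + 1))
      calc 3 * (4 * f ^ 2 - 1) * (x + 1) ^ 2 = 8 * (f + 1) ^ 2 * (x * (x - 1)) := by
            linear_combination h
        _ < 8 * (f + 1) ^ 2 * (x + 1) ^ 2 := mul_lt_mul_of_pos_left h1 hpos
    rcases (by omega : f = 3 ∨ 7 ≤ f) with h3 | h7
    · exact h3
    · nlinarith

end CfsgLib.TwoPointA4
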