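import Cfsg.Agent.TwoPointA4.Sym
import Cfsg.Agent.TwoPointA4.Dio
import Cfsg.Agent.S4482
import Cfsg.Agent.S0984
import Mathlib.GroupTheory.Transfer

/-!
# The symmetric type, all involutions of a four-group with the same odd number of fixed points
-/

set_option autoImplicit false
set_option linter.unusedSectionVars false
set_option linter.style.haveILetI false

namespace CfsgLib.TwoPointA4

open MulAction Finset
open scoped Classical

universe u v

variable {G : Type u} {Ω : Type v} [Group G] [MulAction G Ω] [Fintype Ω] [Fintype G]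

namespace Hyp

variable (D : Hyp G Ω)
include D

theorem odd_three (hS : SymType G Ω) (hK : KV G Ω) {a b : Ω} (hab : a ≠ b) {J : G} (hJ : InV a b J)
    (hJ1 : J ≠ 1) (hodd : Odd (fx (Ω := Ω) J).card) : (fx (Ω := Ω) J).card = 3 := by
  haveI : Fact (Nat.Prime 2) := ⟨Nat.prime_two⟩
  have hJT := isT_of_inV hab hJ hJ1
  obtain ⟨u, hu, huu, huJ, huV⟩ := D.sym_exists hS hab hJ hJ1
  obtain ⟨v, hv, hv1, hvJ⟩ := D.exists_second hab hJ
  have huv := huV v hv hv1 hvJ
  have hvJV := (D.inV_mul hab hv hJ).2
  have hvj := (D.inV_mul hab hv hJ).1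
  have hvJ1 : v * J ≠ 1 := fun e => hvJ (mul_right_cancel (e.trans hJ.2.2.symm))
  have hui : u⁻¹ = u := inv_eq_of_mul_eq_one_right huu
  have hvi : v⁻¹ = v := inv_eq_of_mul_eq_one_right hv.2.2
  have hu1 : u ≠ 1 := hu.ne_one hab
  set f := (fx (Ω := Ω) J).card with hf
  have hFe : fx (Ω := Ω) J = FV G a b := hK a b hab J hJ hJ1
  have hef : (FV G a b).card = f := by rw [hf, hFe]
  have hf4 : f % 4 = 3 := hef ▸ D.sym_odd_mod_four hS hab (hef.symm ▸ hodd)
  have hn := D.sym_card_omega hS hab hJT
  rw [← hf] at hn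
  obtain ⟨q, hq⟩ : ∃ q, f = q + 1 := ⟨f - 1, by omega⟩
  rw [hq, show q + 1 - 1 = q by omega] at hn
  have hG : Nat.card G = 12 * ((q + 1) * (2 * q + 1)) * ((2 * q + 3) * q) := by
    rw [D.card_G, hn]
    have e1 : q + 1 + 2 * ((q + 1) * q) = (q + 1) * (2 * q + 1) := by ring
    have e2 : (q + 1) * (2 * q + 1) - 1 = (2 * q + 3) * q := by
      refine Nat.sub_eq_of_eq_add ?_
      ring
    rw [e1, e2]
    ring
  -- the Sylow subgroup
  set A := fourGroup D hab
  set P0 := Subgroup.zpowers u ⊔ A
  have huA : Subgroup.zpowers u ≤ Subgroup.normalizer (A : Set G) := by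
    rw [Subgroup.zpowers_le, Subgroup.mem_normalizer_iff]
    intro w
    refine ⟨fun hw => hu.inV_conj hw, fun hw => ?_⟩
    have : InV a b (u⁻¹ * (u * w * u⁻¹) * u⁻¹⁻¹) := hu.inv.inV_conj hw
    rwa [show u⁻¹ * (u * w * u⁻¹) * u⁻¹⁻¹ = w by group] at this
  have huo : orderOf u = 2 := orderOf_eq_prime (by rw [sq, huu]) hu1
  have hP8 : Nat.card P0 = 8 := by
    have h := CfsgLib.Factor.card_mul_set (Subgroup.zpowers u) A
    rw [← Subgroup.coe_mul_of_left_le_normalizer_right _ _ huA,
      show Subgroup.zpowers u ⊓ A = ⊥ from ?_, Subgroup.card_bot, mul_one, Nat.card_zpowers, huo,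
      card_fourGroup] at h
    · exact h
    refine eq_bot_iff.2 fun g hg => ?_
    obtain ⟨hg1, hg2⟩ := Subgroup.mem_inf.1 hg
    obtain ⟨i, rfl⟩ := Subgroup.mem_zpowers_iff.1 hg1
    rcases Int.even_or_odd i with ⟨j, rfl⟩ | ⟨j, rfl⟩
    · rw [Subgroup.mem_bot, ← two_mul, zpow_mul, zpow_two, huu, one_zpow]
    · exfalso
      rw [zpow_add, zpow_mul, zpow_two, huu, one_zpow, one_mul, zpow_one] at hg2
      exact hab ((show InV a b u from hg2).1.symm.trans hu.1)
  have hfac : Nat.card P0 = 2 ^ (Nat.card G).factorization 2 := by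
    obtain ⟨r, hr⟩ : ∃ r, q = 4 * r + 2 := ⟨q / 4, by omega⟩
    rw [hP8, hG, show 12 * ((q + 1) * (2 * q + 1)) * ((2 * q + 3) * q) =
        2 ^ 3 * (3 * ((q + 1) * (2 * q + 1) * ((2 * q + 3) * (2 * r + 1)))) by rw [hr]; ring,
      Nat.factorization_mul (by norm_num) (by positivity), Finsupp.add_apply,
      Nat.prime_two.factorization_pow, Finsupp.single_eq_same,
      Nat.factorization_eq_zero_of_not_dvd (n := 3 * ((q + 1) * (2 * q + 1) * ((2 * q + 3) * (2 * r + 1))))
        (by simp [Nat.prime_two.dvd_mul]; omega), add_zero]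
    norm_num
  let P : Sylow 2 G := Sylow.ofCard P0 hfac
  have hPcoe : (P : Subgroup G) = P0 := by simp [P]
  have huP : u ∈ (P : Subgroup G) := by rw [hPcoe]; exact Subgroup.mem_sup_left (Subgroup.mem_zpowers u)
  have hAP : ∀ w, InV a b w → w ∈ (P : Subgroup G) := fun w hw => by
    rw [hPcoe]; exact Subgroup.mem_sup_right hw
  set σ := u * v with hσ
  have hσ2 : σ ^ 2 = J := by
    rw [sq]
    exact (D.sym_cases hS hab hJ hJ1 hv hv1 hvJ hu huu huJ huv (hu.mul_right hv.1 hv.2.1)
      (Commute.mul_left huJ hvj).eq).2.2 (Or.inl rfl)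
  have hσ4 : orderOf σ = 2 ^ (3 - 1) := by
    have : orderOf σ = 2 ^ (1 + 1) := by
      refine orderOf_eq_prime_pow (by rw [pow_one, hσ2]; exact hJ1) ?_
      rw [show (2 : ℕ) ^ (1 + 1) = 2 * 2 by norm_num, pow_mul, hσ2, sq, hJ.2.2]
    simpa using this
  have hrel : u * σ * u⁻¹ = σ⁻¹ := by
    rw [hσ, mul_inv_rev, hvi, hui, ← mul_assoc u u, huu, one_mul]
  have hστ : σ * u = v * J := by rw [hσ, huv]
  have hgen : Subgroup.closure ({σ, u} : Set G) = (P : Subgroup G) := by
    refine le_antisymm ((Subgroup.closure_le _).2 ?_) ?_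
    · rintro g (rfl | rfl)
      exacts [mul_mem huP (hAP v hv), huP]
    · rw [hPcoe]
      have h1 : u ∈ Subgroup.closure ({σ, u} : Set G) := Subgroup.subset_closure (by simp)
      have h2 : σ ∈ Subgroup.closure ({σ, u} : Set G) := Subgroup.subset_closure (by simp)
      have h3 : v ∈ Subgroup.closure ({σ, u} : Set G) := by
        rw [show v = u⁻¹ * σ by rw [hσ, inv_mul_cancel_left]]
        exact mul_mem (inv_mem h1) h2
      have h4 : J ∈ Subgroup.closure ({σ, u} : Set G) := hσ2 ▸ pow_mem h2 2
      refine sup_le (Subgroup.zpowers_le.2 h1) fun w hw => ?_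
      rcases D.inV_cases hab hJ hJ1 hv hv1 hvJ hw with rfl | rfl | rfl | rfl
      exacts [one_mem _, h4, h3, mul_mem h3 h4]
  -- centralizers
  have hC : Nat.card (Subgroup.centralizer ({σ ^ 2 ^ (3 - 2)} : Set G)) = 4 * (f * (f - 1)) := by
    rw [show 2 ^ (3 - 2) = 2 by norm_num, hσ2, D.card_cent hJT]
  have hCJ : Subgroup.centralizer ({J} : Set G) = normV J a b := by
    refine le_antisymm (fun g hg => ⟨hg, mem_setStab_of_maps fun x hx => ?_⟩) inf_le_left
    rw [← hFe] at hx ⊢
    exact cent_preserves (Subgroup.mem_centralizer_singleton_iff.1 hg) hx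
  have hconjv : ∀ g ∈ Subgroup.centralizer ({J} : Set G), InV a b (g * v * g⁻¹) := by
    intro g hg
    have hgs : g ∈ setStab G (FV G a b) := (hCJ ▸ hg : g ∈ normV J a b).2
    exact (D.inV_iff_of_mem hab ((hgs a).2 (left_mem_FV a b)) ((hgs b).2 (right_mem_FV a b))
      fun e => hab (smul_left_cancel g e)).1 (hv.conj g)
  have hpair_card : ∀ w : G, Nat.card (Subgroup.centralizer ({σ ^ 2 ^ (3 - 2), w} : Set G)) =
      Nat.card ↥(Subgroup.centralizer ({J} : Set G) ⊓ Subgroup.centralizer ({w} : Set G)) := by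
    intro w
    rw [show 2 ^ (3 - 2) = 2 by norm_num, hσ2]
    congr 2
    ext g
    simp [Subgroup.mem_centralizer_iff, Subgroup.mem_inf]
  have hC2 : 2 * Nat.card (Subgroup.centralizer ({σ ^ 2 ^ (3 - 2), σ * u} : Set G)) = 4 * (f * (f - 1)) := by
    rw [hpair_card, hστ, ← D.card_cent hJT]
    have hc2 : ({v, v * J} : Finset G).card = 2 := card_pair fun e => hJ1 (mul_eq_left.1 e.symm)
    have hvjj : v * J * J = v := by rw [mul_assoc, hJ.2.2, mul_one]
    have hJu : u * (v * J) * u⁻¹ = v := by
      calc u * (v * J) * u⁻¹ = (u * v * u) * J := by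
            rw [hui, mul_assoc u (v * J) u, mul_assoc v J u, ← huJ]; group
        _ = v := by rw [huv, hvjj]
    rw [card_cent_orbit (Subgroup.centralizer ({J} : Set G)) (v * J) {v, v * J} fun y => ?_, hc2]
    constructor
    · intro hy
      simp only [mem_insert, mem_singleton] at hy
      rcases hy with rfl | rfl
      · exact ⟨u, Subgroup.mem_centralizer_singleton_iff.2 huJ, hJu⟩
      · exact ⟨1, one_mem _, by group⟩
    · rintro ⟨g, hg, rfl⟩
      have hgJ := Subgroup.mem_centralizer_singleton_iff.1 hg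
      have e : g * (v * J) * g⁻¹ = g * v * g⁻¹ * J := by
        rw [show g * (v * J) * g⁻¹ = g * v * g⁻¹ * (g * J * g⁻¹) by group, hgJ, mul_inv_cancel_right]
      rw [e]
      simp only [mem_insert, mem_singleton]
      rcases D.inV_cases hab hJ hJ1 hv hv1 hvJ (hconjv g hg) with h | h | h | h
      · exact absurd (conj_eq_one_iff.1 h) hv1
      · refine absurd ?_ hvJ
        have : g * v * g⁻¹ = g * J * g⁻¹ := by rw [h, hgJ, mul_inv_cancel_right]
        exact mul_left_cancel (mul_right_cancel this)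
      · exact Or.inr (by rw [h])
      · exact Or.inl (by rw [h, hvjj])
  -- the involutions exchanging two fixed points of `J`
  let U : Finset G := univ.filter fun g => g * g = 1 ∧ g * J = J * g ∧ ¬ InV a b g
  have hmemU : ∀ g, g ∈ U ↔ g * g = 1 ∧ g * J = J * g ∧ ¬ InV a b g := fun g => by simp [U]
  have hUfix : ∀ g ∈ U, (fx (Ω := Ω) J ∩ fx g).card = 1 := by
    intro g hg
    obtain ⟨hgg, hgJ, hgV⟩ := (hmemU g).1 hg
    have hle : ¬ 2 ≤ (fx (Ω := Ω) J ∩ fx g).card := fun h => by
      obtain ⟨c, hc, d, hd, hcd⟩ := one_lt_card.1 h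
      refine hgV ((D.inV_iff_of_mem hab (hFe ▸ (mem_inter.1 hc).1) (hFe ▸ (mem_inter.1 hd).1) hcd).1
        ⟨mem_fx.1 (mem_inter.1 hc).2, mem_fx.1 (mem_inter.1 hd).2, hgg⟩)
    have h2 : (fx (Ω := Ω) J ∩ fx g).card % 2 = f % 2 :=
      card_inter_fx_mod_two g _ (fun x hx => cent_preserves hgJ hx) fun x _ => by
        rw [smul_smul, hgg, one_smul]
    obtain ⟨m, hm⟩ := hodd
    omega
  have hswap : ∀ {c d : Ω}, c ∈ fx J → d ∈ fx J → c ≠ d → ∃ k : G, k * J = J * k ∧ k • a = c ∧ k • b = d :=
    fun hc hd hcd => D.cent_trans hJT (mem_fx.2 hJ.1) (mem_fx.2 hJ.2.1) hc hd hab hcd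
  have huU : ∀ k : G, k * J = J * k → k * u * k⁻¹ ∈ U ∧ k * u * k⁻¹ * J ∈ U := by
    intro k hk
    have hk' : k * J * k⁻¹ = J := by rw [hk, mul_inv_cancel_right]
    have h1 : k * u * k⁻¹ * (k * u * k⁻¹) = 1 := by rw [conj_mul, huu]; group
    have h2 : k * u * k⁻¹ * J = J * (k * u * k⁻¹) := by
      conv_lhs => rw [← hk', conj_mul, huJ, ← conj_mul, hk']
    have h3 : ¬ InV a b (k * u * k⁻¹) := fun h => by
      have hkn : k ∈ setStab G (FV G a b) :=
        (hCJ ▸ (Subgroup.mem_centralizer_singleton_iff.2 hk) : k ∈ normV J a b).2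
      have := (D.inV_iff_of_mem hab ((hkn a).2 (left_mem_FV a b)) ((hkn b).2 (right_mem_FV a b))
        fun e => hab (smul_left_cancel k e)).2 h
      have e := this.1
      rw [conj_smul, hu.1] at e
      exact hab (smul_left_cancel k e).symm
    refine ⟨(hmemU _).2 ⟨h1, h2, h3⟩, (hmemU _).2 ⟨?_, ?_, fun h => h3 ?_⟩⟩
    · calc k * u * k⁻¹ * J * (k * u * k⁻¹ * J) = k * u * k⁻¹ * (J * (k * u * k⁻¹)) * J := by group
        _ = k * u * k⁻¹ * (k * u * k⁻¹) * (J * J) := by rw [← h2]; group
        _ = 1 := by rw [h1, hJ.2.2, mul_one]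
    · calc k * u * k⁻¹ * J * J = J * (k * u * k⁻¹) * J := by rw [h2]
        _ = J * (k * u * k⁻¹ * J) := by group
    · have := (D.inV_mul hab h hJ).2
      rwa [mul_assoc, hJ.2.2, mul_one] at this
  have hUpair : ∀ c ∈ fx (Ω := Ω) J, ∀ d ∈ fx (Ω := Ω) J, c ≠ d → ∀ k : G, k * J = J * k → k • a = c →
      k • b = d → U.filter (fun g => g • c = d) = {k * u * k⁻¹, k * u * k⁻¹ * J} := by
    intro c hc d hd hcd k hk hkc hkd
    have hk' : k * J * k⁻¹ = J := by rw [hk, mul_inv_cancel_right]
    ext g
    simp only [mem_filter, mem_insert, mem_singleton]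
    constructor
    · rintro ⟨hg, hgc⟩
      obtain ⟨hgg, hgJ, -⟩ := (hmemU g).1 hg
      have hs : Swap a b (k⁻¹ * g * k) := by
        have := (swap_of_invol hgg hgc).conj k⁻¹
        rwa [inv_inv, ← hkc, ← hkd, inv_smul_smul, inv_smul_smul] at this
      have hsJ : k⁻¹ * g * k * J = J * (k⁻¹ * g * k) := by
        calc k⁻¹ * g * k * J = k⁻¹ * g * (k * J) := by group
          _ = k⁻¹ * (g * J) * k := by rw [hk]; group
          _ = (k⁻¹ * J) * g * k := by rw [hgJ]; group
          _ = J * (k⁻¹ * g * k) := by rw [(Commute.inv_left hk).eq]; group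
      rcases (D.sym_cases hS hab hJ hJ1 hv hv1 hvJ hu huu huJ huv hs hsJ).2.1 (by
        calc k⁻¹ * g * k * (k⁻¹ * g * k) = k⁻¹ * (g * g) * k := by group
          _ = 1 := by rw [hgg]; group) with e | e
      · exact Or.inl (by rw [← e]; group)
      · refine Or.inr ?_
        calc g = k * (u * J) * k⁻¹ := by rw [← e]; group
          _ = k * u * k⁻¹ * (k * J * k⁻¹) := by group
          _ = _ := by rw [hk']
    · rintro (rfl | rfl)
      · exact ⟨(huU k hk).1, by rw [← hkc, conj_smul, hu.1, hkd]⟩
      · exact ⟨(huU k hk).2, by rw [mul_smul, mem_fx.1 hc, ← hkc, conj_smul, hu.1, hkd]⟩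
  have hUcard : U.card = 2 * f := by
    have h : U.card * (f - 1) = f * (f - 1) * 2 := by
      rw [hf, ← card_pairs_of (fx (Ω := Ω) J)]
      refine card_mul_eq_card_mul (fun (g : G) (p : Ω × Ω) => g • p.1 = p.2) (fun g hg => ?_) fun p hp => ?_
      · have hgJ := ((hmemU g).1 hg).2.1
        have hc1 : (fx (Ω := Ω) J \ fx g).card = f - 1 := by
          rw [card_sdiff, inter_comm, hUfix g hg]
        rw [← hf, ← hc1]
        refine card_bij (fun p _ => p.1) (fun p hp => ?_) (fun p hp q hq h => ?_) fun x hx => ?_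
        · simp only [bipartiteAbove, mem_filter, mem_product] at hp
          obtain ⟨⟨⟨h1, -⟩, hne⟩, hgp⟩ := hp
          refine mem_sdiff.2 ⟨h1, fun h => hne ?_⟩
          rw [← hgp, mem_fx.1 h]
        · simp only [bipartiteAbove, mem_filter] at hp hq
          exact Prod.ext h (by rw [← hp.2, ← hq.2, h])
        · obtain ⟨hx1, hx2⟩ := mem_sdiff.1 hx
          refine ⟨(x, g • x), ?_, rfl⟩
          simp only [bipartiteAbove, mem_filter, mem_product, and_true]
          exact ⟨⟨hx1, cent_preserves hgJ hx1⟩, fun e => hx2 (mem_fx.2 e.symm)⟩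
      · simp only [mem_filter, mem_product] at hp
        obtain ⟨k, hk, hkc, hkd⟩ := hswap hp.1.1 hp.1.2 hp.2
        show (U.filter fun g => g • p.1 = p.2).card = 2
        rw [hUpair p.1 hp.1.1 p.2 hp.1.2 hp.2 k hk hkc hkd]
        exact card_pair fun e => hJ1 (mul_eq_left.1 e.symm)
    exact Nat.eq_of_mul_eq_mul_right (show 0 < f - 1 by omega) (h.trans (by ring))
  have hC1 : 2 * f * Nat.card (Subgroup.centralizer ({σ ^ 2 ^ (3 - 2), u} : Set G)) = 4 * (f * (f - 1)) := by
    rw [hpair_card, ← D.card_cent hJT, ← hUcard]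
    refine (card_cent_orbit _ u U fun g => ⟨fun hg => ?_, ?_⟩).symm
    · obtain ⟨hgg, hgJ, -⟩ := (hmemU g).1 hg
      obtain ⟨c, hc⟩ : ∃ c, c ∈ fx (Ω := Ω) J \ fx g := card_pos.1 (by
        rw [card_sdiff, inter_comm, hUfix g hg, ← hf]; omega)
      obtain ⟨hc1, hc2⟩ := mem_sdiff.1 hc
      have hd : g • c ∈ fx J := cent_preserves hgJ hc1
      have hcd : c ≠ g • c := fun e => hc2 (mem_fx.2 e.symm)
      obtain ⟨k, hk, hkc, hkd⟩ := hswap hc1 hd hcd
      have : g ∈ ({k * u * k⁻¹, k * u * k⁻¹ * J} : Finset G) := by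
        rw [← hUpair c hc1 _ hd hcd k hk hkc hkd]
        exact mem_filter.2 ⟨hg, rfl⟩
      rcases mem_insert.1 this with e | e
      · exact ⟨k, Subgroup.mem_centralizer_singleton_iff.2 hk, e.symm⟩
      · rw [mem_singleton] at e
        refine ⟨k * v, Subgroup.mem_centralizer_singleton_iff.2 (Commute.mul_left hk hvj).eq, ?_⟩
        have hvuv : v * u * v = u * J := by
          calc v * u * v = u * (u * v * u) * v := by simp only [← mul_assoc, huu, one_mul]
            _ = u * (v * J * v) := by rw [huv]; group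
            _ = u * J := by rw [hvj, mul_assoc, hv.2.2, mul_one]
        calc k * v * u * (k * v)⁻¹ = k * (v * u * v) * k⁻¹ := by rw [mul_inv_rev, hvi]; group
          _ = k * u * (J * k⁻¹) := by rw [hvuv]; group
          _ = k * u * k⁻¹ * J := by rw [← (Commute.inv_left hk).eq]; group
          _ = g := e.symm
    · rintro ⟨k, hk, rfl⟩
      exact (huU k (Subgroup.mem_centralizer_singleton_iff.1 hk)).1
  -- the character degree
  obtain ⟨M, hM⟩ := CfsgLib.Block.exists_isPModular Nat.prime_two
  haveI := hM.2.1.isPrime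
  letI := CfsgLib.Block.Chr.irrFintype (G := G)
  obtain ⟨ζ, hζ⟩ : ∃ ζ : ℂ, IsPrimitiveRoot ζ (2 ^ (3 - 1)) :=
    ⟨_, Complex.isPrimitiveRoot_exp _ (by positivity)⟩
  have hσP : σ ∈ (P : Subgroup G) := mul_mem huP (hAP v hv)
  have Dd := CfsgLib.DihPrincipal.data_of_closure (le_refl 3) hσP huP hσ4 huo hrel hgen
  obtain ⟨χ₁, χ₂, χ₃, χ', δ₁, δ₂, δ₃, e1, -, -, -, n1, -, -, -, -, -, -, hB, hval, -, -⟩ :=
    Dd.exists_table hM hζ
  have hχ : χ₁ ∈ Cfsg.principalBlock M G := by rw [hB]; exact Or.inr (Or.inl rfl)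
  have hconj : IsConj (σ ^ (2 ^ (3 - 2))) u ∧ IsConj (σ ^ (2 ^ (3 - 2))) (σ * u) := by
    rw [show 2 ^ (3 - 2) = 2 by norm_num, hσ2, hστ]
    exact ⟨D.isConj_T hJT (D.sym_isT hS huu hu1), D.isConj_T hJT (isT_of_inV hab hvJV hvJ1)⟩
  obtain ⟨hne, heq⟩ := Cfsg.Agent.S4482.result M hM 3 le_rfl P σ u hσP huP hσ4 huo hrel hgen hconj χ₁
    hχ n1 δ₁ e1 fun l h0 h => (hval l h0 h).1
  have hx : 1 ≤ Cfsg.charDegree (χ₁ : G → ℂ) := (CfsgLib.Block.Chr.irr_one χ₁).2
  set x := Cfsg.charDegree (χ₁ : G → ℂ)
  set c1 := Nat.card (Subgroup.centralizer ({σ ^ 2 ^ (3 - 2), u} : Set G))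
  set c2 := Nat.card (Subgroup.centralizer ({σ ^ 2 ^ (3 - 2), σ * u} : Set G))
  rw [hC, hG] at heq
  have hc1 : c1 = 2 * q := by
    rw [hq, show q + 1 - 1 = q by omega] at hC1
    exact Nat.eq_of_mul_eq_mul_left (show 0 < 2 * (q + 1) by omega) (hC1.trans (by ring))
  have hc2 : c2 = 2 * ((q + 1) * q) := by
    rw [hq, show q + 1 - 1 = q by omega] at hC2
    omega
  rw [hc1, hc2, hq, show q + 1 - 1 = q by omega] at heq
  have hq0 : (q : ℚ) ≠ 0 := Nat.cast_ne_zero.2 (by omega)
  have hq1 : (q : ℚ) + 1 ≠ 0 := by positivity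
  push_cast at heq
  field_simp at heq
  have hE : ((3 * (4 * ((q : ℤ) + 1) ^ 2 - 1) * ((x : ℤ) - δ₁) ^ 2 : ℤ) : ℚ) =
      ((8 * x * ((x : ℤ) + δ₁) * ((q : ℤ) + 1 + 1) ^ 2 : ℤ) : ℚ) := by
    push_cast
    refine mul_left_cancel₀ (show (8 : ℚ) ≠ 0 by norm_num) ?_
    linear_combination heq
  have h := dio (f := (q : ℤ) + 1) (x := (x : ℤ)) (δ := δ₁) (by omega) (by omega) (by exact_mod_cast hx) e1 hne
    (by exact_mod_cast hE)
  omega

theorem iso_altSeven (hS : SymType G Ω) (hK : KV G Ω) {a b : Ω} (hab : a ≠ b) {J : G} (hJ : InV a b J)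
    (hJ1 : J ≠ 1) (hf : (fx (Ω := Ω) J).card = 3) :
    Fintype.card Ω = 15 ∧ Nonempty (G ≃* ↥(alternatingGroup (Fin 7))) := by
  haveI : Fact (Nat.Prime 2) := ⟨Nat.prime_two⟩
  haveI : Fact (Nat.Prime 5) := ⟨by norm_num⟩
  haveI : Fact (Nat.Prime 7) := ⟨by norm_num⟩
  have hJT := isT_of_inV hab hJ hJ1
  have hFe : fx (Ω := Ω) J = FV G a b := hK a b hab J hJ hJ1
  have hn : Nat.card Ω = 15 := by rw [D.sym_card_omega hS hab hJT, hf]
  have hG : Nat.card G = 2520 := by rw [D.card_G, hn]
  refine ⟨by rw [← Nat.card_eq_fintype_card, hn], ?_⟩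
  obtain ⟨u, hu, huu, huJ, huV⟩ := D.sym_exists hS hab hJ hJ1
  obtain ⟨v, hv, hv1, hvJ⟩ := D.exists_second hab hJ
  have hvJV := (D.inV_mul hab hv hJ).2
  have hvJ1 : v * J ≠ 1 := fun e => hvJ (mul_right_cancel (e.trans hJ.2.2.symm))
  have hu1 : u ≠ 1 := hu.ne_one hab
  -- the third common fixed point
  obtain ⟨c, hcF, huc⟩ : ∃ c, c ∈ FV G a b ∧ u • c = c := by
    have h2 : (fx (Ω := Ω) J ∩ fx u).card % 2 = (fx (Ω := Ω) J).card % 2 :=
      card_inter_fx_mod_two u _ (fun x hx => cent_preserves huJ hx) fun x _ => by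
        rw [smul_smul, huu, one_smul]
    obtain ⟨c, hc⟩ := card_pos.1 (show 0 < (fx (Ω := Ω) J ∩ fx u).card by omega)
    exact ⟨c, hFe ▸ (mem_inter.1 hc).1, mem_fx.1 (mem_inter.1 hc).2⟩
  set Y := stabilizer G c
  have hY : Nat.card Y = 168 := by rw [D.card_stab c, hn]
  -- no subgroup of order seven is normalized by the four-group
  have hno : ∀ Q : Subgroup G, Nat.card Q = 7 → (∀ w : G, InV a b w → ∀ y ∈ Q, w * y * w⁻¹ ∈ Q) → False := by
    intro Q hQ hnorm
    obtain ⟨y, hyo⟩ := exists_prime_orderOf_dvd_card' (G := Q) 7 (by rw [hQ])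
    rw [← Subgroup.orderOf_coe] at hyo
    have hgenQ : ∀ g ∈ Q, g ∈ Subgroup.zpowers (y : G) := by
      have he : Subgroup.zpowers (y : G) = Q := Subgroup.eq_of_le_of_card_ge (Subgroup.zpowers_le.2 y.2)
        (by rw [Nat.card_zpowers, hyo, hQ])
      intro g hg; rw [he]; exact hg
    have hinv : ∀ w : G, InV a b w → w ≠ 1 → w * y * w⁻¹ = (y : G)⁻¹ := by
      intro w hw hw1
      obtain ⟨k, hk⟩ := Subgroup.mem_zpowers_iff.1 (hgenQ _ (hnorm w hw y y.2))
      have hwi : w⁻¹ = w := inv_eq_of_mul_eq_one_right hw.2.2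
      have h2 : (y : G) ^ (k * k) = (y : G) ^ (1 : ℤ) := by
        rw [zpow_mul, zpow_one, hk, conj_zpow, hk]
        calc w * (w * (y : G) * w⁻¹) * w⁻¹ = (w * w) * y * (w⁻¹ * w⁻¹) := by group
          _ = y := by rw [hwi, hw.2.2, one_mul, mul_one]
      rw [zpow_eq_zpow_iff_modEq, hyo] at h2
      have h7 : (7 : ℤ) ∣ (k - 1) * (k + 1) := by
        have := h2.symm.dvd
        push_cast at this
        rwa [show (k - 1) * (k + 1) = k * k - 1 by ring]
      rcases (Int.prime_iff_natAbs_prime.2 (by norm_num : Nat.Prime (Int.natAbs 7))).dvd_or_dvd h7 with h | h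
      · exfalso
        have e : (y : G) ^ k = (y : G) ^ (1 : ℤ) := by
          rw [zpow_eq_zpow_iff_modEq, hyo]
          exact (Int.modEq_iff_dvd.2 (by push_cast; rw [← neg_sub]; exact dvd_neg.2 h))
        rw [hk, zpow_one] at e
        have hle : Subgroup.zpowers (y : G) ≤ Subgroup.centralizer ({w} : Set G) :=
          Subgroup.zpowers_le.2 (Subgroup.mem_centralizer_singleton_iff.2 (mul_inv_eq_iff_eq_mul.1 e).symm)
        have h7 := Subgroup.card_dvd_of_le hle
        have hwT := isT_of_inV hab hw hw1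
        rw [Nat.card_zpowers, hyo, D.card_cent hwT, D.card_fx_T hJT hwT, hf] at h7
        norm_num at h7
      · have e : (y : G) ^ k = (y : G) ^ (-1 : ℤ) := by
          rw [zpow_eq_zpow_iff_modEq, hyo]
          exact (Int.modEq_iff_dvd.2 (by push_cast; rw [show (-1 : ℤ) - k = -(k + 1) by ring]; exact dvd_neg.2 h))
        rw [hk, zpow_neg_one] at e
        exact e
    have hJi := hinv J hJ hJ1
    have hvi := hinv v hv hv1
    have h := hinv (v * J) hvJV hvJ1
    have : v * J * y * (v * J)⁻¹ = (y : G) := by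
      calc v * J * y * (v * J)⁻¹ = v * (J * y * J⁻¹) * v⁻¹ := by group
        _ = (v * y * v⁻¹)⁻¹ := by rw [hJi, conj_inv]
        _ = y := by rw [hvi, inv_inv]
    rw [this] at h
    have h2 : (y : G) * y = 1 := by nth_rewrite 2 [h]; exact mul_inv_cancel _
    have := orderOf_dvd_of_pow_eq_one (show (y : G) ^ 2 = 1 by rw [sq, h2])
    rw [hyo] at this
    norm_num at this
  haveI : Nontrivial G := Finite.one_lt_card_iff_nontrivial.1 (by omega)
  haveI : IsSimpleGroup G := ⟨fun N hN => by
    by_cases hne : N = ⊥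
    · exact Or.inl hne
    right
    have hcN := D.normal_card hN hne c
    rw [hn] at hcN
    set Nc := N ⊓ stabilizer G c
    have hNcY : Nat.card Nc ∣ 168 := hY ▸ Subgroup.card_dvd_of_le inf_le_right
    have hseven : ∀ Q : Subgroup G, Q ≤ Nc → Nat.card Q = 7 → (∀ y ∈ Nc, ∀ z ∈ Q, y * z * y⁻¹ ∈ Q) → False := by
      intro Q hQle hQ hQn
      -- the unique subgroup of order seven of `Nc` is invariant under the stabilizer
      refine hno Q hQ fun w hw y hy => ?_
      by_contra hnot
      have hwc : w ∈ Y := mem_FV.1 hcF w hw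
      set Q' := Q.map (MulAut.conj w).toMonoidHom
      have hQ'le : Q' ≤ Nc := by
        rintro _ ⟨z, hz, rfl⟩
        refine ⟨hN.conj_mem z (hQle hz).1 w, ?_⟩
        show w * z * w⁻¹ ∈ stabilizer G c
        exact mul_mem (mul_mem hwc (hQle hz).2) (inv_mem hwc)
      have hQ'7 : Nat.card Q' = 7 := by
        rw [Subgroup.card_map_of_injective (MulEquiv.injective _), hQ]
      have hdj : Q ⊓ Q' = ⊥ := by
        rcases (Nat.dvd_prime (by norm_num : Nat.Prime 7)).1
          (hQ ▸ Subgroup.card_dvd_of_le (inf_le_left : Q ⊓ Q' ≤ Q)) with h | h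
        · exact Subgroup.card_eq_one.1 h
        · exfalso
          have e1 : Q ⊓ Q' = Q := Subgroup.eq_of_le_of_card_ge inf_le_left (by rw [h, hQ])
          have e2 : Q = Q' := Subgroup.eq_of_le_of_card_ge (inf_eq_left.1 e1) (by rw [hQ, hQ'7])
          exact hnot (e2 ▸ ⟨y, hy, rfl⟩)
      have hn' : Q' ≤ Subgroup.normalizer (Q : Set G) := fun z hz => by
        rw [Subgroup.mem_normalizer_iff]
        refine fun t => ⟨fun ht => hQn z (hQ'le hz) t ht, fun ht => ?_⟩
        have := hQn z⁻¹ (inv_mem (hQ'le hz)) _ ht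
        rwa [show z⁻¹ * (z * t * z⁻¹) * z⁻¹⁻¹ = t by group] at this
      have h := CfsgLib.Factor.card_mul_set Q' Q
      rw [← Subgroup.coe_mul_of_left_le_normalizer_right _ _ hn', inf_comm, hdj, Subgroup.card_bot, mul_one,
        hQ, hQ'7] at h
      have h49 : 7 * 7 ∣ 168 :=
        ((dvd_of_eq h.symm).trans (Subgroup.card_dvd_of_le (sup_le hQ'le hQle))).trans hNcY
      norm_num at h49
    by_cases hodd : ¬ 2 ∣ Nat.card N
    · exfalso
      -- a semiregular odd subgroup of the stabilizer
      have hNc2 : ¬ 2 ∣ Nat.card Nc := fun h => hodd (h.trans (Subgroup.card_dvd_of_le inf_le_left))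
      obtain ⟨d, hd⟩ : ∃ d, d ∈ (univ : Finset Ω).erase c :=
        card_pos.1 (by rw [card_erase_of_mem (mem_univ c), card_univ, ← Nat.card_eq_fintype_card, hn]; norm_num)
      have hsemi : ∀ g ∈ Nc, ∀ x : Ω, x ≠ c → g • x = x → g = 1 := by
        intro g hg x hx hgx
        obtain ⟨w, hw, hw1⟩ := D.exists_T (Ne.symm hx)
        have hgo : g * g ≠ 1 ∨ g = 1 := by
          by_contra h
          push Not at h
          refine hNc2 ?_
          rw [← orderOf_eq_prime (p := 2) (by rw [sq, h.1]) h.2]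
          exact Subgroup.orderOf_dvd_natCard _ hg
        rcases hgo with hgg | h
        swap
        · exact h
        exfalso
        -- commutators with `w` lie in the odd normal subgroup and in the four-group
        have hwg : InV c x (w * (g * w * g⁻¹)) := by
          have := hw.conj g
          rw [show g • c = c from hg.2, hgx] at this
          exact (D.inV_mul (Ne.symm hx) hw this).2
        have hmem : w * (g * w * g⁻¹) ∈ N := by
          rw [show w * (g * w * g⁻¹) = (w * g * w⁻¹) * g⁻¹ by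
            rw [inv_eq_of_mul_eq_one_right hw.2.2]; group]
          exact mul_mem (hN.conj_mem g hg.1 w) (inv_mem hg.1)
        have hone : w * (g * w * g⁻¹) = 1 := by
          by_contra h
          refine hodd ?_
          rw [← orderOf_eq_prime (p := 2) (by rw [sq, hwg.2.2]) h]
          exact Subgroup.orderOf_dvd_natCard _ hmem
        have hcomm : g * w * g⁻¹ = w := mul_left_cancel (hone.trans hw.2.2.symm)
        exact hgg (D.inV_of_commute (Ne.symm hx) hw hw1 hg.2 hgx (mul_inv_eq_iff_eq_mul.1 hcomm).symm).2.2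
      have h14 : Nat.card Nc ∣ 14 := by
        have hc14 : Nat.card {x : Ω // x ≠ c} = 14 := by
          rw [Nat.card_eq_fintype_card, Fintype.card_subtype_compl, Fintype.card_subtype_eq,
            ← Nat.card_eq_fintype_card, hn]
        letI : MulAction Nc {x : Ω // x ≠ c} :=
          { smul := fun g x => ⟨(g : G) • (x : Ω), fun e => x.2 (smul_left_cancel (g : G) (e.trans g.2.2.symm))⟩
            one_smul := fun x => Subtype.ext (one_smul G (x : Ω))
            mul_smul := fun g h x => Subtype.ext (mul_smul (g : G) (h : G) (x : Ω)) }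
        rw [← hc14]
        have hfree : ∀ (g : Nc) (x : {x : Ω // x ≠ c}), g • x = x → g = 1 := fun g x h =>
          Subtype.ext (hsemi g g.2 x x.2 (congrArg Subtype.val h))
        haveI : IsCancelSMul Nc {x : Ω // x ≠ c} := ⟨fun g h x e => by
          have := hfree (h⁻¹ * g) x (by rw [mul_smul, e, inv_smul_smul])
          exact (inv_mul_eq_one.1 this).symm⟩
        have hstab : ∀ x : {x : Ω // x ≠ c}, stabilizer Nc x = ⊥ := fun x =>
          eq_bot_iff.2 fun g hg => Subgroup.mem_bot.2 (hfree g x hg)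
        rw [Nat.card_congr (MulAction.selfEquivOrbitsQuotientProd hstab), Nat.card_prod]
        exact Dvd.intro_left _ rfl
      rcases (show Nat.card Nc = 1 ∨ Nat.card Nc = 7 by
        have := Nat.le_of_dvd (by norm_num) h14
        interval_cases (Nat.card Nc) <;> omega) with h1 | h7
      · rw [h1, mul_one] at hcN
        let S5 : Sylow 5 N := default
        have h5 : Nat.card (S5 : Subgroup N) = 5 := by
          rw [S5.card_eq_multiplicity, hcN, show (15 : ℕ) = 5 * 3 by norm_num,
            Nat.factorization_mul (by norm_num) (by norm_num), Finsupp.add_apply,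
            Nat.Prime.factorization_self (by norm_num),
            Nat.factorization_eq_zero_of_not_dvd (n := 3) (by norm_num)]
          norm_num
        have hidx := (S5 : Subgroup N).card_mul_index
        rw [h5, hcN] at hidx
        have hd5 := S5.card_dvd_index
        rw [show (S5 : Subgroup N).index = 3 by omega] at hd5
        have hm5 := card_sylow_modEq_one 5 N
        have : Nat.card (Sylow 5 N) = 1 := by
          rcases (Nat.dvd_prime Nat.prime_three).1 hd5 with h | h
          · exact h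
          · rw [h] at hm5; exact absurd hm5 (by decide)
        haveI : Subsingleton (Sylow 5 N) := (Nat.card_eq_one_iff_unique.1 this).1
        haveI : N.Normal := hN
        haveI : (S5 : Subgroup N).Characteristic := S5.characteristic_of_subsingleton
        have hK5 : Nat.card ((S5 : Subgroup N).map N.subtype) = 5 := by
          rw [Subgroup.card_map_of_injective N.subtype_injective, h5]
        have := D.normal_card (N := (S5 : Subgroup N).map N.subtype) inferInstance
          (fun e => by rw [e, Subgroup.card_bot] at hK5; omega) c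
        rw [hK5, hn] at this
        omega
      · obtain ⟨y, hy⟩ : ∃ y : Nc, orderOf y = 7 := exists_prime_orderOf_dvd_card' 7 (by rw [h7])
        exact hseven Nc le_rfl h7 fun z hz t ht => mul_mem (mul_mem hz ht) (inv_mem hz)
    · push Not at hodd
      obtain ⟨t, ht⟩ := exists_prime_orderOf_dvd_card' 2 hodd
      rw [← Subgroup.orderOf_coe] at ht
      have htT : IsT Ω (t : G) := D.sym_isT hS (by rw [← sq, ← ht, pow_orderOf_eq_one])
        fun e => by rw [e, orderOf_one] at ht; omega
      have hall : ∀ s : G, IsT Ω s → s ∈ N := fun s hs => by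
        obtain ⟨k, rfl⟩ := isConj_iff.1 (D.isConj_T htT hs)
        exact hN.conj_mem _ t.2 k
      have huT : IsT Ω u := D.sym_isT hS huu hu1
      have huN : u ∈ Nc := ⟨hall u huT, huc⟩
      have hVN : ∀ w, InV a b w → w ∈ Nc := fun w hw => by
        refine ⟨?_, mem_FV.1 hcF w hw⟩
        by_cases h : w = 1
        · subst h; exact one_mem _
        · exact hall w (isT_of_inV hab hw h)
      set σ := u * v
      have hσ2 : σ * σ = J := (D.sym_cases hS hab hJ hJ1 hv hv1 hvJ hu huu huJ (huV v hv hv1 hvJ)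
        (hu.mul_right hv.1 hv.2.1) (Commute.mul_left huJ (D.inV_mul hab hv hJ).1).eq).2.2 (Or.inl rfl)
      have hσN : σ ∈ Nc := mul_mem huN (hVN v hv)
      -- at least 21 involutions and two elements of order four
      set s := (Tset G Ω).filter fun t => t • c = c
      have hs21 : s.card = 21 := by
        rw [D.card_T_stab hJT hab c, D.sym_iCount hS hab, hf]
      have hsN : ∀ w ∈ s, w ∈ Nc ∧ w * w = 1 ∧ w ≠ 1 := fun w hw => by
        obtain ⟨h1, h2⟩ := mem_filter.1 hw
        have h1 := D.mem_Tset.1 h1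
        exact ⟨⟨hall w h1, h2⟩, h1.1, h1.2.1⟩
      have hσne : σ * σ ≠ 1 := hσ2 ▸ hJ1
      have hσi : σ⁻¹ * σ⁻¹ ≠ 1 := fun h => hσne (by rw [← inv_inj, mul_inv_rev, h, inv_one])
      have hσσ : σ ≠ σ⁻¹ := fun h => hσne (mul_eq_one_iff_eq_inv.2 h)
      have hcount : ∀ (m : ℕ), Nat.card Nc = m → m % 8 = 0 → m = 168 := by
        intro m hm hm8
        have h24 : 24 ≤ m := by
          have hsub : insert 1 (insert σ (insert σ⁻¹ s)) ⊆ univ.filter fun g => g ∈ Nc := by
            intro g hg
            simp only [mem_insert] at hg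
            refine mem_filter.2 ⟨mem_univ _, ?_⟩
            rcases hg with rfl | rfl | rfl | hg
            exacts [one_mem _, hσN, inv_mem hσN, (hsN g hg).1]
          have := card_le_card hsub
          rw [← Fintype.card_subtype, ← Nat.card_eq_fintype_card, hm, card_insert_of_notMem ?_,
            card_insert_of_notMem ?_, card_insert_of_notMem (fun h => hσi (hsN _ h).2.1), hs21] at this
          · exact this
          · simp only [mem_insert, not_or]
            exact ⟨hσσ, fun h => hσne (hsN _ h).2.1⟩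
          · simp only [mem_insert, not_or]
            exact ⟨fun h => hσne (by rw [← h, one_mul]), fun h => hσne (by
              have : σ = 1 := inv_eq_one.1 h.symm
              rw [this, one_mul]), fun h => (hsN _ h).2.2 rfl⟩
        have hdvd := hm ▸ hNcY
        rcases (show m = 24 ∨ m = 56 ∨ m = 168 by
          have key : ∀ m ∈ Nat.divisors 168, 24 ≤ m → m % 8 = 0 → m = 24 ∨ m = 56 ∨ m = 168 := by decide +kernel
          exact key m (Nat.mem_divisors.2 ⟨hdvd, by norm_num⟩) h24 hm8) with rfl | rfl | rfl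
        · exfalso
          -- no element of order three is left
          obtain ⟨y, hy⟩ := exists_prime_orderOf_dvd_card' (G := Nc) 3 (by rw [hm]; norm_num)
          rw [← Subgroup.orderOf_coe] at hy
          have hsub : insert (y : G) (insert 1 (insert σ (insert σ⁻¹ s))) ⊆ univ.filter fun g => g ∈ Nc := by
            intro g hg
            simp only [mem_insert] at hg
            refine mem_filter.2 ⟨mem_univ _, ?_⟩
            rcases hg with rfl | rfl | rfl | rfl | hg
            exacts [y.2, one_mem _, hσN, inv_mem hσN, (hsN g hg).1]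
          have := card_le_card hsub
          have hσ4 : orderOf σ = 2 ^ (1 + 1) := by
            refine orderOf_eq_prime_pow (by rw [pow_one, sq]; exact hσne) ?_
            rw [show (2 : ℕ) ^ (1 + 1) = 2 * 2 by norm_num, pow_mul, sq, sq, hσ2, hJ.2.2]
          rw [← Fintype.card_subtype, ← Nat.card_eq_fintype_card, hm, card_insert_of_notMem ?_,
            card_insert_of_notMem ?_, card_insert_of_notMem ?_,
            card_insert_of_notMem (fun h => hσi (hsN _ h).2.1), hs21] at this
          · omega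
          · simp only [mem_insert, not_or]
            exact ⟨hσσ, fun h => hσne (hsN _ h).2.1⟩
          · simp only [mem_insert, not_or]
            exact ⟨fun h => hσne (by rw [← h, one_mul]), fun h => hσne (by
              have : σ = 1 := inv_eq_one.1 h.symm
              rw [this, one_mul]), fun h => (hsN _ h).2.2 rfl⟩
          · simp only [mem_insert, not_or]
            refine ⟨fun h => ?_, fun h => ?_, fun h => ?_, fun h => ?_⟩
            · rw [h, orderOf_one] at hy; omega
            · rw [h, hσ4] at hy; norm_num at hy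
            · rw [h, orderOf_inv, hσ4] at hy; norm_num at hy
            · rw [orderOf_eq_prime (by rw [sq, (hsN _ h).2.1]) (hsN _ h).2.2] at hy; omega
        · exfalso
          let R : Sylow 7 Nc := default
          have hR : Nat.card (R : Subgroup Nc) = 7 := by
            rw [R.card_eq_multiplicity, hm, show (56 : ℕ) = 7 * 8 by norm_num,
              Nat.factorization_mul (by norm_num) (by norm_num), Finsupp.add_apply,
              Nat.Prime.factorization_self (by norm_num),
              Nat.factorization_eq_zero_of_not_dvd (n := 8) (by norm_num)]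
            norm_num
          haveI : IsCyclic (R : Subgroup Nc) := isCyclic_of_prime_card hR
          haveI : IsMulCommutative (R : Subgroup Nc) := IsCyclic.isMulCommutative
          have hidx := (R : Subgroup Nc).card_mul_index
          rw [hR, hm] at hidx
          have hd := R.card_dvd_index
          rw [show (R : Subgroup Nc).index = 8 by omega] at hd
          have hm7 := card_sylow_modEq_one 7 Nc
          rcases (show Nat.card (Sylow 7 Nc) = 1 ∨ Nat.card (Sylow 7 Nc) = 8 by
            have key : ∀ k ∈ Nat.divisors 8, k % 7 = 1 % 7 → k = 1 ∨ k = 8 := by decide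
            exact key _ (Nat.mem_divisors.2 ⟨hd, by norm_num⟩) hm7) with h1 | h8
          · haveI : Subsingleton (Sylow 7 Nc) := (Nat.card_eq_one_iff_unique.1 h1).1
            have hnorm := R.normal_of_subsingleton
            refine hseven ((R : Subgroup Nc).map Nc.subtype) (Subgroup.map_subtype_le _)
              (by rw [Subgroup.card_map_of_injective Nc.subtype_injective, hR]) ?_
            rintro z hz _ ⟨t, ht, rfl⟩
            exact ⟨⟨z, hz⟩ * t * ⟨z, hz⟩⁻¹, hnorm.conj_mem t ht _, rfl⟩
          · have hcn := (Subgroup.normalizer ((R : Subgroup Nc) : Set Nc)).card_mul_index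
            have h8' : (Subgroup.normalizer ((R : Subgroup Nc) : Set Nc)).index = 8 :=
              (R.card_eq_index_normalizer : Nat.card (Sylow 7 Nc) = _).symm.trans h8
            rw [h8', hm] at hcn
            have hPN : (R : Subgroup Nc) = Subgroup.normalizer ((R : Subgroup Nc) : Set Nc) :=
              Subgroup.eq_of_le_of_card_ge Subgroup.le_normalizer (by omega)
            have hNP : Subgroup.normalizer ((R : Subgroup Nc) : Set Nc) ≤
                Subgroup.centralizer ((R : Subgroup Nc) : Set Nc) := by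
              rw [← hPN]
              exact fun z hz => Subgroup.mem_centralizer_iff.2 fun t ht => congrArg Subtype.val
                ((inferInstance : IsMulCommutative (R : Subgroup Nc)).is_comm.comm ⟨t, ht⟩ ⟨z, hz⟩)
            have hc := (MonoidHom.ker_transferSylow_isComplement' R hNP).card_mul_card
            set K := (MonoidHom.transferSylow R hNP).ker
            rw [hR, hm] at hc
            have hK8 : Nat.card K = 8 := by omega
            have hmemK : ∀ w : Nc, w * w = 1 → w ∈ K := fun w hw => by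
              rw [MonoidHom.mem_ker]
              refine orderOf_eq_one_iff.1 (Nat.eq_one_of_dvd_coprimes (show Nat.Coprime 2 7 by norm_num) ?_ ?_)
              · exact orderOf_dvd_of_pow_eq_one (by rw [← map_pow, sq, hw, map_one])
              · exact (orderOf_dvd_natCard _).trans (dvd_of_eq hR)
            have hsK : s ⊆ (univ.filter fun g : Nc => g ∈ K).image fun g : Nc => (g : G) := fun w hw => by
              obtain ⟨h1, h2, -⟩ := hsN w hw
              exact mem_image.2 ⟨⟨w, h1⟩, mem_filter.2 ⟨mem_univ _, hmemK _ (Subtype.ext h2)⟩, rfl⟩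
            have := (card_le_card hsK).trans card_image_le
            rw [← Fintype.card_subtype, ← Nat.card_eq_fintype_card, hK8, hs21] at this
            omega
        · rfl
      have h8 : Nat.card Nc % 8 = 0 := by
        set A := fourGroup D hab
        have huA : Subgroup.zpowers u ≤ Subgroup.normalizer (A : Set G) := by
          rw [Subgroup.zpowers_le, Subgroup.mem_normalizer_iff]
          intro w
          refine ⟨fun hw => hu.inV_conj hw, fun hw => ?_⟩
          have : InV a b (u⁻¹ * (u * w * u⁻¹) * u⁻¹⁻¹) := hu.inv.inV_conj hw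
          rwa [show u⁻¹ * (u * w * u⁻¹) * u⁻¹⁻¹ = w by group] at this
        have huo : orderOf u = 2 := orderOf_eq_prime (by rw [sq, huu]) hu1
        have h := CfsgLib.Factor.card_mul_set (Subgroup.zpowers u) A
        rw [← Subgroup.coe_mul_of_left_le_normalizer_right _ _ huA,
          show Subgroup.zpowers u ⊓ A = ⊥ from ?_, Subgroup.card_bot, mul_one, Nat.card_zpowers, huo,
          card_fourGroup] at h
        · have hle : Subgroup.zpowers u ⊔ A ≤ Nc := sup_le (Subgroup.zpowers_le.2 huN) hVN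
          exact Nat.mod_eq_zero_of_dvd ((dvd_of_eq h.symm).trans (Subgroup.card_dvd_of_le hle))
        refine eq_bot_iff.2 fun g hg => ?_
        obtain ⟨hg1, hg2⟩ := Subgroup.mem_inf.1 hg
        obtain ⟨i, rfl⟩ := Subgroup.mem_zpowers_iff.1 hg1
        rcases Int.even_or_odd i with ⟨j, rfl⟩ | ⟨j, rfl⟩
        · rw [Subgroup.mem_bot, ← two_mul, zpow_mul, zpow_two, huu, one_zpow]
        · exfalso
          rw [zpow_add, zpow_mul, zpow_two, huu, one_zpow, one_mul, zpow_one] at hg2
          exact hab ((show InV a b u from hg2).1.symm.trans hu.1)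
      have := hcount _ rfl h8
      exact Subgroup.eq_top_of_card_eq N (by rw [hcN, this, hG])⟩
  exact Cfsg.Agent.S0984.result hG

end Hyp

end CfsgLib.TwoPointA4
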