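import Cfsg.Agent.TwoPointA4.Central
import Mathlib.FieldTheory.Finite.GaloisField
import Mathlib.LinearAlgebra.AffineSpace.AffineEquiv
import Mathlib.LinearAlgebra.Matrix.GeneralLinearGroup.Card

/-!
# The affine plane over the field with four elements
-/

set_option autoImplicit false
set_option linter.unusedSectionVars false
set_option linter.style.haveILetI false

namespace CfsgLib.TwoPointA4

open MulAction Finset
open scoped Classical Pointwise

universe u v

variable {G : Type u} {Ω : Type v} [Group G] [MulAction G Ω] [Fintype Ω] [Fintype G]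

/-- An involution outside the class of the involutions fixing two points. -/
def IsZ (Ω : Type v) [MulAction G Ω] [Fintype Ω] (z : G) : Prop :=
  z * z = 1 ∧ z ≠ 1 ∧ ¬ IsT Ω z

theorem IsZ.conj {z : G} (h : IsZ Ω z) (g : G) : IsZ Ω (g * z * g⁻¹) := by
  refine ⟨by rw [conj_mul, h.1]; group, fun e => h.2.1 (conj_eq_one_iff.1 e), fun e => h.2.2 ?_⟩
  have := e.conj g⁻¹
  rwa [show g⁻¹ * (g * z * g⁻¹) * g⁻¹⁻¹ = z by group] at this

/-- Maps commuting with an element of order three generating the field of order four are linear. -/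
theorem exists_field_four {M : Type u} [AddCommGroup M] [Finite M] (hM : Nat.card M = 16)
    (h2 : ∀ x : M, x + x = 0) (α : M →+ M) (hα : ∀ x : M, α (α x) + α x + x = 0) :
    ∃ (F : Type) (_ : Field F) (_ : Fintype F) (Φ : M ≃+ (Fin 2 → F)), Fintype.card F = 4 ∧
      ∀ β : M →+ M, (∀ x, β (α x) = α (β x)) →
        ∀ (r : F) (x : Fin 2 → F), Φ (β (Φ.symm (r • x))) = r • Φ (β (Φ.symm x)) := by
  haveI : Fact (Nat.Prime 2) := ⟨Nat.prime_two⟩
  let F := GaloisField 2 2
  haveI : Finite F := Nat.finite_of_card_ne_zero (by rw [GaloisField.card 2 2 (by norm_num)]; norm_num)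
  haveI : Fintype F := Fintype.ofFinite F
  have hcard : Fintype.card F = 4 := by
    rw [← Nat.card_eq_fintype_card, GaloisField.card 2 2 (by norm_num)]; norm_num
  obtain ⟨w, -, hw⟩ := Finset.exists_mem_notMem_of_card_lt_card
    (show ({0, 1} : Finset F).card < (univ : Finset F).card by
      rw [card_univ, hcard]; exact lt_of_le_of_lt card_le_two (by norm_num))
  simp only [Finset.mem_insert, Finset.mem_singleton, not_or] at hw
  obtain ⟨hw0, hw1⟩ := hw
  have hw3 : w ^ 3 = 1 := by
    have := FiniteField.pow_card_sub_one_eq_one w hw0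
    rwa [hcard] at this
  have hww : w * w + w + 1 = 0 := by
    rcases mul_eq_zero.1 (show (w - 1) * (w * w + w + 1) = 0 by linear_combination hw3) with h | h
    · exact absurd (sub_eq_zero.1 h) hw1
    · exact h
  have htwo : ∀ r : F, r + r = 0 := fun r => CharTwo.add_self_eq_zero r
  have hall : ∀ r : F, r = 0 ∨ r = 1 ∨ r = w ∨ r = w + 1 := by
    have hne : w + 1 ≠ 0 := fun e => hw1 (by linear_combination e - htwo 1)
    have hne1 : w + 1 ≠ 1 := fun e => hw0 (by linear_combination e)
    have hne2 : w + 1 ≠ w := fun e => one_ne_zero (α := F) (by linear_combination e)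
    have := Finset.eq_univ_of_card ({0, 1, w, w + 1} : Finset F) (by
      rw [hcard, card_insert_of_notMem (by simp [Ne.symm hw0, Ne.symm hne]),
        card_insert_of_notMem (by simp [Ne.symm hw1, Ne.symm hne1]),
        card_insert_of_notMem (by simp [Ne.symm hne2]), card_singleton])
    intro r
    have hr : r ∈ ({0, 1, w, w + 1} : Finset F) := this ▸ mem_univ r
    simpa using hr
  let sm : F → M → M := fun r x =>
    if r = 0 then 0 else if r = 1 then x else if r = w then α x else α x + x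
  have s0 : ∀ x, sm 0 x = 0 := fun x => if_pos rfl
  have s1 : ∀ x, sm 1 x = x := fun x => by simp [sm]
  have sw : ∀ x, sm w x = α x := fun x => by simp [sm, hw0, hw1]
  have sv : ∀ x, sm (w + 1) x = α x + x := fun x => by
    have hne : w + 1 ≠ 0 := fun e => hw1 (by linear_combination e - htwo 1)
    have hne1 : w + 1 ≠ 1 := fun e => hw0 (by linear_combination e)
    simp [sm, hne, hne1]
  have hsadd : ∀ r x y, sm r (x + y) = sm r x + sm r y := by
    intro r x y
    rcases hall r with h | h | h | h <;> rw [h]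
    · simp [s0]
    · simp [s1]
    · simp [sw]
    · simp only [sv, map_add]; abel
  have hneg : ∀ x : M, -x = x := fun x => (eq_neg_of_add_eq_zero_left (h2 x)).symm
  have hαα : ∀ x : M, α (α x) = α x + x := fun x => by
    have := hα x
    rw [add_assoc, add_eq_zero_iff_eq_neg, hneg] at this
    exact this
  have hradd : ∀ r s x, sm (r + s) x = sm r x + sm s x := by
    intro r s x
    have f1 : (1 : F) + (w + 1) = w := by linear_combination htwo 1
    have f2 : (w + 1) + 1 = w := by linear_combination htwo 1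
    have f3 : w + (w + 1) = 1 := by linear_combination htwo w
    have f4 : (w + 1) + w = 1 := by linear_combination htwo w
    have hz : ∀ y : M, y + (y + x) = x := fun y => by rw [← add_assoc, h2, zero_add]
    rcases hall r with hr | hr | hr | hr <;> rcases hall s with hs | hs | hs | hs <;> rw [hr, hs]
    all_goals first
      | rw [zero_add, s0, zero_add]
      | rw [add_zero, s0, add_zero]
      | rw [htwo, s0, h2]
      | skip
    · rw [add_comm (1 : F) w, sv, s1, sw, add_comm]
    · rw [f1, sw, s1, sv, ← add_assoc, add_comm x, add_assoc, h2, add_zero]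
    · rw [sv, sw, s1]
    · rw [f3, s1, sw, sv, hz]
    · rw [f2, sw, sv, s1, add_assoc, h2, add_zero]
    · rw [f4, s1, sv, sw, add_comm (α x + x), hz]
  have hrmul : ∀ r s x, sm (r * s) x = sm r (sm s x) := by
    intro r s x
    have g1 : w * w = w + 1 := by linear_combination hww - htwo w - htwo 1
    have g2 : w * (w + 1) = 1 := by linear_combination hww - htwo 1
    have g3 : (w + 1) * w = 1 := by linear_combination hww - htwo 1
    have g4 : (w + 1) * (w + 1) = w := by linear_combination hww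
    rcases hall r with hr | hr | hr | hr <;> rcases hall s with hs | hs | hs | hs <;> rw [hr, hs]
    all_goals first
      | (simp only [zero_mul, one_mul, mul_one, s0, s1]; done)
      | skip
    · rw [mul_zero, s0, sw, map_zero]
    · rw [g1, sw, sw, sv, hαα]
    · rw [g2, s1, sw, sv, map_add, hαα, add_comm (α x) x, add_assoc, h2, add_zero]
    · rw [mul_zero, s0, sv, map_zero, add_zero]
    · rw [g3, s1, sw, sv, hαα, add_comm (α x) x, add_assoc, h2, add_zero]
    · rw [g4, sw, sv, sv, map_add, hαα, add_comm (α x) x, add_assoc x, h2, add_zero,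
        ← add_assoc x x, h2, zero_add]
  letI : SMul F M := ⟨sm⟩
  letI : Module F M :=
    { one_smul := s1
      mul_smul := hrmul
      smul_zero := fun r => by
        have := hsadd r 0 0
        rw [add_zero] at this
        exact left_eq_add.1 this
      smul_add := hsadd
      add_smul := hradd
      zero_smul := s0 }
  have hfin : Module.finrank F M = 2 := by
    have h := Module.natCard_eq_pow_finrank (K := F) (V := M)
    rw [hM, Nat.card_eq_fintype_card, hcard] at h
    exact (Nat.pow_right_injective (le_of_lt (by norm_num : 2 < 4)) (h.symm.trans (by norm_num : 16 = 4 ^ 2)))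
  let Φ : M ≃ₗ[F] (Fin 2 → F) := (Module.finBasisOfFinrankEq F M hfin).equivFun
  refine ⟨F, inferInstance, inferInstance, Φ.toAddEquiv, hcard, fun β hβ r x => ?_⟩
  have hlin : ∀ (r : F) (y : M), β (r • y) = r • β y := by
    intro r y
    show β (sm r y) = sm r (β y)
    rcases hall r with h | h | h | h <;> rw [h]
    · simp [s0]
    · simp [s1]
    · rw [sw, sw, hβ]
    · rw [sv, sv, map_add, hβ]
  show Φ (β (Φ.symm (r • x))) = r • Φ (β (Φ.symm x))
  rw [map_smul, hlin, map_smul]

namespace Hyp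

variable (D : Hyp G Ω)
include D

/-- The swaps outside the class, for three swaps of the class and four fixed points. -/
theorem plane_swap (hC : Central G Ω) {a b : Ω} (hab : a ≠ b) (hi : D.iCount a b = 3) {c d : Ω}
    (hcd : c ≠ d) : ∃ z : G, IsZ Ω z ∧ z • c = d ∧
      (∀ h : G, h • c = c → h • d = d → z * h = h * z) ∧
      ∀ z' : G, IsZ Ω z' → z' • c = d → z' = z := by
  obtain ⟨z, hz, hzz, hzc⟩ := hC c d hcd
  obtain ⟨v, hv, hv1⟩ := D.exists_T hcd
  have hci := D.central_iCount hcd hz hzz hzc hv hv1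
  rw [D.iCount_eq hab hcd, hi] at hci
  have hzT : ¬ IsT Ω z := fun h => by rw [if_pos h] at hci; split_ifs at hci <;> omega
  have hvT : IsT Ω (z * v) := by
    by_contra h
    rw [if_neg h, if_neg hzT] at hci
    omega
  refine ⟨z, ⟨hzz, hz.ne_one hcd, hzT⟩, hz.1, hzc, fun g hg hgc => ?_⟩
  have hw := (D.central_invol hz hzz hzc (swap_of_invol hg.1 hgc)).1 hg.1
  by_contra hne
  refine hg.2.2 ?_
  have hw1 : z * g ≠ 1 := fun e => hne (mul_left_cancel (e.trans hzz.symm))
  have := D.central_isT_iff hcd hzc hv hv1 hw hw1 hvT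
  rwa [← mul_assoc, hzz, one_mul] at this

theorem FV_comm {a b : Ω} (hab : a ≠ b) : FV G b a = FV G a b :=
  D.FV_eq_of_mem hab (right_mem_FV a b) (left_mem_FV a b) hab.symm

theorem FV_stable {c : Ω} {z : G} (hzz : z * z = 1) (hzc : z • c ≠ c) {x : Ω}
    (hx : x ∈ FV G c (z • c)) : z • x ∈ FV G c (z • c) := by
  have h := (mem_FV_conj (G := G) z).2 hx
  rwa [smul_smul z z, hzz, one_smul, D.FV_comm hzc.symm] at h

/-- Parallel lines. -/
theorem plane_euclid {a b : Ω} (hab : a ≠ b) (hn : Nat.card Ω = 16) (h4 : (FV G a b).card = 4)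
    {c d₁ d₂ : Ω} (hc : c ∉ FV G a b) (h1 : c ≠ d₁) (h2 : c ≠ d₂)
    (hd1 : ∀ p ∈ FV G c d₁, p ∉ FV G a b) (hd2 : ∀ p ∈ FV G c d₂, p ∉ FV G a b) :
    FV G c d₁ = FV G c d₂ := by
  by_contra hne
  set ℓ := FV G a b
  have hcp : ∀ p ∈ ℓ, c ≠ p := fun p hp e => hc (e ▸ hp)
  have hcard : ∀ d, c ≠ d → ((FV G c d).erase c).card = 3 := fun d hd => by
    rw [card_erase_of_mem (left_mem_FV c d), D.card_FV_eq hab hd, h4]
  have hkey : ∀ d d', c ≠ d → c ≠ d' → ∀ x, x ∈ (FV G c d).erase c → x ∈ (FV G c d').erase c →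
      FV G c d = FV G c d' := fun d d' hd hd' x hx hx' => by
    rw [mem_erase] at hx hx'
    rw [← D.FV_eq_of_mem hd (left_mem_FV c d) hx.2 hx.1.symm,
      D.FV_eq_of_mem hd' (left_mem_FV c d') hx'.2 hx.1.symm]
  set S := ℓ.biUnion fun p => (FV G c p).erase c with hS
  have hScard : S.card = 12 := by
    rw [hS, card_biUnion, sum_congr rfl fun p hp => hcard p (hcp p hp), sum_const, h4]
    · norm_num
    intro p hp q hq hpq
    refine disjoint_left.2 fun x hx hx' => ?_
    have e := hkey p q (hcp p hp) (hcp q hq) x hx hx'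
    have hq' : q ∈ FV G c p := e ▸ right_mem_FV c q
    have := D.FV_eq_of_mem (hcp p hp) (right_mem_FV c p) hq' hpq
    rw [D.FV_eq_of_mem hab hp hq hpq] at this
    exact hc ((Finset.ext_iff.1 this c).2 (left_mem_FV c p))
  have hdS : ∀ d, c ≠ d → (∀ p ∈ FV G c d, p ∉ ℓ) → Disjoint S ((FV G c d).erase c) := by
    intro d hd hdℓ
    refine disjoint_left.2 fun x hx hx' => ?_
    obtain ⟨p, hp, hxp⟩ := mem_biUnion.1 hx
    have e := hkey d p hd (hcp p hp) x hx' hxp
    exact hdℓ p (e ▸ right_mem_FV c p) hp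
  have hd12 : Disjoint ((FV G c d₁).erase c) ((FV G c d₂).erase c) :=
    disjoint_left.2 fun x hx hx' => hne (hkey _ _ h1 h2 x hx hx')
  have hsub : S ∪ (FV G c d₁).erase c ∪ (FV G c d₂).erase c ⊆ (univ : Finset Ω).erase c := by
    intro x hx
    simp only [hS, mem_union, mem_biUnion, mem_erase] at hx
    rcases hx with (⟨p, -, hx⟩ | hx) | hx <;> exact mem_erase.2 ⟨hx.1, mem_univ _⟩
  have := card_le_card hsub
  rw [card_union_of_disjoint (disjoint_union_left.2 ⟨hdS d₂ h2 hd2, hd12⟩),
    card_union_of_disjoint (hdS d₁ h1 hd1), hScard, hcard d₁ h1, hcard d₂ h2,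
    card_erase_of_mem (mem_univ c), card_univ, ← Nat.card_eq_fintype_card, hn] at this
  omega

theorem plane_commute (hC : Central G Ω) {a b : Ω} (hab : a ≠ b) (hi : D.iCount a b = 3)
    (hn : Nat.card Ω = 16) (h4 : (FV G a b).card = 4) {z z' : G} (hz : IsZ Ω z) (hz' : IsZ Ω z') :
    z * z' = z' * z := by
  have huniq : ∀ {y y' : G}, IsZ Ω y → IsZ Ω y' → ∀ x : Ω, x ≠ y • x → y • x = y' • x → y = y' :=
    fun {y y'} hy hy' x hne he => by
      obtain ⟨_, -, -, -, hu⟩ := D.plane_swap hC hab hi hne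
      rw [hu y hy rfl, hu y' hy' he.symm]
  have hfree : ∀ y : G, IsZ Ω y → ∀ x : Ω, y • x ≠ x := by
    intro y hy x hx
    have hle : ¬ 2 ≤ (fx (Ω := Ω) y).card := fun h => hy.2.2 ⟨hy.1, hy.2.1, h⟩
    have h2 := card_fx_mod_two (Ω := Ω) hy.1
    have : 0 < (fx (Ω := Ω) y).card := card_pos.2 ⟨x, mem_fx.2 hx⟩
    omega
  refine mul_inv_eq_one.1 (D.faithful _ fun x => ?_)
  suffices h : ∀ x : Ω, z • z' • x = z' • z • x by
    obtain ⟨y, rfl⟩ : ∃ y, (z' * z) • y = x := ⟨(z' * z)⁻¹ • x, smul_inv_smul _ x⟩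
    rw [mul_smul, inv_smul_smul, mul_smul, mul_smul, h]
  intro x
  set p := z • x with hp
  set q := z' • x with hq
  have hzp : z • p = x := by rw [hp, smul_smul, hz.1, one_smul]
  have hzq : z' • q = x := by rw [hq, smul_smul, hz'.1, one_smul]
  have hpx : x ≠ p := (hfree z hz x).symm
  have hqx : x ≠ q := (hfree z' hz' x).symm
  by_cases hpq : p = q
  · rw [huniq hz hz' x hpx hpq] at hp ⊢
    rw [hp, hq]
  by_cases hqℓ : q ∈ FV G x p
  · -- collinear
    have e1 : z • q ∈ FV G x p := D.FV_stable hz.1 hpx.symm hqℓ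
    have hFV : FV G x q = FV G x p := D.FV_eq_of_mem hpx (left_mem_FV x p) hqℓ hqx
    have e2 : z' • p ∈ FV G x p := by
      rw [← hFV]
      exact D.FV_stable hz'.1 hqx.symm (by rw [hFV]; exact right_mem_FV x p)
    have hc : ((((FV G x p).erase x).erase p).erase q).card = 1 := by
      rw [card_erase_of_mem (mem_erase.2 ⟨Ne.symm hpq, mem_erase.2 ⟨hqx.symm, hqℓ⟩⟩),
        card_erase_of_mem (mem_erase.2 ⟨hpx.symm, right_mem_FV x p⟩),
        card_erase_of_mem (left_mem_FV x p), D.card_FV_eq hab hpx, h4]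
    obtain ⟨d, hd⟩ := card_eq_one.1 hc
    have m1 : z • q ∈ ((((FV G x p).erase x).erase p).erase q) := by
      refine mem_erase.2 ⟨hfree z hz q, mem_erase.2 ⟨fun e => hqx ?_, mem_erase.2 ⟨fun e => hpq ?_, e1⟩⟩⟩
      · exact (smul_left_cancel z e).symm
      · exact smul_left_cancel z (hzp.trans e.symm)
    have m2 : z' • p ∈ ((((FV G x p).erase x).erase p).erase q) := by
      refine mem_erase.2 ⟨fun e => hpx ?_, mem_erase.2 ⟨hfree z' hz' p, mem_erase.2 ⟨fun e => hpq ?_, e2⟩⟩⟩
      · exact (smul_left_cancel z' e).symm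
      · exact smul_left_cancel z' (e.trans hzq.symm)
    rw [hd, mem_singleton] at m1 m2
    rw [m1, m2]
  -- not collinear
  have hstable : ∀ {y : G}, IsZ Ω y → ∀ {s t : Ω}, t ∉ FV G s (y • s) →
      ∀ r ∈ FV G t (y • t), r ∉ FV G s (y • s) := by
    intro y hy s t ht r hr hr'
    have e1 := D.FV_stable hy.1 (hfree y hy t) hr
    have e2 := D.FV_stable hy.1 (hfree y hy s) hr'
    have hne : r ≠ y • r := (hfree y hy r).symm
    have h1 := D.FV_eq_of_mem (hfree y hy t).symm hr e1 hne
    have h2 := D.FV_eq_of_mem (hfree y hy s).symm hr' e2 hne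
    exact ht (by rw [← h2, h1]; exact left_mem_FV _ _)
  have hmove : ∀ {y y' : G}, IsZ Ω y → IsZ Ω y' → y' • x ∉ FV G x (y • x) →
      ∀ r ∈ FV G (y' • x) (y' • y • x), r ∉ FV G x (y • x) := by
    intro y y' hy hy' hnc r hr hr'
    have e1 : y' • r ∈ FV G x (y • x) := by
      rw [← smul_inv_smul y' r, mem_FV_conj, inv_eq_of_mul_eq_one_right hy'.1] at hr
      exact hr
    have hne : r ≠ y' • r := (hfree y' hy' r).symm
    have h1 := D.FV_eq_of_mem (hfree y hy x).symm hr' e1 hne
    apply hnc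
    rw [← h1]
    have h2 : x ∈ FV G r (y' • r) := by rw [h1]; exact left_mem_FV _ _
    exact D.FV_stable hy'.1 (hfree y' hy' r) h2
  have hpℓ : p ∉ FV G x q := fun h => hqℓ (by
    rw [D.FV_eq_of_mem hqx (left_mem_FV x q) h hpx]
    exact right_mem_FV x q)
  have hE1 : FV G q (z • q) = FV G q (z' • p) := by
    refine D.plane_euclid hpx hn (by rw [D.card_FV_eq hab hpx, h4]) hqℓ (hfree z hz q).symm
      (fun e => hpx ?_) (hstable hz (s := x) hqℓ) (hmove hz hz' hqℓ)
    exact smul_left_cancel z' (e.trans rfl)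
  have hE2 : FV G p (z' • p) = FV G p (z • q) := by
    refine D.plane_euclid hqx hn (by rw [D.card_FV_eq hab hqx, h4]) hpℓ (hfree z' hz' p).symm
      (fun e => hqx ?_) (hstable hz' (s := x) hpℓ) (hmove hz' hz hpℓ)
    exact smul_left_cancel z (e.trans rfl)
  by_contra hne
  have u1 : z' • p ∈ FV G q (z • q) := by rw [hE1]; exact right_mem_FV _ _
  have u2 : z • q ∈ FV G p (z' • p) := by rw [hE2]; exact right_mem_FV _ _
  have w1 := D.FV_eq_of_mem (hfree z hz q).symm (right_mem_FV _ _) u1 hne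
  have w2 := D.FV_eq_of_mem (hfree z' hz' p).symm u2 (right_mem_FV _ _) hne
  refine hstable hz (s := x) hqℓ p ?_ (right_mem_FV x p)
  rw [← w1, w2]
  exact left_mem_FV _ _

/-- The translations. -/
theorem plane_translations (hC : Central G Ω) {a b : Ω} (hab : a ≠ b) (hi : D.iCount a b = 3)
    (hn : Nat.card Ω = 16) (h4 : (FV G a b).card = 4) :
    ∃ N : Subgroup G, N.Normal ∧ (∀ x ∈ N, ∀ y ∈ N, x * y = y * x) ∧ (∀ x ∈ N, x * x = 1) ∧
      ∀ c d : Ω, ∃! g : G, g ∈ N ∧ g • c = d := by
  have hfree : ∀ y : G, IsZ Ω y → ∀ x : Ω, y • x ≠ x := by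
    intro y hy x hx
    have hle : ¬ 2 ≤ (fx (Ω := Ω) y).card := fun h => hy.2.2 ⟨hy.1, hy.2.1, h⟩
    have h2 := card_fx_mod_two (Ω := Ω) hy.1
    have : 0 < (fx (Ω := Ω) y).card := card_pos.2 ⟨x, mem_fx.2 hx⟩
    omega
  have hcomm := fun {z z' : G} => D.plane_commute hC hab hi hn h4 (z := z) (z' := z')
  let N : Subgroup G :=
    { carrier := {g | g = 1 ∨ IsZ Ω g}
      one_mem' := Or.inl rfl
      inv_mem' := fun {g} hg => by
        rcases hg with rfl | hg
        · exact Or.inl inv_one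
        · exact Or.inr (by rwa [inv_eq_of_mul_eq_one_right hg.1])
      mul_mem' := fun {g h} hg hh => by
        rcases hg with rfl | hg
        · simpa using hh
        rcases hh with rfl | hh
        · simpa using (Or.inr hg : g = 1 ∨ IsZ Ω g)
        by_cases he : g = h
        · exact Or.inl (he ▸ hg.1)
        right
        have hgh1 : g * h ≠ 1 := fun e => he (mul_right_cancel (e.trans hh.1.symm))
        refine ⟨?_, hgh1, fun hT => ?_⟩
        · rw [mul_assoc, ← mul_assoc h, ← hcomm hg hh, mul_assoc g, hh.1, mul_one, hg.1]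
        obtain ⟨c, hc⟩ := card_pos.1 (lt_of_lt_of_le (by norm_num : 0 < 2) hT.2.2)
        have hgc : g • c = h • c := by
          have e := mem_fx.1 hc
          calc g • c = g • (g * h) • c := by rw [e]
            _ = h • c := by rw [smul_smul, ← mul_assoc, hg.1, one_mul]
        obtain ⟨_, -, -, -, hu⟩ := D.plane_swap hC hab hi (hfree g hg c).symm
        exact he ((hu g hg rfl).trans (hu h hh hgc.symm).symm) }
  have hmem : ∀ g, g ∈ N ↔ g = 1 ∨ IsZ Ω g := fun g => Iff.rfl
  refine ⟨N, ⟨fun n hn g => ?_⟩, fun x hx y hy => ?_, fun x hx => ?_, fun c d => ?_⟩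
  · rcases (hmem n).1 hn with rfl | hn
    · simp [hmem]
    · exact Or.inr (hn.conj g)
  · rcases (hmem x).1 hx with rfl | hx
    · simp
    rcases (hmem y).1 hy with rfl | hy
    · simp
    exact hcomm hx hy
  · rcases (hmem x).1 hx with rfl | hx
    exacts [one_mul 1, hx.1]
  · by_cases hcd : c = d
    · refine ⟨1, ⟨one_mem _, by rw [one_smul, hcd]⟩, fun g ⟨hg, hgc⟩ => ?_⟩
      rcases (hmem g).1 hg with rfl | hg
      · rfl
      · exact absurd (hgc.trans hcd.symm) (hfree g hg c)
    · obtain ⟨z, hz, hzc, -, hu⟩ := D.plane_swap hC hab hi hcd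
      refine ⟨z, ⟨Or.inr hz, hzc⟩, fun g ⟨hg, hgc⟩ => ?_⟩
      rcases (hmem g).1 hg with rfl | hg
      · exact absurd ((one_smul G c).symm.trans hgc) hcd
      · exact hu g hg hgc

/-- The fixed-point-free element of order three centralized by the stabilizer of a point. -/
theorem plane_omega (hK : KV G Ω) {a b : Ω} (hab : a ≠ b) (hn : Nat.card Ω = 16)
    (h4 : (FV G a b).card = 4) :
    ∃ ω : G, ω * ω * ω = 1 ∧ ω • a = a ∧ (∀ x : Ω, ω • x = x → x = a) ∧
      ∀ g : G, g • a = a → g * ω = ω * g := by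
  haveI : Fact (Nat.Prime 3) := ⟨by norm_num⟩
  set Y := stabilizer G a with hY
  have hYc : Nat.card Y = 180 := by rw [D.card_stab a, hn]
  set L : Finset (Finset Ω) := ((univ : Finset Ω).erase a).image (FV G a) with hL
  have hLmem : ∀ g : G, g • a = a → ∀ ℓ ∈ L, ℓ.image (g • ·) ∈ L := by
    intro g hg ℓ hℓ
    obtain ⟨x, hx, rfl⟩ := mem_image.1 hℓ
    refine mem_image.2 ⟨g • x, mem_erase.2 ⟨fun e => (mem_erase.1 hx).1
      (smul_left_cancel g (e.trans hg.symm)), mem_univ _⟩, ext fun y => ?_⟩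
    rw [← smul_inv_smul g y]
    conv_lhs => rw [← hg, mem_FV_conj]
    exact ((Function.Injective.mem_finset_image (MulAction.injective (β := Ω) g)).symm : _)
  have hL5 : L.card = 5 := by
    have h := card_eq_sum_card_image (FV G a) ((univ : Finset Ω).erase a)
    rw [card_erase_of_mem (mem_univ a), card_univ, ← Nat.card_eq_fintype_card, hn,
      sum_congr rfl (g := fun _ => 3) fun ℓ hℓ => ?_, sum_const, smul_eq_mul, ← hL] at h
    · omega
    obtain ⟨x, hx, rfl⟩ := mem_image.1 hℓ
    have hax : a ≠ x := (mem_erase.1 hx).1.symm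
    rw [show ((univ : Finset Ω).erase a).filter (fun y => FV G a y = FV G a x) = (FV G a x).erase a from ?_,
      card_erase_of_mem (left_mem_FV a x), D.card_FV_eq hab hax, h4]
    ext y
    simp only [mem_filter, mem_erase, Finset.mem_univ, and_true]
    exact ⟨fun ⟨h1, h2⟩ => ⟨h1, h2 ▸ right_mem_FV a y⟩,
      fun ⟨h1, h2⟩ => ⟨h1, D.FV_eq_of_mem hax (left_mem_FV a x) h2 h1.symm⟩⟩
  let φ : Y →* Equiv.Perm {ℓ // ℓ ∈ L} :=
    MonoidHom.mk' (fun g =>
      { toFun := fun ℓ => ⟨ℓ.1.image ((g : G) • ·), hLmem g g.2 ℓ ℓ.2⟩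
        invFun := fun ℓ => ⟨ℓ.1.image ((g : G)⁻¹ • ·), hLmem _ (inv_mem g.2) ℓ ℓ.2⟩
        left_inv := fun ℓ => Subtype.ext (by simp [image_image, Function.comp_def])
        right_inv := fun ℓ => Subtype.ext (by simp [image_image, Function.comp_def]) })
      fun g h => Equiv.ext fun ℓ => Subtype.ext (by
        simp [image_image, Function.comp_def, mul_smul])
  have hker : ∀ g ∈ φ.ker, ∀ x : Ω, x ≠ a → (g : G) • x ∈ FV G a x := by
    intro g hg x hx
    have h := congrArg Subtype.val (Equiv.ext_iff.1 (MonoidHom.mem_ker.1 hg)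
      ⟨FV G a x, mem_image.2 ⟨x, mem_erase.2 ⟨hx, mem_univ _⟩, rfl⟩⟩)
    rw [show FV G a x = (FV G a x).image ((g : G) • ·) from h.symm]
    exact mem_image_of_mem _ (right_mem_FV a x)
  -- an element of the kernel fixing a second point
  have hone : ∀ g ∈ φ.ker, ∀ y : Ω, y ≠ a → (g : G) • y = y → g = 1 := by
    have hinv : ∀ g ∈ φ.ker, ∀ y : Ω, y ≠ a → (g : G) • y = y → (g : G) * g = 1 → g = 1 := by
      intro g hg y hy hgy hgg
      by_contra hne
      have hV : InV a y (g : G) := ⟨g.2, hgy, hgg⟩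
      have hfx := hK a y hy.symm _ hV fun e => hne (Subtype.ext e)
      obtain ⟨x, hx⟩ : ∃ x, x ∈ (univ : Finset Ω) \ FV G a y := card_pos.1 (by
        rw [card_sdiff, inter_univ, card_univ, ← Nat.card_eq_fintype_card, hn, D.card_FV_eq hab hy.symm, h4]
        norm_num)
      have hxℓ : x ∉ FV G a y := (mem_sdiff.1 hx).2
      have hxa : x ≠ a := fun e => hxℓ (by rw [e]; exact left_mem_FV a y)
      have hinvm : ∀ p ∈ FV G a x, (g : G) • p ∈ FV G a x := by
        intro p hp
        by_cases hpa : p = a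
        · rw [hpa, g.2]; exact left_mem_FV a x
        · rw [← D.FV_eq_of_mem hxa.symm (left_mem_FV a x) hp (Ne.symm hpa)]
          exact hker g hg p hpa
      have h2 := card_inter_fx_mod_two (g : G) (FV G a x) hinvm fun p _ => by rw [smul_smul, hgg, one_smul]
      rw [D.card_FV_eq hab hxa.symm, h4] at h2
      have ha' : a ∈ FV G a x ∩ fx (g : G) := mem_inter.2 ⟨left_mem_FV a x, mem_fx.2 g.2⟩
      obtain ⟨p, hp, hpa⟩ := exists_mem_ne (s := FV G a x ∩ fx (g : G)) (by
        have := card_pos.2 ⟨a, ha'⟩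
        omega) a
      obtain ⟨hp1, hp2⟩ := mem_inter.1 hp
      rw [hfx] at hp2
      refine hxℓ ?_
      rw [← D.FV_eq_of_mem hy.symm (left_mem_FV a y) hp2 (Ne.symm hpa),
        D.FV_eq_of_mem hxa.symm (left_mem_FV a x) hp1 (Ne.symm hpa)]
      exact right_mem_FV a x
    intro g hg y hy hgy
    by_contra hne
    have hgg : (g : G) * g ≠ 1 := fun e => hne (hinv g hg y hy hgy e)
    obtain ⟨w, hw, hw1⟩ := D.exists_T hy.symm
    have hgV : InV a y ((g : G) * w * (g : G)⁻¹) := by
      have := hw.conj (g : G)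
      rwa [show (g : G) • a = a from g.2, hgy] at this
    let w' : Y := ⟨w, hw.1⟩
    have hk : g * w' * g⁻¹ * w' ∈ φ.ker := by
      have h1 : w' * g⁻¹ * w'⁻¹ ∈ φ.ker := (MonoidHom.normal_ker φ).conj_mem _ (inv_mem hg) w'
      rw [show w'⁻¹ = w' from inv_eq_of_mul_eq_one_right (Subtype.ext hw.2.2)] at h1
      have := mul_mem hg h1
      rwa [← mul_assoc, ← mul_assoc] at this
    have hc := (D.inV_mul hy.symm hgV hw).2
    have h1 := hinv _ hk y hy hc.2.1 hc.2.2
    have h2 : (g : G) * w * (g : G)⁻¹ = w :=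
      mul_right_cancel ((congrArg Subtype.val h1).trans hw.2.2.symm)
    exact hgg (D.inV_of_commute hy.symm hw hw1 g.2 hgy (mul_inv_eq_iff_eq_mul.1 h2).symm).2.2
  -- the order of the kernel
  have hkle : Nat.card φ.ker ≤ 3 := by
    have h3 : ((FV G a b).erase a).card = 3 := by rw [card_erase_of_mem (left_mem_FV a b), h4]
    rw [← h3, ← Fintype.card_coe, ← Nat.card_eq_fintype_card]
    refine Nat.card_le_card_of_injective (fun g => ⟨((g : Y) : G) • b, mem_erase.2 ⟨fun e => hab ?_,
      hker _ g.2 b hab.symm⟩⟩) fun g g' h => ?_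
    · exact (smul_left_cancel _ (e.trans ((g : Y).2).symm)).symm
    · have h' : ((g : Y) : G) • b = ((g' : Y) : G) • b := congrArg Subtype.val h
      have := hone _ (mul_mem (inv_mem g'.2) g.2) b hab.symm (by
        rw [Subgroup.coe_mul, Subgroup.coe_inv, mul_smul, h', inv_smul_smul])
      exact Subtype.ext (inv_mul_eq_one.1 this).symm
  have hk3 : Nat.card φ.ker = 3 := by
    have h1 := φ.ker.card_mul_index
    rw [Subgroup.index_ker, hYc] at h1
    have h2 := Subgroup.card_subgroup_dvd_card φ.range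
    rw [Nat.card_perm, Nat.card_eq_fintype_card (α := {ℓ // ℓ ∈ L}), Fintype.card_coe, hL5,
      show (5 : ℕ).factorial = 120 from rfl] at h2
    have hpos := Nat.card_pos (α := φ.ker)
    rcases (by omega : Nat.card φ.ker = 1 ∨ Nat.card φ.ker = 2 ∨ Nat.card φ.ker = 3) with h | h | h
    · rw [h] at h1
      rw [show Nat.card φ.range = 180 by omega] at h2
      norm_num at h2
    · rw [h] at h1
      rw [show Nat.card φ.range = 90 by omega] at h2
      norm_num at h2
    · exact h
  obtain ⟨⟨ω, hω⟩, hωo⟩ := exists_prime_orderOf_dvd_card' (G := φ.ker) 3 (by rw [hk3])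
  rw [Subgroup.orderOf_mk] at hωo
  have hω3 : ω * ω * ω = 1 := by rw [← pow_three', ← hωo, pow_orderOf_eq_one]
  have hω1 : ω ≠ 1 := fun e => by rw [e, orderOf_one] at hωo; omega
  have hωne : ω⁻¹ ≠ ω := fun e => hω1 (by
    have h2 : ω * ω = 1 := inv_eq_iff_mul_eq_one.1 e
    rwa [h2, one_mul] at hω3)
  have hall : φ.ker = Subgroup.zpowers ω := (Subgroup.eq_of_le_of_card_ge (Subgroup.zpowers_le.2 hω)
    (by rw [Nat.card_zpowers, hωo, hk3])).symm
  have hcases : ∀ g : Y, g * ω * g⁻¹ = ω ∨ g * ω * g⁻¹ = ω⁻¹ := by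
    intro g
    have h1 : g * ω * g⁻¹ ∈ Subgroup.zpowers ω := hall ▸ (MonoidHom.normal_ker φ).conj_mem _ hω g
    rw [mem_zpowers_iff_mem_range_orderOf, hωo] at h1
    obtain ⟨i, hi, he⟩ := Finset.mem_image.1 h1
    rw [Finset.mem_range] at hi
    interval_cases i
    · rw [pow_zero] at he; exact absurd (conj_eq_one_iff.1 he.symm) hω1
    · exact Or.inl (by rw [← he, pow_one])
    · exact Or.inr (by rw [← he]; exact (eq_inv_of_mul_eq_one_left (by rw [← pow_succ, show (2 + 1 : ℕ) = 3 from rfl, ← hωo, pow_orderOf_eq_one])))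
  have hcube : ∀ g : Y, g * g * g = 1 → g * ω = ω * g := by
    intro g hg
    refine mul_inv_eq_iff_eq_mul.1 ((hcases g).resolve_right fun h => hωne ?_)
    have hi : g * ω⁻¹ * g⁻¹ = ω := by
      rw [show g * ω⁻¹ * g⁻¹ = (g * ω * g⁻¹)⁻¹ by group, h, inv_inv]
    calc ω⁻¹ = g * (g * (g * ω * g⁻¹) * g⁻¹) * g⁻¹ := by rw [h, hi, h]
      _ = (g * g * g) * ω * (g * g * g)⁻¹ := by group
      _ = ω := by rw [hg]; group
  set C := Subgroup.centralizer ({ω} : Set Y) with hCdef
  have hCtop : ∀ g : Y, g ∈ C := by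
    -- the four-group centralizes
    have hVC : ∀ v : G, (hv : InV a b v) → (⟨v, hv.1⟩ : Y) ∈ C := by
      intro v hv
      refine Subgroup.mem_centralizer_singleton_iff.2 ?_
      by_cases hv1 : v = 1
      · subst hv1
        rw [show (⟨1, hv.1⟩ : Y) = 1 from rfl, one_mul, mul_one]
      obtain ⟨x, xa, xb, x3, x1, -⟩ := D.exists_three hab
      have hxx : x * x ≠ 1 := fun e => x1 (by rwa [e, one_mul] at x3)
      have hxv : (x * v) * (x * v) ≠ 1 := fun e => by
        have hV : InV a b (x * v) := ⟨by rw [mul_smul, hv.1, xa], by rw [mul_smul, hv.2.1, xb], e⟩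
        have := (D.inV_mul hab hV hv).2.2.2
        rw [mul_assoc x, hv.2.2, mul_one] at this
        exact hxx this
      have hxv3 : (x * v) * (x * v) * (x * v) = 1 := by
        obtain ⟨e⟩ := D.iso a b hab
        have hm : x * v ∈ stabilizer G a ⊓ stabilizer G b :=
          ⟨show (x * v) • a = a by rw [mul_smul, hv.1, xa], show (x * v) • b = b by rw [mul_smul, hv.2.1, xb]⟩
        have h3 := (alt_three (e ⟨x * v, hm⟩) (fun h => hxv (by
          rw [← map_mul, MulEquiv.map_eq_one_iff] at h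
          exact congrArg Subtype.val h))).1
        rw [← map_mul, ← map_mul, MulEquiv.map_eq_one_iff] at h3
        exact congrArg Subtype.val h3
      have c1 := hcube ⟨x, xa⟩ (Subtype.ext x3)
      have c2 := hcube ⟨x * v, by show (x * v) • a = a; rw [mul_smul, hv.1, xa]⟩ (Subtype.ext hxv3)
      have := (Commute.mul_left (Commute.inv_left (c1 : Commute _ ω)) (c2 : Commute _ ω)).eq
      rwa [show (⟨x, xa⟩ : Y)⁻¹ * ⟨x * v, _⟩ = ⟨v, hv.1⟩ from Subtype.ext (inv_mul_cancel_left x v)] at this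
    by_contra h
    push Not at h
    obtain ⟨g0, hg0⟩ := h
    have hidx : C.index = 2 := by
      rw [Subgroup.index_eq_two_iff]
      refine ⟨g0, fun g => ?_⟩
      simp only [hCdef, Subgroup.mem_centralizer_singleton_iff, ← mul_inv_eq_iff_eq_mul]
      have h0 : g0 * ω * g0⁻¹ = ω⁻¹ := (hcases g0).resolve_left fun h => hg0
        (Subgroup.mem_centralizer_singleton_iff.2 (mul_inv_eq_iff_eq_mul.1 h))
      have key : g * g0 * ω * (g * g0)⁻¹ = (g * ω * g⁻¹)⁻¹ := by
        rw [show g * g0 * ω * (g * g0)⁻¹ = g * (g0 * ω * g0⁻¹) * g⁻¹ by group, h0]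
        group
      rw [key]
      rcases hcases g with e | e <;> rw [e]
      · exact Or.inr ⟨rfl, hωne⟩
      · rw [inv_inv]; exact Or.inl ⟨rfl, hωne⟩
    have h1 := C.card_mul_index
    rw [hidx, hYc] at h1
    have hle : (fourGroup D hab).subgroupOf Y ≤ C := fun g hg => hVC (g : G) hg
    have h2 := Subgroup.card_dvd_of_le hle
    rw [Nat.card_congr (Subgroup.subgroupOfEquivOfLe (show fourGroup D hab ≤ Y from fun g hg => hg.1)).toEquiv,
      card_fourGroup] at h2
    omega
  refine ⟨(ω : G), congrArg Subtype.val hω3, ω.2, fun x hx => ?_, fun g hg => ?_⟩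
  · by_contra hxa
    exact hω1 (hone ω hω x hxa hx)
  · exact congrArg Subtype.val (Subgroup.mem_centralizer_singleton_iff.1 (hCtop ⟨g, hg⟩))

/-- The affine group of the plane over the field of four elements. -/
theorem iso_affine (hC : Central G Ω) (hK : KV G Ω) {a b : Ω} (hab : a ≠ b) (hi : D.iCount a b = 3)
    {J : G} (hJ : InV a b J) (hJ1 : J ≠ 1) (hf : (fx (Ω := Ω) J).card = 4) :
    Fintype.card Ω = 16 ∧ ∃ (F : Type) (_ : Field F) (_ : Fintype F), Fintype.card F = 4 ∧
      Nonempty (G ≃* ((Fin 2 → F) ≃ᵃ[F] (Fin 2 → F))) := by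
  have hn : Nat.card Ω = 16 := by
    have h := D.swap_equation hab (isT_of_inV hab hJ hJ1)
    rw [hi, hf] at h
    omega
  have h4 : (FV G a b).card = 4 := by rw [← D.kv_card hK hab hJ hJ1, hf]
  refine ⟨by rw [← Nat.card_eq_fintype_card, hn], ?_⟩
  obtain ⟨N, hN, hab', hsq, hreg⟩ := D.plane_translations hC hab hi hn h4
  obtain ⟨ω, hω3, hωa, hωx, hωc⟩ := D.plane_omega hK hab hn h4
  haveI : IsMulCommutative N := ⟨⟨fun x y => Subtype.ext (hab' x x.2 y y.2)⟩⟩
  letI : CommGroup N := { (inferInstance : Group N) with mul_comm := fun x y => Subtype.ext (hab' x x.2 y y.2) }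
  let ι : N → Ω := fun m => (m : G) • a
  have hι : Function.Bijective ι := by
    refine ⟨fun m m' h => Subtype.ext ((hreg a ((m : G) • a)).unique ⟨m.2, rfl⟩ ⟨m'.2, h.symm⟩),
      fun x => ?_⟩
    obtain ⟨g, ⟨hg, hgx⟩, -⟩ := hreg a x
    exact ⟨⟨g, hg⟩, hgx⟩
  let cj : G →* MulAut N := MulAut.conjNormal
  let ad : G → (Additive N →+ Additive N) := fun g => MonoidHom.toAdditive (cj g).toMonoidHom
  have hconj : ∀ (g : G) (m : N), ((cj g m : N) : G) = g * m * g⁻¹ := fun g m =>
    MulAut.conjNormal_apply g m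
  have hωinv : ω⁻¹ • a = a := inv_smul_eq_iff.2 hωa.symm
  -- the field structure
  have hα : ∀ x : Additive N, ad ω (ad ω x) + ad ω x + x = 0 := by
    intro x
    set m : N := Additive.toMul x
    set p : N := cj ω (cj ω m) * cj ω m * m with hp
    have hfix : cj ω p = p := by
      have h3 : cj ω (cj ω (cj ω m)) = m := by
        rw [← MulAut.mul_apply, ← MulAut.mul_apply, ← map_mul, ← map_mul, hω3, map_one]
        rfl
      rw [hp, map_mul, map_mul, h3, mul_assoc, mul_comm]
    have : p = 1 := by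
      have e : ω • (p : G) • a = (p : G) • a := by
        conv_rhs => rw [← hfix]
        rw [hconj, mul_smul, mul_smul, hωinv]
      exact hι.1 (a₁ := p) (a₂ := 1) ((hωx _ e).trans (one_smul G a).symm)
    exact congrArg Additive.ofMul this
  have hM : Nat.card (Additive N) = 16 := by
    rw [← hn]
    exact Nat.card_eq_of_bijective (fun x => ι (Additive.toMul x)) hι
  obtain ⟨F, hF, hF', Φ, hcard, hlin⟩ := exists_field_four hM
    (fun x => congrArg Additive.ofMul (Subtype.ext (hsq _ (Additive.toMul x).2))) (ad ω) hα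
  refine ⟨F, hF, hF', hcard, ?_⟩
  -- commuting with `ω`
  have hcommω : ∀ (g : G) (x : Additive N), ad g (ad ω x) = ad ω (ad g x) := by
    intro g x
    obtain ⟨n, ⟨hn, hna⟩, -⟩ := hreg a (g • a)
    have hh : (n⁻¹ * g) • a = a := by rw [mul_smul, ← hna, inv_smul_smul]
    have hc := hωc _ hh
    have htriv : ∀ y : N, cj n y = y := fun y => Subtype.ext (by
      rw [hconj, hab' n hn y y.2, mul_inv_cancel_right])
    have hg : cj g = cj (n⁻¹ * g) := MulEquiv.ext fun y => by
      conv_lhs => rw [show g = n * (n⁻¹ * g) by group, map_mul, MulAut.mul_apply, htriv]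
    show Additive.ofMul (cj g (cj ω (Additive.toMul x))) = Additive.ofMul (cj ω (cj g (Additive.toMul x)))
    rw [hg, ← MulAut.mul_apply, ← map_mul, hc, map_mul, MulAut.mul_apply]
  -- the affine maps
  let pt : (Fin 2 → F) ≃ Ω := Equiv.ofBijective (fun p => ι (Additive.toMul (Φ.symm p)))
    (hι.comp (Φ.symm.bijective))
  let lin : G → ((Fin 2 → F) ≃ₗ[F] (Fin 2 → F)) := fun g =>
    { toFun := fun p => Φ (ad g (Φ.symm p))
      invFun := fun p => Φ (ad g⁻¹ (Φ.symm p))
      map_add' := fun p q => by rw [map_add, map_add, map_add]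
      map_smul' := fun r p => hlin (ad g) (hcommω g) r p
      left_inv := fun p => by
        show Φ (ad g⁻¹ (Φ.symm (Φ (ad g (Φ.symm p))))) = p
        rw [AddEquiv.symm_apply_apply]
        show Φ (Additive.ofMul (cj g⁻¹ (cj g (Additive.toMul (Φ.symm p))))) = p
        rw [← MulAut.mul_apply, ← map_mul, inv_mul_cancel, map_one]
        exact Φ.apply_symm_apply p
      right_inv := fun p => by
        show Φ (ad g (Φ.symm (Φ (ad g⁻¹ (Φ.symm p))))) = p
        rw [AddEquiv.symm_apply_apply]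
        show Φ (Additive.ofMul (cj g (cj g⁻¹ (Additive.toMul (Φ.symm p))))) = p
        rw [← MulAut.mul_apply, ← map_mul, mul_inv_cancel, map_one]
        exact Φ.apply_symm_apply p }
  let aff : G → ((Fin 2 → F) ≃ᵃ[F] (Fin 2 → F)) := fun g =>
    { toEquiv := (pt.trans (MulAction.toPerm g)).trans pt.symm
      linear := lin g
      map_vadd' := fun p w => by
        show pt.symm (g • pt (w + p)) = Φ (ad g (Φ.symm w)) + pt.symm (g • pt p)
        rw [Equiv.symm_apply_eq]
        have hsum : ∀ (y : Additive N) (q : Fin 2 → F), pt (Φ y + q) = ((Additive.toMul y : N) : G) • pt q := by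
          intro y q
          show ι (Additive.toMul (Φ.symm (Φ y + q))) = _
          rw [map_add, AddEquiv.symm_apply_apply]
          exact mul_smul _ _ a
        rw [hsum, Equiv.apply_symm_apply]
        conv_lhs => rw [← Φ.apply_symm_apply w, hsum]
        show _ = ((cj g (Additive.toMul (Φ.symm w)) : N) : G) • g • pt p
        rw [hconj, conj_smul] }
  have haff : ∀ g p, aff g p = pt.symm (g • pt p) := fun g p => rfl
  let hom : G →* ((Fin 2 → F) ≃ᵃ[F] (Fin 2 → F)) := MonoidHom.mk' aff fun g h =>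
    AffineEquiv.ext fun p => by
      rw [AffineEquiv.coe_mul, Function.comp_apply, haff, haff, haff, Equiv.apply_symm_apply, mul_smul]
  have hinj : Function.Injective hom := by
    refine (injective_iff_map_eq_one hom).2 fun g hg => D.faithful g fun x => ?_
    obtain ⟨p, rfl⟩ := pt.surjective x
    have h := DFunLike.congr_fun hg p
    exact (Equiv.symm_apply_eq _).1 h
  -- the order of the affine group
  have hGL : Nat.card ((Fin 2 → F) ≃ₗ[F] (Fin 2 → F)) = 180 := by
    rw [← Nat.card_congr (LinearMap.GeneralLinearGroup.generalLinearEquiv F (Fin 2 → F)).toEquiv,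
      ← Nat.card_congr (Matrix.GeneralLinearGroup.toLin (n := Fin 2) (R := F)).toEquiv,
      Matrix.card_GL_field, hcard, Fin.prod_univ_two]
    rfl
  let χ : ((Fin 2 → F) ≃ᵃ[F] (Fin 2 → F)) → (Fin 2 → F) × ((Fin 2 → F) ≃ₗ[F] (Fin 2 → F)) :=
    fun A => (A 0, A.linear)
  have hχ : Function.Injective χ := fun A B h => AffineEquiv.ext fun p => by
    have hA := A.map_vadd 0 p
    have hB := B.map_vadd 0 p
    simp only [vadd_eq_add, add_zero] at hA hB
    rw [hA, hB]
    simp only [χ, Prod.mk.injEq] at h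
    rw [h.1, h.2]
  haveI : Finite ((Fin 2 → F) ≃ₗ[F] (Fin 2 → F)) := Nat.finite_of_card_ne_zero (by rw [hGL]; norm_num)
  haveI : Finite ((Fin 2 → F) ≃ᵃ[F] (Fin 2 → F)) := Finite.of_injective χ hχ
  have hle : Nat.card ((Fin 2 → F) ≃ᵃ[F] (Fin 2 → F)) ≤ Nat.card G := by
    refine (Nat.card_le_card_of_injective χ hχ).trans_eq ?_
    rw [Nat.card_prod, hGL, D.card_G, hn, Nat.card_eq_fintype_card, Fintype.card_fun, hcard,
      Fintype.card_fin]
    norm_num
  exact ⟨MulEquiv.ofBijective hom
    ((Nat.bijective_iff_injective_and_card hom).2 ⟨hinj, le_antisymm (Nat.card_le_card_of_injective _ hinj) hle⟩)⟩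

end Hyp

end CfsgLib.TwoPointA4
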