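import Cfsg.Agent.TwoPointA4.Sym
import Mathlib.GroupTheory.Transfer

/-!
# Degree six and degree twenty-eight
-/

set_option autoImplicit false
set_option linter.unusedSectionVars false
set_option linter.style.haveILetI false

namespace CfsgLib.TwoPointA4

open MulAction Finset
open scoped Classical

universe u v

variable {G : Type u} {Ω : Type v} [Group G] [MulAction G Ω] [Fintype Ω] [Fintype G]

namespace Hyp

variable (D : Hyp G Ω)
include D

theorem iso_altSix (hn : Fintype.card Ω = 6) : Nonempty (G ≃* ↥(alternatingGroup (Fin 6))) := by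
  let φ := MulAction.toPermHom G Ω
  have hinj : Function.Injective φ := (injective_iff_map_eq_one φ).2 fun g hg =>
    D.faithful g fun x => Equiv.ext_iff.1 hg x
  have hG : Nat.card G = 360 := by
    rw [D.card_G, Nat.card_eq_fintype_card (α := Ω), hn]
  have hr : φ.range.index = 2 := by
    have h := φ.range.card_mul_index
    rw [← Nat.card_congr (MonoidHom.ofInjective hinj).toEquiv, hG, Nat.card_perm,
      Nat.card_eq_fintype_card, hn] at h
    simp [Nat.factorial] at h
    omega
  exact ⟨((MonoidHom.ofInjective hinj).trans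
    (MulEquiv.subgroupCongr (Equiv.Perm.eq_alternatingGroup_of_index_eq_two hr))).trans
      (Equiv.altCongrHom (Fintype.equivFinOfCardEq hn))⟩

theorem card_ne_28 (hS : SymType G Ω) {a b : Ω} (hab : a ≠ b) {J : G} (hJ : InV a b J) (hJ1 : J ≠ 1)
    (hf : (fx (Ω := Ω) J).card = 4) : False := by
  haveI : Fact (Nat.Prime 7) := ⟨by norm_num⟩
  haveI : Fact (Nat.Prime 2) := ⟨Nat.prime_two⟩
  have hJT := isT_of_inV hab hJ hJ1
  have hn : Nat.card Ω = 28 := by rw [D.sym_card_omega hS hab hJT, hf]
  have hG : Nat.card G = 9072 := by rw [D.card_G, hn]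
  let P : Sylow 7 G := default
  have hP : Nat.card P = 7 := by
    rw [P.card_eq_multiplicity, hG, show (9072 : ℕ) = 7 * 1296 by norm_num,
      Nat.factorization_mul (by norm_num) (by norm_num), Finsupp.add_apply,
      Nat.Prime.factorization_self (by norm_num),
      Nat.factorization_eq_zero_of_not_dvd (n := 1296) (by norm_num)]
    norm_num
  set N := Subgroup.normalizer ((P : Subgroup G) : Set G) with hN
  haveI : IsCyclic (P : Subgroup G) := isCyclic_of_prime_card hP
  haveI : IsMulCommutative (P : Subgroup G) := IsCyclic.isMulCommutative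
  -- the centralizer has odd order
  have hC2 : ¬ 2 ∣ Nat.card (Subgroup.centralizer ((P : Subgroup G) : Set G)) := by
    intro h
    obtain ⟨t, ht⟩ := exists_prime_orderOf_dvd_card' 2 h
    rw [← Subgroup.orderOf_coe] at ht
    have htt : (t : G) * t = 1 := by rw [← sq, ← ht, pow_orderOf_eq_one]
    have ht1 : (t : G) ≠ 1 := fun e => by rw [e, orderOf_one] at ht; omega
    have hT := D.sym_isT hS htt ht1
    have hle : (P : Subgroup G) ≤ Subgroup.centralizer ({(t : G)} : Set G) := fun y hy =>
      Subgroup.mem_centralizer_singleton_iff.2 (Subgroup.mem_centralizer_iff.1 t.2 y hy)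
    have h7 := Subgroup.card_dvd_of_le hle
    rw [hP, D.card_cent hT, D.card_fx_T hJT hT, hf] at h7
    norm_num at h7
  -- the automizer
  have hNC : Nat.card N ∣ Nat.card (Subgroup.centralizer ((P : Subgroup G) : Set G)) * 6 := by
    let f := MulAut.conjNormal (H := (P : Subgroup G).subgroupOf N)
    have hker : Nat.card f.ker = Nat.card (Subgroup.centralizer ((P : Subgroup G) : Set G)) := by
      refine Nat.card_congr
        { toFun := fun g => ⟨((g : N) : G), Subgroup.mem_centralizer_iff.2 fun y hy => ?_⟩
          invFun := fun g => ⟨⟨g, Subgroup.centralizer_le_normalizer _ g.2⟩, ?_⟩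
          left_inv := fun g => rfl
          right_inv := fun g => rfl }
      · have h := congrArg (fun z => ((z.1 : N) : G))
          (MulEquiv.ext_iff.1 g.2 ⟨⟨y, Subgroup.le_normalizer hy⟩, hy⟩)
        simp only [f, MulAut.conjNormal_apply, MulAut.one_apply, Subgroup.coe_mul, Subgroup.coe_inv] at h
        exact (mul_inv_eq_iff_eq_mul.1 h).symm
      · refine MulEquiv.ext fun y => Subtype.ext (Subtype.ext ?_)
        simp only [f, MulAut.conjNormal_apply, MulAut.one_apply, Subgroup.coe_mul, Subgroup.coe_inv]
        have hc : ((y.1 : N) : G) * (g : G) = (g : G) * ((y.1 : N) : G) :=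
          Subgroup.mem_centralizer_iff.1 g.2 _ y.2
        rw [← hc, mul_inv_cancel_right]
    have hP' : Nat.card ((P : Subgroup G).subgroupOf N) = 7 := by
      rw [Nat.card_congr (Subgroup.subgroupOfEquivOfLe (Subgroup.le_normalizer)).toEquiv, hP]
    haveI : IsCyclic ((P : Subgroup G).subgroupOf N) := isCyclic_of_prime_card hP'
    have hcard : Nat.card (MulAut ((P : Subgroup G).subgroupOf N)) = 6 := by
      rw [IsCyclic.card_mulAut, hP', Nat.totient_prime (by norm_num)]
    rw [← f.ker.card_mul_index, Subgroup.index_ker, hker]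
    exact Nat.mul_dvd_mul_left _ (hcard ▸ Subgroup.card_subgroup_dvd_card f.range)
  have hN4 : ¬ 4 ∣ Nat.card N := fun h => by
    have h' : 2 * 2 ∣ Nat.card (Subgroup.centralizer ((P : Subgroup G) : Set G)) * 3 * 2 := by
      rw [mul_assoc]; exact h.trans hNC
    exact hC2 ((Nat.Coprime.dvd_of_dvd_mul_right (by norm_num)
      (Nat.dvd_of_mul_dvd_mul_right (by norm_num) h')))
  obtain ⟨m, hm⟩ : 7 ∣ Nat.card N := hP ▸ Subgroup.card_dvd_of_le Subgroup.le_normalizer
  have hidx := N.card_mul_index
  rw [hm, hG, mul_assoc, show (9072 : ℕ) = 7 * 1296 by norm_num] at hidx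
  have hmi : m * N.index = 1296 := Nat.eq_of_mul_eq_mul_left (by norm_num) hidx
  have hmod : N.index % 7 = 1 := by
    have h : Nat.card (Sylow 7 G) = N.index := P.card_eq_index_normalizer
    rw [← h]
    exact card_sylow_modEq_one 7 G
  have hcases : m = 1 ∨ m = 162 := by
    have key : ∀ m' : ℕ, m' ∈ Nat.divisors 1296 → ¬ 4 ∣ 7 * m' → (1296 / m') % 7 = 1 → m' = 1 ∨ m' = 162 := by
      decide +kernel
    have hdiv : 1296 / m = N.index := by
      rw [← hmi, Nat.mul_div_cancel_left _ (Nat.pos_of_ne_zero fun h => by simp [h] at hmi)]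
    exact key m (Nat.mem_divisors.2 ⟨⟨_, hmi.symm⟩, by norm_num⟩) (hm ▸ hN4) (hdiv ▸ hmod)
  rcases hcases with rfl | rfl
  · -- a normal complement
    rw [mul_one] at hm
    have hNP : N ≤ Subgroup.centralizer ((P : Subgroup G) : Set G) := by
      have hPN : (P : Subgroup G) = N := Subgroup.eq_of_le_of_card_ge Subgroup.le_normalizer (by rw [hm, hP])
      rw [← hPN]
      exact fun y hy => Subgroup.mem_centralizer_iff.2 fun z hz =>
        congrArg Subtype.val ((inferInstance : IsMulCommutative (P : Subgroup G)).is_comm.comm ⟨z, hz⟩ ⟨y, hy⟩)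
    have h := (MonoidHom.ker_transferSylow_isComplement' P hNP).card_mul_card
    set K := (MonoidHom.transferSylow P hNP).ker
    have hK : Nat.card K = 1296 := by
      rw [hP, hG] at h; omega
    have hne : K ≠ ⊥ := fun e => by rw [e, Subgroup.card_bot] at hK; omega
    have := D.normal_card (N := K) inferInstance hne a
    rw [hK, hn] at this
    omega
  · -- the action on the eight Sylow subgroups
    have h8 : N.index = 8 := Nat.eq_of_mul_eq_mul_left (show 0 < 162 by norm_num) (hmi.trans (by norm_num))
    let φ := MulAction.toPermHom G (Sylow 7 G)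
    by_cases hne : φ.ker = ⊥
    · have hd := Subgroup.card_subgroup_dvd_card φ.range
      rw [← Nat.card_congr (MonoidHom.ofInjective ((MonoidHom.ker_eq_bot_iff φ).1 hne)).toEquiv, hG,
        Nat.card_perm, show Nat.card (Sylow 7 G) = 8 from
          (P.card_eq_index_normalizer : Nat.card (Sylow 7 G) = N.index).trans h8] at hd
      norm_num [Nat.factorial] at hd
    · have hle : φ.ker ≤ N := fun g hg => by
        exact (SetLike.ext_iff.1 P.stabilizer_eq_normalizer g).1 (Equiv.ext_iff.1 (MonoidHom.mem_ker.1 hg) P)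
      have h1 := Subgroup.card_dvd_of_le hle
      rw [D.normal_card inferInstance hne a, hn, hm] at h1
      obtain ⟨q, hq⟩ := h1
      rw [mul_assoc] at hq
      omega

end Hyp

end CfsgLib.TwoPointA4
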