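import Cfsg.Agent.TwoPointA4.Central

/-!
# The symmetric type: general facts
-/

set_option autoImplicit false
set_option linter.unusedSectionVars false
set_option linter.style.haveILetI false

namespace CfsgLib.TwoPointA4

open MulAction Finset
open scoped Classical

universe u v

variable {G : Type u} {Ω : Type v} [Group G] [MulAction G Ω] [Fintype Ω] [Fintype G]

/-- The centralizer of `x` in `L` and the conjugates of `x` under `L`. -/
theorem card_cent_orbit (L : Subgroup G) (x : G) (O : Finset G)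
    (hO : ∀ y : G, y ∈ O ↔ ∃ g ∈ L, g * x * g⁻¹ = y) :
    Nat.card L = O.card * Nat.card ↥(L ⊓ Subgroup.centralizer ({x} : Set G)) := by
  let h : L →* ConjAct G := (ConjAct.toConjAct (G := G)).toMonoidHom.comp L.subtype
  letI : MulAction L G := MulAction.compHom G h
  have horb : orbit L x = ↑O := by
    ext y
    rw [Finset.mem_coe, hO]
    constructor
    · rintro ⟨g, rfl⟩
      exact ⟨g, g.2, rfl⟩
    · rintro ⟨g, hg, rfl⟩
      exact ⟨⟨g, hg⟩, rfl⟩
  rw [← Nat.card_congr (orbitProdStabilizerEquivGroup L x), Nat.card_prod, horb,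
    Nat.card_coe_set_eq, Set.ncard_coe_finset]
  congr 1
  exact Nat.card_congr
    { toFun := fun g => ⟨(g : L), (g : L).2, Subgroup.mem_centralizer_singleton_iff.2
        (mul_inv_eq_iff_eq_mul.1 (show ((g : L) : G) * x * ((g : L) : G)⁻¹ = x from g.2))⟩
      invFun := fun g => ⟨⟨g, g.2.1⟩, mul_inv_eq_iff_eq_mul.2
        (Subgroup.mem_centralizer_singleton_iff.1 g.2.2)⟩
      left_inv := fun g => rfl
      right_inv := fun g => rfl }

namespace Hyp

variable (D : Hyp G Ω)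
include D

theorem normal_transitive {N : Subgroup G} (hN : N.Normal) (hne : N ≠ ⊥) (c d : Ω) :
    ∃ g ∈ N, g • c = d := by
  by_cases h : c = d
  · exact ⟨1, one_mem _, by rw [one_smul, h]⟩
  obtain ⟨g, hg, hg1⟩ : ∃ g ∈ N, g ≠ 1 := by
    by_contra hall
    push Not at hall
    exact hne ((Subgroup.eq_bot_iff_forall N).2 hall)
  obtain ⟨x, hx⟩ : ∃ x : Ω, g • x ≠ x := by
    by_contra hall
    push Not at hall
    exact hg1 (D.faithful g hall)
  obtain ⟨k, rfl, rfl⟩ := D.trans x (g • x) c d (Ne.symm hx) h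
  exact ⟨k * g * k⁻¹, hN.conj_mem g hg k, conj_smul k g x⟩

theorem normal_card {N : Subgroup G} (hN : N.Normal) (hne : N ≠ ⊥) (a : Ω) :
    Nat.card N = Nat.card Ω * Nat.card ↥(N ⊓ stabilizer G a) := by
  rw [Nat.card_eq_fintype_card (α := Ω), ← card_univ]
  exact card_subgroup_point N univ (mem_univ a) (fun _ _ _ _ => mem_univ _)
    fun c _ => D.normal_transitive hN hne a c

theorem sym_card_omega (hS : SymType G Ω) {a b : Ω} (hab : a ≠ b) {J : G} (hJ : IsT Ω J) :
    Nat.card Ω = (fx (Ω := Ω) J).card + 2 * ((fx (Ω := Ω) J).card * ((fx (Ω := Ω) J).card - 1)) := by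
  have h := D.swap_equation hab hJ
  rw [D.sym_iCount hS hab] at h
  have := D.fx_lt_card (Ω := Ω) hJ.2.1
  omega

theorem sym_jCount (hS : SymType G Ω) {a b : Ω} (hab : a ≠ b) {J : G} (hJ : InV a b J) (hJ1 : J ≠ 1) :
    jCount J a b = 0 ∨ jCount J a b = 2 := by
  obtain ⟨u, hu, huu, huJ, huV⟩ := D.sym_exists hS hab hJ hJ1
  obtain ⟨v, hv, hv1, hvJ⟩ := D.exists_second hab hJ
  have hJT := isT_of_inV hab hJ hJ1
  have hsub : (kern Ω J).filter (fun g => g • a = b) ⊆ {u, u * J} := fun g hg => by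
    obtain ⟨hgk, hga⟩ := mem_filter.1 hg
    have hgg := (D.kern_isT hJT hgk).1
    have := (D.sym_cases hS hab hJ hJ1 hv hv1 hvJ hu huu huJ (huV v hv hv1 hvJ)
      (swap_of_invol hgg hga) (mem_kern.1 hgk).2.2.1).2.1 hgg
    simpa using this
  rcases ((kern Ω J).filter fun g => g • a = b).eq_empty_or_nonempty with he | ⟨g, hg⟩
  · exact Or.inl (by rw [jCount, he, card_empty])
  right
  obtain ⟨hgk, hga⟩ := mem_filter.1 hg
  have hgJ : g * J ∈ (kern Ω J).filter fun g => g • a = b :=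
    mem_filter.2 ⟨D.kern_mul hJT hgk, by rw [mul_smul, hJ.1, hga]⟩
  refine le_antisymm ((card_le_card hsub).trans card_le_two) ?_
  exact one_lt_card.2 ⟨g, hg, g * J, hgJ, fun e => hJ1 (mul_eq_left.1 e.symm)⟩

theorem sym_f_eq (hS : SymType G Ω) (hK : ¬ KV G Ω) {a b : Ω} (hab : a ≠ b) {J : G} (hJ : InV a b J)
    (hJ1 : J ≠ 1) : (fx (Ω := Ω) J).card = (FV G a b).card * (FV G a b).card := by
  have h := D.kern_swap_equation (isT_of_inV hab hJ hJ1) hab (mem_fx.2 hJ.1) (mem_fx.2 hJ.2.1)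
  have hlt := D.card_FV_lt hK hab hJ hJ1
  have h2 := D.two_le_card_FV hab
  obtain ⟨k, hk⟩ : ∃ k, (FV G a b).card = k + 1 := ⟨_ - 1, (Nat.succ_pred_eq_of_pos (by omega)).symm⟩
  rw [hk] at h hlt ⊢
  rcases D.sym_jCount hS hab hJ hJ1 with e | e <;> rw [e] at h
  · omega
  · rw [show k + 1 - 1 = k by omega] at h
    have : (k + 1) * (k + 1) = (k + 1) * k + (k + 1) := by ring
    omega

theorem sym_even_two (hS : SymType G Ω) {a b : Ω} (hab : a ≠ b) (he : Even (FV G a b).card) :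
    (FV G a b).card = 2 := by
  obtain ⟨p, k, hp, hk, hpk⟩ := D.isPrimePow_card_FV hab
  obtain ⟨m, hm, hem⟩ := D.sym_parity hS hab
  rw [← hpk] at hem ⊢ he
  have hp2 : p = 2 := ((Nat.prime_dvd_prime_iff_eq Nat.prime_two hp.nat_prime).1
    (Nat.prime_two.dvd_of_dvd_pow (even_iff_two_dvd.1 he))).symm
  subst hp2
  obtain rfl | hk2 : k = 1 ∨ 2 ≤ k := by omega
  · rfl
  exfalso
  obtain ⟨j, rfl⟩ : ∃ j, k = j + 2 := ⟨k - 2, by omega⟩
  obtain ⟨i, hi⟩ := hm
  rw [show 2 ^ (j + 2) * (2 ^ (j + 2) - 1) = 2 * (2 * (2 ^ j * (2 ^ (j + 2) - 1))) by ring] at hem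
  omega

theorem sym_odd_mod_four (hS : SymType G Ω) {a b : Ω} (hab : a ≠ b) (he : Odd (FV G a b).card) :
    (FV G a b).card % 4 = 3 := by
  obtain ⟨m, hm, hem⟩ := D.sym_parity hS hab
  obtain ⟨k, hk⟩ := he
  rw [hk, show 2 * k + 1 - 1 = 2 * k by omega, show (2 * k + 1) * (2 * k) = 2 * ((2 * k + 1) * k) by ring] at hem
  have hk' : Odd k := (Nat.odd_mul.1 ((show (2 * k + 1) * k = m by omega) ▸ hm)).2
  obtain ⟨j, rfl⟩ := hk'
  omega

end Hyp

end CfsgLib.TwoPointA4
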