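import Cfsg.Agent.TwoPointA4.CaseJ
import Cfsg.Agent.TwoPointA4.Plane
import Cfsg.Agent.TwoPointA4.Odd
import Cfsg.Agent.TwoPointA4.Small
import Cfsg.Agent.TwoPointA4.Sym

/-!
# The classification
-/

set_option autoImplicit false
set_option linter.unusedSectionVars false

namespace CfsgLib.TwoPointA4

open MulAction Finset
open scoped Classical

universe u v

variable {G : Type u} {Ω : Type v} [Group G] [MulAction G Ω] [Fintype Ω] [Fintype G]

namespace Hyp

variable (D : Hyp G Ω)
include D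

theorem exists_centralizer_sup (hC : Central G Ω) {a b : Ω} (hab : a ≠ b) (hi : D.iCount a b = 3)
    {J : G} (hJ : IsT Ω J) (hodd : Odd (fx (Ω := Ω) J).card) :
    ∃ z : G, orderOf z = 2 ∧ Subgroup.centralizer ({z} : Set G) ⊔ Cfsg.oddCore G = ⊤ := by
  obtain ⟨z, hz⟩ := D.exists_isolated_three hab hC hi hJ hodd
  refine ⟨z, hz.1, eq_top_iff.2 fun g _ => ?_⟩
  obtain ⟨o, ho, c, hc, rfl⟩ := CfsgLib.IsoApps.exists_mul hz g
  exact mul_mem (Subgroup.mem_sup_right ho) (Subgroup.mem_sup_left hc)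

theorem card_ne_four (hn : Nat.card Ω = 4) : False := by
  let φ := MulAction.toPermHom G Ω
  have hinj : Function.Injective φ := (injective_iff_map_eq_one φ).2 fun g hg =>
    D.faithful g fun x => Equiv.ext_iff.1 hg x
  have h := Nat.card_le_card_of_injective _ hinj
  rw [D.card_G, Nat.card_perm, hn] at h
  simp [Nat.factorial] at h

theorem sym_cases_main (hS : SymType G Ω) {a b : Ω} (hab : a ≠ b) :
    (Fintype.card Ω = 6 ∧ Nonempty (G ≃* ↥(alternatingGroup (Fin 6)))) ∨
      (Fintype.card Ω = 15 ∧ Nonempty (G ≃* ↥(alternatingGroup (Fin 7)))) := by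
  obtain ⟨J, hJ, hJ1⟩ := D.exists_T hab
  rcases Nat.even_or_odd (FV G a b).card with he | he
  · have he2 := D.sym_even_two hS hab he
    by_cases hK : KV G Ω
    · have hn : Fintype.card Ω = 6 := by
        rw [← Nat.card_eq_fintype_card, D.sym_card_omega hS hab (isT_of_inV hab hJ hJ1),
          D.kv_card hK hab hJ hJ1, he2]
      exact Or.inl ⟨hn, D.iso_altSix hn⟩
    · exact (D.card_ne_28 hS hab hJ hJ1 (by rw [D.sym_f_eq hS hK hab hJ hJ1, he2])).elim
  · by_cases hK : KV G Ω
    · exact Or.inr (D.iso_altSeven hS hK hab hJ hJ1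
        (D.odd_three hS hK hab hJ hJ1 (by rw [D.kv_card hK hab hJ hJ1]; exact he)))
    · exact (D.sym_odd_false hS hK hab hJ hJ1 he).elim

/-- Three swaps of the class, an even number of fixed points. -/
theorem three_even (hC : Central G Ω) {a b : Ω} (hab : a ≠ b) (hi : D.iCount a b = 3) {J : G}
    (hJ : InV a b J) (hJ1 : J ≠ 1) (hf : Even (fx (Ω := Ω) J).card)
    (hfe : KV G Ω ∨ (fx (Ω := Ω) J).card = (FV G a b).card * (FV G a b).card) :
    Fintype.card Ω = 16 ∧ ∃ (F : Type) (_ : Field F) (_ : Fintype F), Fintype.card F = 4 ∧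
      Nonempty (G ≃* ((Fin 2 → F) ≃ᵃ[F] (Fin 2 → F))) := by
  obtain ⟨p, k, hp, hk, hpk⟩ := D.isPrimePow_card_FV hab
  set e := (FV G a b).card with he'
  have he2 : 2 ≤ e := D.two_le_card_FV hab
  obtain ⟨q, hq⟩ : ∃ q, e = q + 1 := ⟨e - 1, by omega⟩
  rcases hfe with hK | hfe
  · have hfe : (fx (Ω := Ω) J).card = e := D.kv_card hK hab hJ hJ1
    have he : Even e := hfe ▸ hf
    have h := (D.point_formula hab hJ hJ1 hf he).2
    rw [hi, hfe, ← he', hq, Nat.add_sub_cancel] at h
    have h7 : q ≤ 6 := by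
      have := Nat.le_of_mul_le_mul_right h (pow_pos (show 0 < q by omega) 2)
      omega
    have hp2 : p = 2 := ((Nat.prime_dvd_prime_iff_eq Nat.prime_two hp.nat_prime).1
      (Nat.prime_two.dvd_of_dvd_pow (show 2 ∣ p ^ k from hpk ▸ even_iff_two_dvd.1 he))).symm
    subst hp2
    have hk3 : k < 3 := by
      by_contra hk3
      have : 2 ^ 3 ≤ 2 ^ k := Nat.pow_le_pow_right (by norm_num) (by omega)
      omega
    obtain rfl | rfl : k = 1 ∨ k = 2 := by omega
    · have hn := D.swap_equation hab (isT_of_inV hab hJ hJ1)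
      rw [hi, hfe, ← hpk] at hn
      exact (D.card_ne_four (by omega)).elim
    · exact D.iso_affine hC hK hab hi hJ hJ1 (by rw [hfe, ← hpk]; norm_num)
  · exfalso
    have he : Even e := by
      rw [hfe] at hf
      exact (Nat.even_mul.1 hf).elim id id
    have h := (D.point_formula hab hJ hJ1 hf he).1
    rw [hi, hfe, ← he', hq, show (q + 1) * (q + 1) - 1 = q * (q + 2) from
      Nat.sub_eq_of_eq_add (by ring), Nat.add_sub_cancel] at h
    have hpos : 0 < q ^ 2 := pow_pos (by omega) 2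
    rw [mul_pow] at h
    have e1 : 3 * ((q + 1) * (q + 1)) = 3 * (q * q) + 6 * q + 3 := by ring
    have e2 : (q + 2) ^ 2 = q * q + 4 * q + 4 := by ring
    rw [e1, e2] at h
    rcases h with h | h
    · have := Nat.eq_of_mul_eq_mul_right hpos (h.trans
        (by ring : 3 * (q ^ 2 * (q * q + 4 * q + 4)) = 3 * (q * q + 4 * q + 4) * q ^ 2))
      omega
    · have := Nat.lt_of_mul_lt_mul_right (a := q ^ 2) (b := 4 * (q * q + 4 * q + 4))
        (c := 3 + (3 * (q * q) + 6 * q + 3)) (lt_of_eq_of_lt (by ring) h)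
      omega

/-- Four swaps of the class. -/
theorem four_false (hC : Central G Ω) (hK : ¬ KV G Ω) {a b : Ω} (hab : a ≠ b) (hi : D.iCount a b = 4)
    {J : G} (hJ : InV a b J) (hJ1 : J ≠ 1) {z : G} (hz : Swap a b z) (hzz : z * z = 1)
    (hzc : ∀ h : G, h • a = a → h • b = b → z * h = h * z) (hzT : IsT Ω z)
    (hj : jCount J a b = 2 ∨ jCount J a b = 4) : False := by
  rcases Nat.even_or_odd (FV G a b).card with he | he
  swap
  · rcases hj with hj | hj
    · exact D.caseJ_two hC hK hab he hJ hJ1 hz hzz hzc hzT hj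
    · exact D.caseJ_four hC hK hab he hJ hJ1 hz hzz hzc hj
  obtain ⟨p, k, hp, hk, hpk⟩ := D.isPrimePow_card_FV hab
  have hkse := D.kern_swap_equation (isT_of_inV hab hJ hJ1) hab (mem_fx.2 hJ.1) (mem_fx.2 hJ.2.1)
  have hlt := D.card_FV_lt hK hab hJ hJ1
  have hpf := fun hf => (D.point_formula hab hJ hJ1 hf he).1
  set e := (FV G a b).card with he'
  set f := (fx (Ω := Ω) J).card with hf'
  have he2 : 2 ≤ e := D.two_le_card_FV hab
  obtain ⟨q, hq⟩ : ∃ q, e = q + 1 := ⟨e - 1, by omega⟩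
  have hpos : 0 < q ^ 2 := pow_pos (by omega) 2
  have he6 : q + 1 ≠ 6 := fun h6 => by
    rw [hq, h6] at hpk
    have hp' := hp.nat_prime
    have h2 : p = 2 := ((Nat.prime_dvd_prime_iff_eq Nat.prime_two hp').1
      (Nat.prime_two.dvd_of_dvd_pow (show 2 ∣ p ^ k from hpk ▸ by norm_num))).symm
    have h3 : p = 3 := ((Nat.prime_dvd_prime_iff_eq Nat.prime_three hp').1
      (Nat.prime_three.dvd_of_dvd_pow (show 3 ∣ p ^ k from hpk ▸ by norm_num))).symm
    omega
  rw [hq, Nat.add_sub_cancel] at hkse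
  rw [hq] at hlt he
  rw [hi, hq, Nat.add_sub_cancel] at hpf
  rcases hj with hj | hj <;> rw [hj] at hkse
  · have hf : f = (q + 1) * (q + 1) := by
      have : (q + 1) * (q + 1) = (q + 1) * q + (q + 1) := by ring
      omega
    have h := hpf (hf ▸ he.mul_left _)
    rw [hf, show (q + 1) * (q + 1) - 1 = q * (q + 2) from Nat.sub_eq_of_eq_add (by ring), mul_pow] at h
    have e1 : 4 * ((q + 1) * (q + 1)) = 4 * (q * q) + 8 * q + 4 := by ring
    have e2 : (q + 2) ^ 2 = q * q + 4 * q + 4 := by ring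
    rw [e1, e2] at h
    rcases h with h | h
    · have h5 := Nat.eq_of_mul_eq_mul_right hpos (h.trans
        (by ring : 3 * (q ^ 2 * (q * q + 4 * q + 4)) = 3 * (q * q + 4 * q + 4) * q ^ 2))
      have h5' : q * q + 5 ≠ 4 * q + 10 := fun h' => by
        rcases Nat.lt_or_ge q 6 with h6 | h6
        · interval_cases q <;> omega
        · have := Nat.mul_le_mul_right q h6
          omega
      omega
    · have := Nat.lt_of_mul_lt_mul_right (a := q ^ 2) (b := 4 * (q * q + 4 * q + 4))
        (c := 3 + (4 * (q * q) + 8 * q + 4)) (lt_of_eq_of_lt (by ring) h)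
      omega
  · have hf : f = (q + 1) * (2 * q + 1) := by
      have : (q + 1) * (2 * q + 1) = 2 * ((q + 1) * q) + (q + 1) := by ring
      omega
    have h := hpf (hf ▸ he.mul_right _)
    rw [hf, show (q + 1) * (2 * q + 1) - 1 = q * (2 * q + 3) from Nat.sub_eq_of_eq_add (by ring),
      mul_pow] at h
    have e1 : 4 * ((q + 1) * (2 * q + 1)) = 8 * (q * q) + 12 * q + 4 := by ring
    have e2 : (2 * q + 3) ^ 2 = 4 * (q * q) + 12 * q + 9 := by ring
    rw [e1, e2] at h
    rcases h with h | h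
    · have := Nat.eq_of_mul_eq_mul_right hpos (h.trans
        (by ring : 3 * (q ^ 2 * (4 * (q * q) + 12 * q + 9)) = 3 * (4 * (q * q) + 12 * q + 9) * q ^ 2))
      omega
    · have := Nat.lt_of_mul_lt_mul_right (a := q ^ 2) (b := 4 * (4 * (q * q) + 12 * q + 9))
        (c := 3 + (8 * (q * q) + 12 * q + 4)) (lt_of_eq_of_lt (by ring) h)
      omega

theorem main {a b : Ω} (hab : a ≠ b) :
    (Fintype.card Ω = 6 ∧ Nonempty (G ≃* ↥(alternatingGroup (Fin 6)))) ∨
      (Fintype.card Ω = 15 ∧ Nonempty (G ≃* ↥(alternatingGroup (Fin 7)))) ∨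
      (Fintype.card Ω = 16 ∧ ∃ (F : Type) (_ : Field F) (_ : Fintype F), Fintype.card F = 4 ∧
        Nonempty (G ≃* ((Fin 2 → F) ≃ᵃ[F] (Fin 2 → F)))) ∨
      (∃ J : G, orderOf J = 2 ∧ Subgroup.centralizer ({J} : Set G) ⊔ Cfsg.oddCore G = ⊤) := by
  rcases D.dichotomy with hC | hS
  swap
  · rcases D.sym_cases_main hS hab with h | h
    exacts [Or.inl h, Or.inr (Or.inl h)]
  obtain ⟨J, hJ, hJ1⟩ := D.exists_T hab
  obtain ⟨v, hv, hv1, hvJ⟩ := D.exists_second hab hJ
  have hJT := isT_of_inV hab hJ hJ1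
  obtain ⟨z, hz, hzz, hzc⟩ := hC a b hab
  have hci := D.central_iCount hab hz hzz hzc hv hv1
  have hpos := D.iCount_pos hab hJT
  have hjc := D.jCount_even_sub hJT hab (mem_fx.2 hJ.1) (mem_fx.2 hJ.2.1) hz hzz hzc hv hv1 hvJ
  -- kernel swaps lie in the class
  have hkz : z ∈ kern Ω J → IsT Ω z ∧ IsT Ω (z * v) := fun h =>
    ⟨D.kern_isT hJT h, D.central_isT_iff hab hzc hJ hJ1 hv hv1 (D.kern_isT hJT (D.kern_mul hJT h))⟩
  have hkv : z * v ∈ kern Ω J → IsT Ω (z * v) := D.kern_isT hJT
  have hjpos : ¬ KV G Ω → jCount J a b ≠ 0 := fun hK h0 => by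
    have h := D.kern_swap_equation hJT hab (mem_fx.2 hJ.1) (mem_fx.2 hJ.2.1)
    have hlt := D.card_FV_lt hK hab hJ hJ1
    rw [h0, Nat.zero_mul] at h
    omega
  by_cases hA : IsT Ω z
  · -- the kernel type does not occur
    exfalso
    rw [if_pos hA] at hci
    by_cases hK : KV G Ω
    · have hfe := D.kv_card hK hab hJ hJ1
      rcases Nat.even_or_odd (FV G a b).card with he | he
      · have h3 := D.three_dvd_iCount_mul hK hJT hab
        rw [hfe] at h3
        obtain ⟨p, k, hp, hk, hpk⟩ := D.isPrimePow_card_FV hab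
        rcases Nat.prime_three.dvd_mul.1 h3 with h | h
        · rw [hci] at h
          split_ifs at h <;> norm_num at h
        · rw [← hpk] at h he
          have h2 : p = 2 := ((Nat.prime_dvd_prime_iff_eq Nat.prime_two hp.nat_prime).1
            (Nat.prime_two.dvd_of_dvd_pow (even_iff_two_dvd.1 he))).symm
          have h3' : p = 3 := ((Nat.prime_dvd_prime_iff_eq Nat.prime_three hp.nat_prime).1
            (Nat.prime_three.dvd_of_dvd_pow h)).symm
          omega
      · exact D.kv_odd_not_isT hK hab hz hzc he hA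
    · by_cases hB : IsT Ω (z * v)
      · rw [if_pos hB] at hci
        refine D.four_false hC hK hab hci hJ hJ1 hz hzz hzc hA ?_
        have := hjpos hK
        rw [hjc] at this ⊢
        split_ifs at this ⊢ <;> simp at this ⊢
      · refine hjpos hK ?_
        rw [hjc, if_neg fun h => hB (hkz h).2, if_neg fun h => hB (hkv h)]
  · by_cases hB : IsT Ω (z * v)
    swap
    · rw [if_neg hA, if_neg hB] at hci
      exact absurd hci hpos
    rw [if_neg hA, if_pos hB] at hci
    rcases Nat.even_or_odd (fx (Ω := Ω) J).card with hf | hf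
    · refine Or.inr (Or.inr (Or.inl (D.three_even hC hab hci hJ hJ1 hf ?_)))
      by_cases hK : KV G Ω
      · exact Or.inl hK
      right
      have hj : jCount J a b = 2 := by
        have := hjpos hK
        rw [hjc, if_neg fun h => hA (hkz h).1] at this ⊢
        split_ifs at this ⊢ <;> simp at this ⊢
      have h := D.kern_swap_equation hJT hab (mem_fx.2 hJ.1) (mem_fx.2 hJ.2.1)
      have hlt := D.card_FV_lt hK hab hJ hJ1
      rw [hj] at h
      have h2 := Nat.mul_sub (FV G a b).card (FV G a b).card 1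
      have h3 := Nat.le_mul_self (FV G a b).card
      rw [mul_one] at h2
      omega
    · exact Or.inr (Or.inr (Or.inr (D.exists_centralizer_sup hC hab hci hJT hf)))

end Hyp

end CfsgLib.TwoPointA4
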