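import Mathlib.GroupTheory.GroupAction.MultipleTransitivity
import Mathlib.GroupTheory.GroupAction.Quotient
import Mathlib.GroupTheory.SpecificGroups.Alternating
import Mathlib.Combinatorics.Enumerative.DoubleCounting

/-!
# Two-transitive groups whose two-point stabilizers are isomorphic to `A₄`

Basic counting: the involutions fixing two points form one class; orders of their centralizers.
-/

set_option autoImplicit false
set_option linter.unusedSectionVars false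
set_option linter.style.haveILetI false

namespace CfsgLib.TwoPointA4

/-! ### Facts on `A₄` -/

section Alt

theorem alt_comm : ∀ g h : alternatingGroup (Fin 4), g * g = 1 → h * h = 1 → g * h = h * g := by
  decide +kernel

theorem alt_invol_card :
    (Finset.univ.filter fun g : alternatingGroup (Fin 4) => g * g = 1).card = 4 := by
  decide +kernel

theorem alt_cent : ∀ g h : alternatingGroup (Fin 4), (g * g = 1 ∧ g ≠ 1 ∧ g * h = h * g) →
    h * h = 1 := by
  decide +kernel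

theorem alt_conj : ∀ g g' : alternatingGroup (Fin 4), g * g = 1 → g ≠ 1 → g' * g' = 1 → g' ≠ 1 →
    ∃ h, h * g * h⁻¹ = g' := by
  decide +kernel

theorem alt_three : ∀ h : alternatingGroup (Fin 4), h * h ≠ 1 →
    h * h * h = 1 ∧ ∀ g : alternatingGroup (Fin 4), g * g = 1 → g ≠ 1 →
      h * g * h⁻¹ ≠ g ∧ g * h * g ≠ h ∧ g * h * g ≠ h⁻¹ := by
  decide +kernel

theorem alt_cosets : ∀ h x : alternatingGroup (Fin 4), (h * h ≠ 1 ∧ x * x ≠ 1) →
    (h * x⁻¹) * (h * x⁻¹) = 1 ∨ (h * x) * (h * x) = 1 := by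
  decide +kernel

theorem alt_exists_three : ∃ h : alternatingGroup (Fin 4), h * h ≠ 1 := by
  decide +kernel

theorem alt_card : Fintype.card (alternatingGroup (Fin 4)) = 12 := by decide +kernel

end Alt

open MulAction Finset
open scoped Classical

universe u v

variable (G : Type u) (Ω : Type v) [Group G] [MulAction G Ω]

/-- The hypotheses. -/
structure Hyp : Prop where
  trans : ∀ a b c d : Ω, a ≠ b → c ≠ d → ∃ g : G, g • a = c ∧ g • b = d
  faithful : ∀ g : G, (∀ x : Ω, g • x = x) → g = 1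
  iso : ∀ a b : Ω, a ≠ b → Nonempty (↥(stabilizer G a ⊓ stabilizer G b) ≃* ↥(alternatingGroup (Fin 4)))
  nontriv : ∃ a b : Ω, a ≠ b

variable {G Ω}

/-- `g` lies in the four-group of the stabilizer of `a` and `b`. -/
def InV (a b : Ω) (g : G) : Prop := g • a = a ∧ g • b = b ∧ g * g = 1

/-- `g` exchanges `a` and `b`. -/
def Swap (a b : Ω) (g : G) : Prop := g • a = b ∧ g • b = a

variable [Fintype Ω]

/-- The fixed points. -/
noncomputable def fx (g : G) : Finset Ω := univ.filter fun x => g • x = x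

theorem mem_fx {g : G} {x : Ω} : x ∈ fx g ↔ g • x = x := by simp [fx]

/-- An involution fixing at least two points. -/
def IsT (Ω : Type v) [MulAction G Ω] [Fintype Ω] (t : G) : Prop :=
  t * t = 1 ∧ t ≠ 1 ∧ 2 ≤ (fx (Ω := Ω) t).card

theorem conj_smul (g t : G) (x : Ω) : (g * t * g⁻¹) • g • x = g • t • x := by
  rw [smul_smul, smul_smul, inv_mul_cancel_right]

theorem mem_fx_conj {g t : G} {x : Ω} : g • x ∈ fx (g * t * g⁻¹) ↔ x ∈ fx t := by
  rw [mem_fx, mem_fx, conj_smul, smul_left_cancel_iff]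

theorem card_fx_conj (g t : G) : (fx (Ω := Ω) (g * t * g⁻¹)).card = (fx (Ω := Ω) t).card := by
  refine (card_bij (fun x _ => g • x) (fun x hx => mem_fx_conj.2 hx)
    (fun _ _ _ _ h => smul_left_cancel g h) fun y hy => ⟨g⁻¹ • y, ?_, smul_inv_smul g y⟩).symm
  rw [← mem_fx_conj (g := g), smul_inv_smul]
  exact hy

theorem inV_iff_stab {a b : Ω} {g : G} :
    InV a b g ↔ g ∈ stabilizer G a ⊓ stabilizer G b ∧ g * g = 1 := by
  simp [InV, Subgroup.mem_inf, mem_stabilizer_iff, and_assoc]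

theorem inV_comm' {a b : Ω} {g : G} : InV a b g ↔ InV b a g := by
  unfold InV
  tauto

theorem isT_of_inV {a b : Ω} (hab : a ≠ b) {g : G} (hg : InV a b g) (h1 : g ≠ 1) : IsT Ω g :=
  ⟨hg.2.2, h1, one_lt_card.2 ⟨a, mem_fx.2 hg.1, b, mem_fx.2 hg.2.1, hab⟩⟩

theorem IsT.conj {t : G} (ht : IsT Ω t) (g : G) : IsT Ω (g * t * g⁻¹) :=
  ⟨by rw [show g * t * g⁻¹ * (g * t * g⁻¹) = g * (t * t) * g⁻¹ by group, ht.1]; group,
    fun h => ht.2.1 (conj_eq_one_iff.1 h), by rw [card_fx_conj]; exact ht.2.2⟩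

theorem InV.conj {a b : Ω} {t : G} (ht : InV a b t) (g : G) :
    InV (g • a) (g • b) (g * t * g⁻¹) :=
  ⟨by rw [conj_smul, ht.1], by rw [conj_smul, ht.2.1],
    by rw [show g * t * g⁻¹ * (g * t * g⁻¹) = g * (t * t) * g⁻¹ by group, ht.2.2]; group⟩

namespace Hyp

variable (D : Hyp G Ω)
include D

theorem inV_mul {a b : Ω} (hab : a ≠ b) {g h : G} (hg : InV a b g) (hh : InV a b h) :
    g * h = h * g ∧ InV a b (g * h) := by
  obtain ⟨e⟩ := D.iso a b hab
  obtain ⟨hg', hg2⟩ := inV_iff_stab.1 hg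
  obtain ⟨hh', hh2⟩ := inV_iff_stab.1 hh
  have hc : (⟨g, hg'⟩ * ⟨h, hh'⟩ : ↥(stabilizer G a ⊓ stabilizer G b)) = ⟨h, hh'⟩ * ⟨g, hg'⟩ :=
    e.injective (by
      rw [map_mul, map_mul]
      exact alt_comm _ _ (by rw [← map_mul, ← map_one e]; exact congrArg e (Subtype.ext hg2))
        (by rw [← map_mul, ← map_one e]; exact congrArg e (Subtype.ext hh2)))
  have hc' : g * h = h * g := congrArg Subtype.val hc
  refine ⟨hc', inV_iff_stab.2 ⟨mul_mem hg' hh', ?_⟩⟩
  rw [mul_assoc, ← mul_assoc h, ← hc', mul_assoc, ← mul_assoc g g, hg2, one_mul, hh2]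

theorem inV_of_commute {a b : Ω} (hab : a ≠ b) {v g : G} (hv : InV a b v) (hv1 : v ≠ 1)
    (ha : g • a = a) (hb : g • b = b) (hc : v * g = g * v) : InV a b g := by
  obtain ⟨e⟩ := D.iso a b hab
  obtain ⟨hv', hv2⟩ := inV_iff_stab.1 hv
  have hg' : g ∈ stabilizer G a ⊓ stabilizer G b := ⟨ha, hb⟩
  have h := alt_cent (e ⟨v, hv'⟩) (e ⟨g, hg'⟩)
    ⟨by rw [← map_mul, ← map_one e]; exact congrArg e (Subtype.ext hv2),
     fun h => hv1 (congrArg Subtype.val (e.injective (h.trans (map_one e).symm))),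
     by rw [← map_mul, ← map_mul]; exact congrArg e (Subtype.ext hc)⟩
  rw [← map_mul, ← map_one e] at h
  exact ⟨ha, hb, congrArg Subtype.val (e.injective h)⟩

theorem inV_conj_inV {a b : Ω} (hab : a ≠ b) {v w : G} (hv : InV a b v) (hv1 : v ≠ 1)
    (hw : InV a b w) (hw1 : w ≠ 1) : ∃ h : G, h • a = a ∧ h • b = b ∧ h * v * h⁻¹ = w := by
  obtain ⟨e⟩ := D.iso a b hab
  obtain ⟨hv', hv2⟩ := inV_iff_stab.1 hv
  obtain ⟨hw', hw2⟩ := inV_iff_stab.1 hw
  obtain ⟨h, hh⟩ := alt_conj (e ⟨v, hv'⟩) (e ⟨w, hw'⟩)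
    (by rw [← map_mul, ← map_one e]; exact congrArg e (Subtype.ext hv2))
    (fun h => hv1 (congrArg Subtype.val (e.injective (h.trans (map_one e).symm))))
    (by rw [← map_mul, ← map_one e]; exact congrArg e (Subtype.ext hw2))
    (fun h => hw1 (congrArg Subtype.val (e.injective (h.trans (map_one e).symm))))
  refine ⟨(e.symm h : G), (e.symm h).2.1, (e.symm h).2.2, ?_⟩
  have := congrArg e.symm hh
  simp only [map_mul, map_inv, MulEquiv.symm_apply_apply] at this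
  exact congrArg Subtype.val this

theorem exists_three {a b : Ω} (hab : a ≠ b) : ∃ x : G, x • a = a ∧ x • b = b ∧ x * x * x = 1 ∧
    x ≠ 1 ∧ ∀ v : G, InV a b v → v ≠ 1 →
      x * v * x⁻¹ ≠ v ∧ v * x * v ≠ x ∧ v * x * v ≠ x⁻¹ := by
  obtain ⟨e⟩ := D.iso a b hab
  obtain ⟨h, hh⟩ := alt_exists_three
  obtain ⟨h3, hg⟩ := alt_three h hh
  refine ⟨(e.symm h : G), (e.symm h).2.1, (e.symm h).2.2, ?_, fun h1 => ?_, fun v hv hv1 => ?_⟩
  · rw [← Subgroup.coe_mul, ← Subgroup.coe_mul, ← map_mul, ← map_mul, h3, map_one, Subgroup.coe_one]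
  · have : e.symm h = 1 := Subtype.ext h1
    rw [MulEquiv.map_eq_one_iff] at this
    rw [this, one_mul] at hh
    exact hh rfl
  · obtain ⟨hv', hv2⟩ := inV_iff_stab.1 hv
    obtain ⟨n1, n2, n3⟩ := hg (e ⟨v, hv'⟩)
      (by rw [← map_mul, ← map_one e]; exact congrArg e (Subtype.ext hv2))
      (fun h => hv1 (congrArg Subtype.val (e.injective (h.trans (map_one e).symm))))
    refine ⟨fun hc => n1 ?_, fun hc => n2 ?_, fun hc => n3 ?_⟩ <;>
    · apply e.symm.injective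
      simp only [map_mul, map_inv, MulEquiv.symm_apply_apply]
      exact Subtype.ext hc

theorem cosets_three {a b : Ω} (hab : a ≠ b) {h x : G} (ha : h • a = a) (hb : h • b = b)
    (xa : x • a = a) (xb : x • b = b) (hh : h * h ≠ 1) (hx : x * x ≠ 1) :
    InV a b (h * x⁻¹) ∨ InV a b (h * x) := by
  obtain ⟨e⟩ := D.iso a b hab
  set H := stabilizer G a ⊓ stabilizer G b
  have hh' : h ∈ H := ⟨ha, hb⟩
  have hx' : x ∈ H := ⟨xa, xb⟩
  have hne : ∀ (g : G) (hg : g ∈ H), g * g ≠ 1 → e ⟨g, hg⟩ * e ⟨g, hg⟩ ≠ 1 := fun g hg h h' => by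
    rw [← map_mul, MulEquiv.map_eq_one_iff] at h'
    exact h (congrArg Subtype.val h')
  rcases alt_cosets (e ⟨h, hh'⟩) (e ⟨x, hx'⟩) ⟨hne h hh' hh, hne x hx' hx⟩ with hc | hc
  · left
    rw [← map_inv, ← map_mul, ← map_mul, MulEquiv.map_eq_one_iff] at hc
    exact inV_iff_stab.2 ⟨mul_mem hh' (inv_mem hx'), congrArg Subtype.val hc⟩
  · right
    rw [← map_mul, ← map_mul, MulEquiv.map_eq_one_iff] at hc
    exact inV_iff_stab.2 ⟨mul_mem hh' hx', congrArg Subtype.val hc⟩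

variable [Fintype G]

theorem card_inV {a b : Ω} (hab : a ≠ b) : (univ.filter fun g : G => InV a b g).card = 4 := by
  obtain ⟨e⟩ := D.iso a b hab
  rw [← alt_invol_card]
  refine card_bij (fun g hg => e ⟨g, (inV_iff_stab.1 (mem_filter.1 hg).2).1⟩) (fun g hg => ?_)
    (fun g _ h _ he => congrArg Subtype.val (e.injective he)) fun k hk => ?_
  · refine mem_filter.2 ⟨mem_univ _, ?_⟩
    rw [← map_mul, ← map_one e]
    exact congrArg e (Subtype.ext (inV_iff_stab.1 (mem_filter.1 hg).2).2)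
  · refine ⟨(e.symm k : G), mem_filter.2 ⟨mem_univ _, inV_iff_stab.2 ⟨(e.symm k).2, ?_⟩⟩, ?_⟩
    · rw [← Subgroup.coe_mul, ← map_mul, (mem_filter.1 hk).2, map_one, Subgroup.coe_one]
    · simp

theorem card_two_point {a b : Ω} (hab : a ≠ b) :
    Nat.card ↥(stabilizer G a ⊓ stabilizer G b) = 12 := by
  obtain ⟨e⟩ := D.iso a b hab
  rw [Nat.card_congr e.toEquiv, Nat.card_eq_fintype_card, alt_card]

omit [Fintype G] in
/-- All involutions fixing two points are conjugate. -/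
theorem isConj_T {s t : G} (hs : IsT Ω s) (ht : IsT Ω t) : IsConj s t := by
  obtain ⟨a, ha, b, hb, hab⟩ := one_lt_card.1 hs.2.2
  obtain ⟨c, hc, d, hd, hcd⟩ := one_lt_card.1 ht.2.2
  obtain ⟨g, rfl, rfl⟩ := D.trans a b c d hab hcd
  have hv : InV a b s := ⟨mem_fx.1 ha, mem_fx.1 hb, hs.1⟩
  obtain ⟨h, -, -, hh⟩ := D.inV_conj_inV hcd (hv.conj g) (fun h => hs.2.1 (conj_eq_one_iff.1 h))
    (w := t) ⟨mem_fx.1 hc, mem_fx.1 hd, ht.1⟩ ht.2.1
  exact isConj_iff.2 ⟨h * g, by rw [← hh]; group⟩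

omit [Fintype G] in
theorem card_fx_T {s t : G} (hs : IsT Ω s) (ht : IsT Ω t) :
    (fx (Ω := Ω) t).card = (fx (Ω := Ω) s).card := by
  obtain ⟨g, rfl⟩ := isConj_iff.1 (D.isConj_T hs ht)
  exact card_fx_conj g s

omit [Fintype G] in
/-- Transitivity of the centralizer on the ordered pairs of fixed points. -/
theorem cent_trans {t : G} (ht : IsT Ω t) {a b c d : Ω} (ha : a ∈ fx t) (hb : b ∈ fx t) (hc : c ∈ fx t)
    (hd : d ∈ fx t) (hab : a ≠ b) (hcd : c ≠ d) :
    ∃ g : G, g * t = t * g ∧ g • a = c ∧ g • b = d := by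
  obtain ⟨g, rfl, rfl⟩ := D.trans a b c d hab hcd
  have hv : InV a b t := ⟨mem_fx.1 ha, mem_fx.1 hb, ht.1⟩
  obtain ⟨h, hhc, hhd, hh⟩ := D.inV_conj_inV hcd (hv.conj g) (fun h => ht.2.1 (conj_eq_one_iff.1 h))
    (w := t) ⟨mem_fx.1 hc, mem_fx.1 hd, ht.1⟩ ht.2.1
  refine ⟨h * g, ?_, by rw [mul_smul, hhc], by rw [mul_smul, hhd]⟩
  refine mul_inv_eq_iff_eq_mul.1 ?_
  rw [mul_inv_rev]
  calc h * g * t * (g⁻¹ * h⁻¹) = h * (g * t * g⁻¹) * h⁻¹ := by group
    _ = t := hh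

theorem exists_T {a b : Ω} (hab : a ≠ b) : ∃ t : G, InV a b t ∧ t ≠ 1 := by
  by_contra h
  push Not at h
  have hsub : (univ.filter fun g : G => InV a b g) ⊆ {1} := fun g hg =>
    mem_singleton.2 (h g (mem_filter.1 hg).2)
  have := card_le_card hsub
  rw [D.card_inV hab, card_singleton] at this
  omega

end Hyp

theorem cent_preserves {t g : G} {x : Ω} (hg : g * t = t * g) (hx : x ∈ fx t) : g • x ∈ fx t := by
  rw [mem_fx] at hx ⊢
  rw [smul_smul, ← hg, mul_smul, hx]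

/-- The set of ordered pairs. -/
noncomputable def pairs (Ω : Type v) [Fintype Ω] : Finset (Ω × Ω) :=
  univ.filter fun p => p.1 ≠ p.2

theorem card_pairs_of (Φ : Finset Ω) :
    ((Φ ×ˢ Φ).filter fun p => p.1 ≠ p.2).card = Φ.card * (Φ.card - 1) := by
  rw [show ((Φ ×ˢ Φ).filter fun p => p.1 ≠ p.2) = Φ.offDiag by
    ext p; simp [mem_offDiag, and_assoc], offDiag_card, Nat.mul_sub, mul_one]

theorem mem_pairs {p : Ω × Ω} : p ∈ pairs Ω ↔ p.1 ≠ p.2 := by simp [pairs]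

theorem card_pairs' : (pairs Ω).card = Nat.card Ω * (Nat.card Ω - 1) := by
  rw [Nat.card_eq_fintype_card, ← card_univ, ← card_pairs_of univ]
  congr

/-- Orbit counting on ordered pairs. -/
theorem card_subgroup_pairs [Finite G] (L : Subgroup G) (Φ : Finset Ω) {a b : Ω} (ha : a ∈ Φ)
    (hb : b ∈ Φ) (hab : a ≠ b) (hinv : ∀ g ∈ L, ∀ x ∈ Φ, g • x ∈ Φ)
    (htr : ∀ c ∈ Φ, ∀ d ∈ Φ, c ≠ d → ∃ g ∈ L, g • a = c ∧ g • b = d) :
    Nat.card L = Φ.card * (Φ.card - 1) * Nat.card ↥(L ⊓ (stabilizer G a ⊓ stabilizer G b)) := by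
  have horb : orbit L (a, b) = ↑((Φ ×ˢ Φ).filter fun p => p.1 ≠ p.2) := by
    ext ⟨c, d⟩
    simp only [coe_filter, mem_product, Set.mem_ofPred_eq]
    constructor
    · rintro ⟨⟨g, hg⟩, h⟩
      obtain ⟨rfl, rfl⟩ := Prod.mk.injEq _ _ _ _ ▸ h
      exact ⟨⟨hinv g hg a ha, hinv g hg b hb⟩, fun e => hab (smul_left_cancel g e)⟩
    · rintro ⟨⟨hc, hd⟩, hcd⟩
      obtain ⟨g, hg, rfl, rfl⟩ := htr c hc d hd hcd
      exact ⟨⟨g, hg⟩, rfl⟩
  rw [← Nat.card_congr (orbitProdStabilizerEquivGroup L (a, b)), Nat.card_prod, horb,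
    Nat.card_coe_set_eq, Set.ncard_coe_finset, card_pairs_of]
  congr 1
  refine Nat.card_congr
    { toFun := fun g => ⟨(g : L), (g : L).2, ?_, ?_⟩
      invFun := fun g => ⟨⟨g, g.2.1⟩, Prod.ext g.2.2.1 g.2.2.2⟩
      left_inv := fun g => rfl
      right_inv := fun g => rfl }
  · exact congrArg Prod.fst g.2
  · exact congrArg Prod.snd g.2

namespace Hyp

variable (D : Hyp G Ω) [Fintype G]
include D

theorem card_G : Nat.card G = 12 * (Nat.card Ω * (Nat.card Ω - 1)) := by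
  obtain ⟨a, b, hab⟩ := D.nontriv
  have h := card_subgroup_pairs (⊤ : Subgroup G) univ (mem_univ a) (mem_univ b) hab
    (fun _ _ _ _ => mem_univ _) fun c _ d _ hcd => by
      obtain ⟨g, hg⟩ := D.trans a b c d hab hcd
      exact ⟨g, Subgroup.mem_top g, hg⟩
  rw [Subgroup.card_top, top_inf_eq, D.card_two_point hab, card_univ, ← Nat.card_eq_fintype_card] at h
  rw [h, mul_comm]

theorem card_stab (a : Ω) : Nat.card (stabilizer G a) = 12 * (Nat.card Ω - 1) := by
  obtain ⟨p, q, hpq⟩ := D.nontriv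
  obtain ⟨b, hb⟩ : ∃ b, a ≠ b := by
    by_cases h : a = p
    · exact ⟨q, h ▸ hpq⟩
    · exact ⟨p, h⟩
  have ht : orbit G a = Set.univ := Set.eq_univ_of_forall fun c => by
    obtain ⟨d, hd⟩ : ∃ d, c ≠ d := by
      by_cases h : c = a
      · exact ⟨b, h ▸ hb⟩
      · exact ⟨a, h⟩
    obtain ⟨g, hg, -⟩ := D.trans a b c d hb hd
    exact ⟨g, hg⟩
  have h := Nat.card_congr (orbitProdStabilizerEquivGroup G a)
  rw [Nat.card_prod, ht, Nat.card_univ, D.card_G] at h
  have hn : 0 < Nat.card Ω := by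
    rw [Nat.card_eq_fintype_card]; exact Fintype.card_pos_iff.2 ⟨a⟩
  exact Nat.eq_of_mul_eq_mul_left hn (h.trans (by ring))

theorem card_cent {t : G} (ht : IsT Ω t) : Nat.card (Subgroup.centralizer ({t} : Set G)) =
    4 * ((fx (Ω := Ω) t).card * ((fx (Ω := Ω) t).card - 1)) := by
  obtain ⟨a, ha, b, hb, hab⟩ := one_lt_card.1 ht.2.2
  have hv : InV a b t := ⟨mem_fx.1 ha, mem_fx.1 hb, ht.1⟩
  rw [card_subgroup_pairs _ (fx (Ω := Ω) t) ha hb hab
    (fun g hg x hx => cent_preserves (Subgroup.mem_centralizer_singleton_iff.1 hg) hx)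
    fun c hc d hd hcd => by
      obtain ⟨g, hg, h⟩ := D.cent_trans ht ha hb hc hd hab hcd
      exact ⟨g, Subgroup.mem_centralizer_singleton_iff.2 hg, h⟩, mul_comm]
  congr 1
  rw [← D.card_inV hab, ← Fintype.card_subtype, ← Nat.card_eq_fintype_card]
  refine Nat.card_congr (Equiv.subtypeEquivRight fun g => ?_)
  constructor
  · rintro ⟨hc, hga, hgb⟩
    exact D.inV_of_commute hab hv ht.2.1 hga hgb (Subgroup.mem_centralizer_singleton_iff.1 hc).symm
  · intro hg
    exact ⟨Subgroup.mem_centralizer_singleton_iff.2 (D.inV_mul hab hg hv).1, hg.1, hg.2.1⟩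

/-- The number of elements with a conjugation invariant property exchanging a given pair does not
depend on the pair. -/
theorem card_swap_eq (Q : G → Prop) (hQ : ∀ g t, Q t → Q (g * t * g⁻¹)) {a b c d : Ω}
    (hab : a ≠ b) (hcd : c ≠ d) :
    (univ.filter fun t : G => Q t ∧ t • c = d).card = (univ.filter fun t : G => Q t ∧ t • a = b).card := by
  obtain ⟨g, rfl, rfl⟩ := D.trans a b c d hab hcd
  refine (card_bij (fun t _ => g * t * g⁻¹) (fun t ht => ?_)
    (fun _ _ _ _ h => mul_left_cancel (mul_right_cancel h)) fun t ht => ?_).symm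
  · refine mem_filter.2 ⟨mem_univ _, hQ g t (mem_filter.1 ht).2.1, ?_⟩
    rw [conj_smul, (mem_filter.1 ht).2.2]
  · refine ⟨g⁻¹ * t * g, mem_filter.2 ⟨mem_univ _, ?_, ?_⟩, by group⟩
    · simpa using hQ g⁻¹ t (mem_filter.1 ht).2.1
    · rw [mul_smul, mul_smul, (mem_filter.1 ht).2.2, inv_smul_smul]

theorem card_fix_eq (Q : G → Prop) (hQ : ∀ g t, Q t → Q (g * t * g⁻¹)) (a c : Ω) :
    (univ.filter fun t : G => Q t ∧ t • c = c).card = (univ.filter fun t : G => Q t ∧ t • a = a).card := by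
  by_cases h : a = c
  · rw [h]
  obtain ⟨g, rfl, -⟩ := D.trans a c c a h (Ne.symm h)
  refine (card_bij (fun t _ => g * t * g⁻¹) (fun t ht => ?_)
    (fun _ _ _ _ h => mul_left_cancel (mul_right_cancel h)) fun t ht => ?_).symm
  · refine mem_filter.2 ⟨mem_univ _, hQ g t (mem_filter.1 ht).2.1, ?_⟩
    rw [conj_smul, (mem_filter.1 ht).2.2]
  · refine ⟨g⁻¹ * t * g, mem_filter.2 ⟨mem_univ _, ?_, ?_⟩, by group⟩
    · simpa using hQ g⁻¹ t (mem_filter.1 ht).2.1
    · rw [mul_smul, mul_smul, (mem_filter.1 ht).2.2, inv_smul_smul]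

end Hyp

/-- The class of the involutions fixing two points. -/
noncomputable def Tset (G : Type u) (Ω : Type v) [Group G] [MulAction G Ω] [Fintype Ω] [Fintype G] :
    Finset G := univ.filter fun t => IsT Ω t

namespace Hyp

variable (D : Hyp G Ω) [Fintype G]
include D

theorem mem_Tset {t : G} : t ∈ Tset G Ω ↔ IsT Ω t := by simp [Tset]

theorem card_T {J : G} (hJ : IsT Ω J) :
    (Tset G Ω).card * (4 * ((fx (Ω := Ω) J).card * ((fx (Ω := Ω) J).card - 1))) =
      12 * (Nat.card Ω * (Nat.card Ω - 1)) := by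
  rw [← D.card_cent hJ, ← D.card_G]
  have hT : Tset G Ω = univ.filter (IsConj J) := by
    ext t
    rw [D.mem_Tset, mem_filter]
    refine ⟨fun h => ⟨mem_univ _, D.isConj_T hJ h⟩, fun h => ?_⟩
    obtain ⟨g, rfl⟩ := isConj_iff.1 h.2
    exact hJ.conj g
  have hcl : (univ.filter (IsConj J)).card = (Subgroup.centralizer ({J} : Set G)).index := by
    rw [Subgroup.centralizer_eq_comap_stabilizer]
    erw [Subgroup.index_comap_of_surjective _ (f := (ConjAct.toConjAct (G := G)).toMonoidHom)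
      (ConjAct.toConjAct (G := G)).surjective]
    rw [index_stabilizer, ConjAct.orbit_eq_carrier_conjClasses, ← Set.ncard_coe_finset]
    congr 1
    ext e
    simp only [coe_filter, Finset.mem_univ, true_and, Set.mem_ofPred_eq,
      ConjClasses.mem_carrier_iff_mk_eq, ConjClasses.mk_eq_mk_iff_isConj]
    exact isConj_comm
  rw [hT, hcl, mul_comm, Subgroup.card_mul_index]

end Hyp

end CfsgLib.TwoPointA4
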