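import Cfsg.Agent.TwoPointA4.Regular
import Cfsg.Agent.TwoPointA4.Sym
import Cfsg.Agent.Signalizer.Wielandt
import Cfsg.Agent.Kinf.LocalBalance

/-!
# The symmetric type with four-groups fixing an odd number of points, not all of the fixed points
-/

set_option autoImplicit false
set_option linter.unusedSectionVars false
set_option linter.style.haveILetI false

namespace CfsgLib.TwoPointA4

open MulAction Finset
open scoped Classical Pointwise

universe u v

variable {G : Type u} {Ω : Type v} [Group G] [MulAction G Ω] [Fintype Ω] [Fintype G]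

theorem centralizer_zpowers' (g : G) :
    Subgroup.centralizer ((Subgroup.zpowers g : Subgroup G) : Set G) =
      Subgroup.centralizer ({g} : Set G) := by
  refine le_antisymm (Subgroup.centralizer_le (Set.singleton_subset_iff.2 (Subgroup.mem_zpowers g)))
    fun y hy => Subgroup.mem_centralizer_iff.2 fun b hb => ?_
  obtain ⟨i, rfl⟩ := Subgroup.mem_zpowers_iff.1 hb
  exact (Commute.zpow_left (Subgroup.mem_centralizer_singleton_iff.1 hy).symm i).eq

namespace Hyp

variable (D : Hyp G Ω)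
include D

/-- The lines of the four-group. -/
theorem lines_fourGroup {a b : Ω} (hab : a ≠ b) {J v : G} (hJ : InV a b J) (hJ1 : J ≠ 1)
    (hv : InV a b v) (hv1 : v ≠ 1) (hvJ : v ≠ J) :
    Signalizer.lines 2 (fourGroup D hab) =
        {Subgroup.zpowers J, Subgroup.zpowers v, Subgroup.zpowers (v * J)} ∧
      Subgroup.zpowers J ∉ ({Subgroup.zpowers v, Subgroup.zpowers (v * J)} : Finset (Subgroup G)) ∧
      Subgroup.zpowers v ≠ Subgroup.zpowers (v * J) := by
  haveI : Fact (Nat.Prime 2) := ⟨Nat.prime_two⟩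
  have hvJV := (D.inV_mul hab hv hJ).2
  have hvJ1 : v * J ≠ 1 := fun e => hvJ (mul_right_cancel (e.trans hJ.2.2.symm))
  have hline : ∀ g, InV a b g → g ≠ 1 → Subgroup.zpowers g ∈ Signalizer.lines 2 (fourGroup D hab) :=
    fun g hg hg1 => Signalizer.mem_lines.2 ⟨Subgroup.zpowers_le.2 hg, by
      rw [Nat.card_zpowers]; exact orderOf_eq_prime (by rw [sq, hg.2.2]) hg1⟩
  have hzp : ∀ x y : G, x * x = 1 → y ≠ 1 → Subgroup.zpowers x = Subgroup.zpowers y → x = y := by
    intro x y hx hy1 h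
    obtain ⟨i, hi⟩ := Subgroup.mem_zpowers_iff.1 (h ▸ Subgroup.mem_zpowers y : y ∈ Subgroup.zpowers x)
    rcases Int.even_or_odd i with ⟨j, rfl⟩ | ⟨j, rfl⟩
    · exact absurd (by rw [← hi, ← two_mul, zpow_mul, zpow_two, hx, one_zpow]) hy1
    · rw [← hi, zpow_add, zpow_mul, zpow_two, hx, one_zpow, one_mul, zpow_one]
  refine ⟨?_, ?_, fun h => hJ1 (mul_eq_left.1 (hzp v (v * J) hv.2.2 hvJ1 h).symm)⟩
  · ext B
    simp only [mem_insert, mem_singleton]
    constructor
    · intro hB
      obtain ⟨hBE, hBc⟩ := Signalizer.mem_lines.1 hB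
      obtain ⟨x, hx, hx1⟩ : ∃ x ∈ B, x ≠ 1 := by
        by_contra h
        push Not at h
        rw [(Subgroup.eq_bot_iff_forall B).2 h, Subgroup.card_bot] at hBc
        omega
      have hxV : InV a b x := hBE hx
      have he : Subgroup.zpowers x = B := Subgroup.eq_of_le_of_card_ge (Subgroup.zpowers_le.2 hx)
        (le_of_eq (by rw [hBc, Nat.card_zpowers]; exact (orderOf_eq_prime (by rw [sq, hxV.2.2]) hx1).symm))
      rw [← he]
      rcases D.inV_cases hab hJ hJ1 hv hv1 hvJ hxV with rfl | rfl | rfl | rfl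
      exacts [absurd rfl hx1, Or.inl rfl, Or.inr (Or.inl rfl), Or.inr (Or.inr rfl)]
    · rintro (rfl | rfl | rfl)
      exacts [hline J hJ hJ1, hline v hv hv1, hline _ hvJV hvJ1]
  · simp only [mem_insert, mem_singleton, not_or]
    exact ⟨fun h => hvJ (hzp J v hJ.2.2 hv1 h).symm,
      fun h => hv1 (mul_eq_right.1 (hzp J (v * J) hJ.2.2 hvJ1 h).symm)⟩

theorem sym_odd_false (hS : SymType G Ω) (hK : ¬ KV G Ω) {a b : Ω} (hab : a ≠ b) {J : G}
    (hJ : InV a b J) (hJ1 : J ≠ 1) (he : Odd (FV G a b).card) : False := by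
  haveI : Fact (Nat.Prime 2) := ⟨Nat.prime_two⟩
  have hJT := isT_of_inV hab hJ hJ1
  obtain ⟨u, hu, huu, huJ, huV⟩ := D.sym_exists hS hab hJ hJ1
  obtain ⟨v, hv, hv1, hvJ⟩ := D.exists_second hab hJ
  have hvJV := (D.inV_mul hab hv hJ).2
  have hvj := (D.inV_mul hab hv hJ).1
  have hvJ1 : v * J ≠ 1 := fun e => hvJ (mul_right_cancel (e.trans hJ.2.2.symm))
  have hvT := isT_of_inV hab hv hv1
  have hui : u⁻¹ = u := inv_eq_of_mul_eq_one_right huu
  have hu1 : u ≠ 1 := hu.ne_one hab
  have hfe := D.sym_f_eq hS hK hab hJ hJ1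
  have he3 := D.sym_odd_mod_four hS hab he
  obtain ⟨p, j, hp', hj, hpe⟩ := D.isPrimePow_card_FV hab
  have hp := hp'.nat_prime
  haveI : Fact p.Prime := ⟨hp⟩
  set e := (FV G a b).card with he'
  set Φ := fx (Ω := Ω) J
  set f := Φ.card
  obtain ⟨k, hk⟩ : ∃ k, k = j + j := ⟨_, rfl⟩
  have hfp : f = p ^ k := by rw [hk, pow_add, hpe, hfe]
  have hp2 : p ≠ 2 := fun h => by
    subst h
    exact (Nat.not_even_iff_odd.2 he) (hpe ▸ (Nat.even_pow.2 ⟨even_two, by omega⟩))
  have hfodd : Odd f := by rw [hfe]; exact he.mul he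
  have hf9 : 9 ≤ f := by rw [hfe]; calc 9 = 3 * 3 := rfl
                                      _ ≤ e * e := Nat.mul_le_mul (by omega) (by omega)
  have hker : ∀ g : G, g * J = J * g → (∀ x ∈ Φ, g • x = x) → g = 1 ∨ g = J := by
    intro g hgJ hfix
    by_contra h
    push Not at h
    have hgV := D.inV_of_commute hab hJ hJ1 (hfix a (mem_fx.2 hJ.1)) (hfix b (mem_fx.2 hJ.2.1)) hgJ.symm
    have hi := D.inter_fx_eq hab hJ hgV hJ1 h.1 h.2
    rw [inter_eq_left.2 fun x hx => mem_fx.2 (hfix x hx)] at hi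
    have := D.card_FV_lt hK hab hJ hJ1
    exact this.ne (congrArg card hi.symm)
  -- elements of order four
  let W : Finset G := univ.filter fun g => g * J = J * g ∧ g * g = J
  have hmemW : ∀ g, g ∈ W ↔ g * J = J * g ∧ g * g = J := fun g => by simp [W]
  have hWmul : ∀ w ∈ W, w * J ∈ W := fun w hw => by
    obtain ⟨h1, h2⟩ := (hmemW w).1 hw
    refine (hmemW _).2 ⟨(Commute.mul_left h1 (Commute.refl J)).eq, ?_⟩
    calc w * J * (w * J) = w * (J * w) * J := by group
      _ = w * w * (J * J) := by rw [← h1]; group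
      _ = J := by rw [h2, hJ.2.2, mul_one]
  have hWc : ∀ g : G, g * J = J * g → ∀ w ∈ W, g * w * g⁻¹ ∈ W := by
    intro g hg w hw
    obtain ⟨h1, h2⟩ := (hmemW w).1 hw
    exact (hmemW _).2 ⟨((Commute.mul_left hg h1).mul_left (Commute.inv_left hg)).eq,
      by rw [conj_mul, h2, hg, mul_inv_cancel_right]⟩
  have hone : ∀ w ∈ W, (Φ ∩ fx w).card = 1 := by
    intro w hw
    obtain ⟨h1, h2⟩ := (hmemW w).1 hw
    have hle : ¬ 2 ≤ (Φ ∩ fx w).card := fun h => by
      obtain ⟨c, hc, d, hd, hcd⟩ := one_lt_card.1 h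
      have := D.inV_of_commute hcd ⟨mem_fx.1 (mem_inter.1 hc).1, mem_fx.1 (mem_inter.1 hd).1, hJ.2.2⟩ hJ1
        (mem_fx.1 (mem_inter.1 hc).2) (mem_fx.1 (mem_inter.1 hd).2) h1.symm
      exact hJ1 (h2.symm.trans this.2.2)
    have h3 := card_inter_fx_mod_two w Φ (fun x hx => cent_preserves h1 hx) fun x hx => by
      rw [smul_smul, h2, mem_fx.1 hx]
    obtain ⟨m, hm⟩ := hfodd
    omega
  have hpair : ∀ c ∈ Φ, ∀ d ∈ Φ, c ≠ d → (W.filter fun w => w • c = d).card = 2 := by
    intro c hc d hd hcd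
    have hJ' : InV c d J := ⟨mem_fx.1 hc, mem_fx.1 hd, hJ.2.2⟩
    obtain ⟨u', hu', hu'u, hu'J, hu'V⟩ := D.sym_exists hS hcd hJ' hJ1
    obtain ⟨v', hv', hv'1, hv'J⟩ := D.exists_second hcd hJ'
    have hv'j := (D.inV_mul hcd hv' hJ').1
    have hcases := fun {g : G} => D.sym_cases hS hcd hJ' hJ1 hv' hv'1 hv'J hu' hu'u hu'J
      (hu'V v' hv' hv'1 hv'J) (g := g)
    have hset : W.filter (fun w => w • c = d) = {u' * v', u' * (v' * J)} := by
      ext g
      simp only [mem_filter, mem_insert, mem_singleton]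
      constructor
      · rintro ⟨hg, hgc⟩
        obtain ⟨h1, h2⟩ := (hmemW g).1 hg
        have hgd : g • d = c := by rw [← hgc, smul_smul, h2, mem_fx.1 hc]
        rcases (hcases ⟨hgc, hgd⟩ h1).1 with e | e | e | e
        · exfalso; rw [e, hu'u] at h2; exact hJ1 h2.symm
        · exfalso
          rw [e, show u' * J * (u' * J) = u' * (J * u') * J by group, ← hu'J,
            show u' * (u' * J) * J = u' * u' * (J * J) by group, hu'u, hJ.2.2, mul_one] at h2
          exact hJ1 h2.symm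
        · exact Or.inl e
        · exact Or.inr e
      · have e1 : Commute (u' * v') J := Commute.mul_left hu'J hv'j
        have e2 : Commute (u' * (v' * J)) J := Commute.mul_left hu'J (Commute.mul_left hv'j (Commute.refl J))
        rintro (rfl | rfl)
        · exact ⟨(hmemW _).2 ⟨e1.eq, (hcases (hu'.mul_right hv'.1 hv'.2.1) e1.eq).2.2 (Or.inl rfl)⟩,
            (hu'.mul_right hv'.1 hv'.2.1).1⟩
        · have hvJ' := (D.inV_mul hcd hv' hJ').2
          exact ⟨(hmemW _).2 ⟨e2.eq, (hcases (hu'.mul_right hvJ'.1 hvJ'.2.1) e2.eq).2.2 (Or.inr rfl)⟩,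
            (hu'.mul_right hvJ'.1 hvJ'.2.1).1⟩
    rw [hset]
    exact card_pair fun e => hJ1 (mul_eq_left.1 (mul_left_cancel e).symm)
  -- the group to be normalized
  set A := fourGroup D hab
  have huA : Subgroup.zpowers u ≤ Subgroup.normalizer (A : Set G) := by
    rw [Subgroup.zpowers_le, Subgroup.mem_normalizer_iff]
    intro w
    refine ⟨fun hw => hu.inV_conj hw, fun hw => ?_⟩
    have : InV a b (u⁻¹ * (u * w * u⁻¹) * u⁻¹⁻¹) := hu.inv.inV_conj hw
    rwa [show u⁻¹ * (u * w * u⁻¹) * u⁻¹⁻¹ = w by group] at this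
  set E := Subgroup.zpowers u ⊔ A
  have hEC : E ≤ Subgroup.centralizer ({J} : Set G) := sup_le
    (Subgroup.zpowers_le.2 (Subgroup.mem_centralizer_singleton_iff.2 huJ))
    fun w hw => Subgroup.mem_centralizer_singleton_iff.2 (D.inV_mul hab hw hJ).1
  have hE2 : IsPGroup 2 E := IsPGroup.to_sup_of_normal_right'
    (IsPGroup.of_card (n := 1) (by rw [Nat.card_zpowers, orderOf_eq_prime (by rw [sq, huu]) hu1, pow_one]))
    (IsPGroup.of_card (n := 2) (by rw [card_fourGroup]; norm_num)) huA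
  obtain ⟨P, hPJ, hPcard, hPE, hPtr, hPfree⟩ := D.exists_regular_sylow hJT hp hp2 (k := k)
    (by omega) hfp hker W (fun w hw => ((hmemW w).1 hw).1) hWmul hWc
    (fun w hw => Or.inr ((hmemW w).1 hw).2) hone hpair E
    (fun g hg => Subgroup.mem_centralizer_singleton_iff.1 (hEC hg)) hE2
  have hPinv : ∀ y ∈ P, ∀ x ∈ Φ, y • x ∈ Φ := fun y hy x hx => cent_preserves (hPJ y hy) hx
  have hcP : ∀ w : G, InV a b w → Nat.card ↥(P ⊓ Subgroup.centralizer ({w} : Set G)) = (Φ ∩ fx w).card :=
    fun w hw => card_cent_regular P Φ hPinv hPtr hPfree w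
      (fun y hy => hPE w (Subgroup.mem_sup_right hw) y hy) (mem_fx.2 hJ.1) hw.1
  -- the centralizer of `P`
  set Cc := Subgroup.centralizer (P : Set G)
  have hmemCc : ∀ g, g ∈ Cc ↔ ∀ y ∈ P, y * g = g * y := fun g => Subgroup.mem_centralizer_iff
  have hJCc : J ∈ Cc := (hmemCc J).2 hPJ
  have hkey : ∀ g ∈ Cc, g * J = J * g → ∀ c ∈ Φ, g • c = c → g = 1 ∨ g = J := by
    intro g hg hgJ c hc hgc
    refine hker g hgJ fun x hx => ?_
    obtain ⟨y, hy, rfl⟩ := hPtr c hc x hx
    rw [smul_smul, ← (hmemCc g).1 hg y hy, mul_smul, hgc]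
  have huniq : ∀ g ∈ Cc, g * g = 1 → g ≠ 1 → g * J = J * g → g = J := by
    intro g hg hgg hg1 hgJ
    have h3 := card_inter_fx_mod_two g Φ (fun x hx => cent_preserves hgJ hx) fun x _ => by
      rw [smul_smul, hgg, one_smul]
    obtain ⟨c, hc⟩ := card_pos.1 (show 0 < (Φ ∩ fx g).card by obtain ⟨m, hm⟩ := hfodd; omega)
    exact (hkey g hg hgJ c (mem_inter.1 hc).1 (mem_fx.1 (mem_inter.1 hc).2)).resolve_left hg1
  have hconj : ∀ g ∈ Cc, g * g = 1 → g ≠ 1 → ∃ r ∈ Cc, g = r * J * r⁻¹ := by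
    intro g hg hgg hg1
    set y := g * J with hy
    have hgi : g⁻¹ = g := inv_eq_of_mul_eq_one_right hgg
    have hJi : J⁻¹ = J := inv_eq_of_mul_eq_one_right hJ.2.2
    have hJy : J * y * J⁻¹ = y⁻¹ := by
      rw [hy, mul_inv_rev, hJi, hgi, mul_assoc, mul_assoc g J J, hJ.2.2, mul_one]
    rcases Nat.even_or_odd (orderOf y) with ⟨m, hm⟩ | ⟨m, hm⟩
    · -- a central involution of the dihedral group is `J`
      have hm0 : 0 < m := by have := orderOf_pos y; omega
      set z := y ^ m with hz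
      have hzz : z * z = 1 := by rw [hz, ← pow_add, ← hm, pow_orderOf_eq_one]
      have hz1 : z ≠ 1 := pow_ne_one_of_lt_orderOf hm0.ne' (by omega)
      have hzi : z⁻¹ = z := inv_eq_of_mul_eq_one_right hzz
      have hzJ : z * J = J * z := by
        refine (mul_inv_eq_iff_eq_mul.1 ?_).symm
        rw [hz, ← conj_pow, hJy, inv_pow, ← hz, hzi]
      have hzJ' := huniq z (pow_mem (mul_mem hg hJCc) m) hzz hz1 hzJ
      have hgJ : g * J = J * g := by
        have h1 : Commute y z := Commute.pow_right (Commute.refl y) m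
        rw [hzJ', hy] at h1
        have h2 : g * J * J = J * (g * J) := h1.eq
        rw [mul_assoc, hJ.2.2, mul_one] at h2
        calc g * J = J * (g * J) * J := by rw [← h2]
          _ = J * g := by rw [← mul_assoc J g J, mul_assoc _ J J, hJ.2.2, mul_one]
      exact ⟨1, one_mem _, by rw [huniq g hg hgg hg1 hgJ]; group⟩
    · refine ⟨y ^ (m + 1), pow_mem (mul_mem hg hJCc) _, ?_⟩
      have e1 : J * (y ^ (m + 1))⁻¹ = y ^ (m + 1) * J := by
        rw [← mul_inv_eq_iff_eq_mul, ← conj_inv, ← conj_pow, hJy, inv_pow, inv_inv]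
      rw [mul_assoc, e1, ← mul_assoc, ← pow_add, show m + 1 + (m + 1) = 2 * m + 1 + 1 by omega, pow_succ,
        ← hm, pow_orderOf_eq_one, one_mul, hy, mul_assoc, hJ.2.2, mul_one]
  have hiso : Cfsg.IsIsolatedInvolution (⟨J, hJCc⟩ : Cc) := by
    refine ⟨by rw [Subgroup.orderOf_mk]; exact orderOf_eq_prime (by rw [sq, hJ.2.2]) hJ1, fun g hg => ?_⟩
    refine Subtype.ext (huniq _ (SetLike.coe_mem _) ?_ ?_ (congrArg Subtype.val hg.eq).symm)
    · simp only [Subgroup.coe_mul, Subgroup.coe_inv]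
      rw [conj_mul, hJ.2.2]; group
    · simp only [Subgroup.coe_mul, Subgroup.coe_inv]
      exact fun h => hJ1 (conj_eq_one_iff.1 h)
  set O := (Cfsg.oddCore Cc).map Cc.subtype with hO
  have hOle : O ≤ Cc := Subgroup.map_subtype_le _
  have hOodd : Odd (Nat.card O) := by
    rw [hO, Subgroup.card_map_of_injective Cc.subtype_injective]
    exact CfsgLib.IsoApps.odd_oddCore
  haveI hOn : (Cfsg.oddCore Cc).Normal := CfsgLib.Solvable.pPrimeCore_normal 2
  have hOconj : ∀ g ∈ Cc, ∀ o ∈ O, g * o * g⁻¹ ∈ O := by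
    rintro g hg _ ⟨o, ho, rfl⟩
    exact ⟨⟨g, hg⟩ * o * ⟨g, hg⟩⁻¹, hOn.conj_mem o ho _, rfl⟩
  have hJO : J ∉ O := fun h => by
    have := Subgroup.orderOf_dvd_natCard O h
    rw [orderOf_eq_prime (by rw [sq, hJ.2.2]) hJ1] at this
    exact (Nat.not_even_iff_odd.2 hOodd) (even_iff_two_dvd.2 this)
  set Z := P ⊓ Cc with hZ
  have hPodd : Odd (Nat.card P) := by rw [hPcard, ← hfp]; exact hfodd
  have hZO : Z ≤ O := by
    have hn : (Z.subgroupOf Cc).Normal := ⟨fun z hz g => by
      have hz' : (z : G) ∈ Z := hz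
      show ((g * z * g⁻¹ : Cc) : G) ∈ Z
      simp only [Subgroup.coe_mul, Subgroup.coe_inv]
      rw [← (hmemCc _).1 g.2 z hz'.1, mul_inv_cancel_right]
      exact hz'⟩
    have hcop : (Nat.card (Z.subgroupOf Cc)).Coprime 2 := by
      rw [Nat.card_congr (Subgroup.subgroupOfEquivOfLe inf_le_right).toEquiv, Nat.coprime_two_right]
      exact hPodd.of_dvd_nat (Subgroup.card_dvd_of_le inf_le_left)
    intro z hz
    exact ⟨⟨z, hz.2⟩, CfsgLib.Solvable.le_pPrimeCore 2 hn hcop hz, rfl⟩
  have hOJ : O ⊓ Subgroup.centralizer ({J} : Set G) = Z := by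
    set A0 := O ⊓ Subgroup.centralizer ({J} : Set G) with hA0
    refine le_antisymm ?_ (le_inf hZO fun z hz => Subgroup.mem_centralizer_singleton_iff.2 (hPJ z hz.1))
    -- semiregular, so a `p`-group
    have hfree : ∀ g ∈ A0, ∀ c ∈ Φ, g • c = c → g = 1 := fun g hg c hc hgc =>
      (hkey g (hOle hg.1) (Subgroup.mem_centralizer_singleton_iff.1 hg.2) c hc hgc).resolve_right
        fun e => hJO (e ▸ hg.1)
    have hdvd : Nat.card A0 ∣ p ^ k := by
      letI : MulAction A0 {x : Ω // x ∈ Φ} :=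
        { smul := fun g x => ⟨(g : G) • (x : Ω),
            cent_preserves (Subgroup.mem_centralizer_singleton_iff.1 g.2.2) x.2⟩
          one_smul := fun x => Subtype.ext (one_smul G (x : Ω))
          mul_smul := fun g h x => Subtype.ext (mul_smul (g : G) (h : G) (x : Ω)) }
      have hstab : ∀ x : {x : Ω // x ∈ Φ}, stabilizer A0 x = ⊥ := fun x =>
        eq_bot_iff.2 fun g hg => Subgroup.mem_bot.2
          (Subtype.ext (hfree g g.2 x x.2 (congrArg Subtype.val (mem_stabilizer_iff.1 hg))))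
      rw [← hfp, show f = Nat.card {x : Ω // x ∈ Φ} by rw [Nat.card_eq_fintype_card, Fintype.card_coe],
        Nat.card_congr (MulAction.selfEquivOrbitsQuotientProd hstab), Nat.card_prod]
      exact Dvd.intro_left _ rfl
    have hA0p : IsPGroup p A0 := by
      obtain ⟨i, -, hi⟩ := (Nat.dvd_prime_pow hp).1 hdvd
      exact IsPGroup.of_card hi
    have hnorm : A0 ≤ Subgroup.normalizer (P : Set G) := fun g hg =>
      Subgroup.centralizer_le_normalizer _ (hOle hg.1)
    obtain ⟨m, hm⟩ := IsPGroup.iff_card.1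
      (IsPGroup.to_sup_of_normal_right' hA0p (IsPGroup.of_card hPcard) hnorm)
    have hsupC : A0 ⊔ P ≤ Subgroup.centralizer ({J} : Set G) :=
      sup_le inf_le_right fun y hy => Subgroup.mem_centralizer_singleton_iff.2 (hPJ y hy)
    have hmk : m ≤ k := by
      have h := Subgroup.card_dvd_of_le hsupC
      have h4 : ¬ p ∣ 4 * (f - 1) := by
        intro h
        rcases hp.dvd_mul.1 h with h | h
        · exact hp2 ((Nat.prime_dvd_prime_iff_eq hp Nat.prime_two).1 (hp.dvd_of_dvd_pow (show p ∣ 2 ^ 2 from h)))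
        · have h1 : p ∣ f := hfp ▸ dvd_pow_self p (by omega)
          have h2 := Nat.dvd_sub h1 h
          rw [Nat.sub_sub_self (by omega)] at h2
          exact hp.not_dvd_one h2
      rw [hm, D.card_cent hJT, show 4 * (Φ.card * (Φ.card - 1)) = 4 * (f - 1) * f by ring, hfp] at h
      rw [hfp] at h4
      exact (Nat.pow_dvd_pow_iff_le_right hp.one_lt).1
        ((((Nat.Prime.coprime_iff_not_dvd hp).2 h4).pow_left m).dvd_of_dvd_mul_left h)
    have hsup : P = A0 ⊔ P := Subgroup.eq_of_le_of_card_ge le_sup_right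
      (by rw [hm, hPcard]; exact Nat.pow_le_pow_right hp.pos hmk)
    intro g hg
    exact ⟨hsup ▸ Subgroup.mem_sup_left hg, hOle hg.1⟩
  -- the formula of Wielandt
  have hnormP : ∀ g ∈ E, g ∈ Subgroup.normalizer (P : Set G) := fun g hg => by
    refine Subgroup.mem_normalizer_iff.2 fun y => ⟨hPE g hg y, fun h => ?_⟩
    have := hPE g⁻¹ (inv_mem hg) _ h
    rwa [show g⁻¹ * (g * y * g⁻¹) * g⁻¹⁻¹ = y by group] at this
  have hnormCc : Subgroup.normalizer (P : Set G) ≤ Subgroup.normalizer (Cc : Set G) := fun g hg => by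
    have h1 : ∀ g ∈ Subgroup.normalizer (P : Set G), ∀ x ∈ Cc, g * x * g⁻¹ ∈ Cc := fun g hg x hx => by
      refine (hmemCc _).2 fun y hy => ?_
      have hy' : g⁻¹ * y * g ∈ P :=
        (Subgroup.mem_normalizer_iff.1 hg _).2 (by rwa [show g * (g⁻¹ * y * g) * g⁻¹ = y by group])
      calc y * (g * x * g⁻¹) = g * ((g⁻¹ * y * g) * x) * g⁻¹ := by group
        _ = g * x * g⁻¹ * y := by rw [(hmemCc x).1 hx _ hy']; group
    refine Subgroup.mem_normalizer_iff.2 fun x => ⟨h1 g hg x, fun h => ?_⟩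
    have := h1 g⁻¹ (inv_mem hg) _ h
    rwa [show g⁻¹ * (g * x * g⁻¹) * g⁻¹⁻¹ = x by group] at this
  have hnormO : ∀ g ∈ E, g ∈ Subgroup.normalizer (O : Set G) := fun g hg =>
    CfsgLib.LocalBalance.normalizer_le_normalizer_core (p := 2) Cc (hnormCc (hnormP g hg))
  set ca := Nat.card ↥(O ⊓ Subgroup.centralizer ({v} : Set G)) with hca
  set cd := Nat.card ↥(O ⊓ Subgroup.centralizer (A : Set G)) with hcd
  set cz := Nat.card Z with hcz
  set co := Nat.card O with hco
  have hsame : Nat.card ↥(O ⊓ Subgroup.centralizer ({v * J} : Set G)) = ca := by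
    have hconj' : ∀ x w w' : G, u * w * u⁻¹ = w' → x ∈ O ⊓ Subgroup.centralizer ({w} : Set G) →
        u * x * u⁻¹ ∈ O ⊓ Subgroup.centralizer ({w'} : Set G) := by
      intro x w w' e hx
      refine ⟨(Subgroup.mem_normalizer_iff.1 (hnormO u (Subgroup.mem_sup_left (Subgroup.mem_zpowers u))) x).1 hx.1,
        Subgroup.mem_centralizer_singleton_iff.2 ?_⟩
      rw [← e, conj_mul, conj_mul, Subgroup.mem_centralizer_singleton_iff.1 hx.2]
    have e1 : u * v * u⁻¹ = v * J := by rw [hui]; exact huV v hv hv1 hvJ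
    have e2 : u * (v * J) * u⁻¹ = v := by
      rw [← e1, hui, ← mul_assoc, ← mul_assoc, huu, one_mul, mul_assoc v u u, huu, mul_one]
    refine le_antisymm ?_ ?_ <;>
      refine Nat.card_le_card_of_injective (fun x => ⟨u * (x : G) * u⁻¹, hconj' x _ _ ?_ x.2⟩)
        (fun x y h => Subtype.ext (mul_left_cancel (mul_right_cancel (congrArg Subtype.val h))))
    · exact e2
    · exact e1
  have hW' : cz * (ca * ca) = co * cd ^ 2 := by
    have hA : Cfsg.IsElementaryAbelian 2 A :=
      ⟨⟨⟨fun x y => Subtype.ext (D.inV_mul hab x.2 y.2).1⟩⟩, fun x hx => by rw [sq]; exact hx.2.2⟩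
    have h := Signalizer.wielandt hA (by rw [card_fourGroup]; norm_num) (K := O)
      (fun h => (Nat.not_even_iff_odd.2 hOodd) (even_iff_two_dvd.2 h))
      fun g hg => hnormO g (Subgroup.mem_sup_right hg)
    obtain ⟨hl, hl1, hl2⟩ := D.lines_fourGroup hab hJ hJ1 hv hv1 hvJ
    rw [hl, prod_insert hl1, prod_pair hl2, card_insert_of_notMem hl1, card_pair hl2,
      centralizer_zpowers', centralizer_zpowers', centralizer_zpowers', hOJ, hsame] at h
    exact h
  have hcdpos : 0 < cd := Nat.card_pos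
  have hTa : Nat.card Ω = f * (2 * (f - 1) + 1) := by
    rw [D.sym_card_omega hS hab hJT]; ring
  obtain ⟨q, hq⟩ : ∃ q, f = q + 1 := ⟨f - 1, by omega⟩
  have hG : Nat.card G = 12 * ((2 * q + 1) * ((2 * q + 3) * q)) * p ^ k := by
    rw [D.card_G, hTa, ← hfp, hq, show q + 1 - 1 = q by omega]
    have e2 : (q + 1) * (2 * q + 1) - 1 = (2 * q + 3) * q := Nat.sub_eq_of_eq_add (by ring)
    rw [e2]; ring
  have hpq : p ∣ q + 1 := hq ▸ hfp ▸ dvd_pow_self p (by omega)
  have hrest : ¬ p ∣ (2 * q + 1) * ((2 * q + 3) * q) := by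
    intro h
    have h1 : ∀ m : ℕ, p ∣ m → m = 1 → False := fun m hm e => hp.not_dvd_one (e ▸ hm)
    rcases hp.dvd_mul.1 h with h | h
    · exact h1 _ (Nat.dvd_sub (hpq.mul_left 2) h) (by omega)
    · rcases hp.dvd_mul.1 h with h | h
      · exact h1 _ (Nat.dvd_sub h (hpq.mul_left 2)) (by omega)
      · exact h1 _ (Nat.dvd_sub hpq h) (by omega)
  set N := Subgroup.normalizer (P : Set G) with hN
  have hCcN : Cc ≤ N := Subgroup.centralizer_le_normalizer _
  by_cases hp3 : p = 3
  · -- the three-parts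
    subst hp3
    have hv3 : (Nat.card G).factorization 3 = k + 1 := by
      rw [hG, show 12 * ((2 * q + 1) * ((2 * q + 3) * q)) * 3 ^ k =
          (4 * ((2 * q + 1) * ((2 * q + 3) * q))) * 3 ^ (k + 1) by rw [pow_succ]; ring,
        Nat.factorization_mul (fun e => by
          rw [mul_eq_zero] at e; rcases e with e | e; · omega
          · exact hrest (e ▸ dvd_zero _)) (by positivity),
        Finsupp.add_apply, Nat.prime_three.factorization_pow, Finsupp.single_eq_same,
        Nat.factorization_eq_zero_of_not_dvd, zero_add]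
      exact fun h => (Nat.prime_three.dvd_mul.1 h).elim (by norm_num) hrest
    have hdvd3 : 3 ^ (k + 1) ∣ Nat.card G := hv3 ▸ Nat.ordProj_dvd _ _
    have hN3 : (Nat.card N).factorization 3 = k + 1 := by
      refine le_antisymm ?_ ((Nat.prime_three.pow_dvd_iff_le_factorization Nat.card_pos.ne').1
        (Sylow.prime_pow_dvd_card_normalizer hdvd3 hPcard))
      rw [← hv3]
      exact (Nat.factorization_le_iff_dvd Nat.card_pos.ne' Nat.card_pos.ne').2
        (Subgroup.card_subgroup_dvd_card N) 3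
    set NJ := N ⊓ Subgroup.centralizer ({J} : Set G) with hNJ
    have hNJ3 : (Nat.card NJ).factorization 3 = k := by
      refine le_antisymm ?_ ((Nat.prime_three.pow_dvd_iff_le_factorization Nat.card_pos.ne').1
        (hPcard ▸ Subgroup.card_dvd_of_le (le_inf Subgroup.le_normalizer
          fun y hy => Subgroup.mem_centralizer_singleton_iff.2 (hPJ y hy))))
      have h := (Nat.factorization_le_iff_dvd Nat.card_pos.ne' Nat.card_pos.ne').2
        (Subgroup.card_dvd_of_le (inf_le_right : NJ ≤ _)) 3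
      rw [D.card_cent hJT, show 4 * (Φ.card * (Φ.card - 1)) = 4 * q * 3 ^ k by
          rw [← hfp, ← show f - 1 = q by omega]; ring,
        Nat.factorization_mul (by omega) (by positivity), Finsupp.add_apply,
        Nat.prime_three.factorization_pow, Finsupp.single_eq_same,
        Nat.factorization_eq_zero_of_not_dvd (n := 4 * q), zero_add] at h
      · exact h
      exact fun h => (Nat.prime_three.dvd_mul.1 h).elim (by norm_num) fun h =>
        hrest ((h.mul_left _).mul_left _)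
    have hprod : (Cc : Set G) * (NJ : Set G) = (N : Set G) := by
      refine Set.Subset.antisymm (fun g hg => ?_) fun g hg => ?_
      · obtain ⟨c, hc, d, hd, rfl⟩ := Set.mem_mul.1 hg
        exact mul_mem (hCcN hc) hd.1
      · have hg' : g * J * g⁻¹ ∈ Cc := (Subgroup.mem_normalizer_iff.1 (hnormCc hg) J).1 hJCc
        obtain ⟨r, hr, e⟩ := hconj _ hg' (by rw [conj_mul, hJ.2.2]; group)
          fun e => hJ1 (conj_eq_one_iff.1 e)
        have hrN : r⁻¹ * g ∈ N := mul_mem (inv_mem (hCcN hr)) hg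
        refine ⟨r, hr, r⁻¹ * g, ⟨hrN,
          Subgroup.mem_centralizer_singleton_iff.2 (mul_inv_eq_iff_eq_mul.1 ?_)⟩, mul_inv_cancel_left r g⟩
        calc r⁻¹ * g * J * (r⁻¹ * g)⁻¹ = r⁻¹ * (g * J * g⁻¹) * r := by group
          _ = J := by rw [e]; group
    have h1 := CfsgLib.Factor.card_mul_set Cc NJ
    rw [hprod, show Cc ⊓ NJ = Cc ⊓ Subgroup.centralizer ({J} : Set G) by
      rw [hNJ, ← inf_assoc, inf_eq_left.2 hCcN]] at h1
    have hprod2 : (O : Set G) * ((Cc ⊓ Subgroup.centralizer ({J} : Set G) : Subgroup G) : Set G) =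
        (Cc : Set G) := by
      refine Set.Subset.antisymm (fun g hg => ?_) fun g hg => ?_
      · obtain ⟨c, hc, d, hd, rfl⟩ := Set.mem_mul.1 hg
        exact mul_mem (hOle hc) hd.1
      · obtain ⟨o, ho, c, hc, e⟩ := CfsgLib.IsoApps.exists_mul hiso ⟨g, hg⟩
        exact ⟨o, ⟨o, ho, rfl⟩, c, ⟨c.2, Subgroup.mem_centralizer_singleton_iff.2
          (congrArg Subtype.val (Subgroup.mem_centralizer_singleton_iff.1 hc))⟩, (congrArg Subtype.val e).symm⟩
    have h2 := CfsgLib.Factor.card_mul_set O (Cc ⊓ Subgroup.centralizer ({J} : Set G))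
    rw [hprod2, show O ⊓ (Cc ⊓ Subgroup.centralizer ({J} : Set G)) = Z by
      rw [← inf_assoc, inf_eq_left.2 hOle, hOJ]] at h2
    have h3 : Nat.card N * cz = co * Nat.card NJ := by
      refine Nat.eq_of_mul_eq_mul_left (Nat.card_pos (α := ↥(Cc ⊓ Subgroup.centralizer ({J} : Set G)))) ?_
      calc Nat.card ↥(Cc ⊓ Subgroup.centralizer ({J} : Set G)) * (Nat.card N * cz)
          = (Nat.card N * Nat.card ↥(Cc ⊓ Subgroup.centralizer ({J} : Set G))) * cz := by ring
        _ = (Nat.card Cc * cz) * Nat.card NJ := by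
            rw [show Nat.card N * Nat.card ↥(Cc ⊓ Subgroup.centralizer ({J} : Set G)) =
              Nat.card Cc * Nat.card NJ from h1]; ring
        _ = _ := by rw [show Nat.card Cc * cz = _ from h2]; ring
    have h4 := congrArg (fun m : ℕ => m.factorization 3) h3
    have h5 := congrArg (fun m : ℕ => m.factorization 3) hW'
    have hz0 : cz ≠ 0 := Nat.card_pos.ne'
    have ho0 : co ≠ 0 := Nat.card_pos.ne'
    have ha0 : ca ≠ 0 := Nat.card_pos.ne'
    simp only [Nat.factorization_mul Nat.card_pos.ne' hz0, Nat.factorization_mul ho0 Nat.card_pos.ne',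
      Finsupp.add_apply] at h4
    simp only [Nat.factorization_mul hz0 (mul_ne_zero ha0 ha0), Nat.factorization_mul ha0 ha0,
      Nat.factorization_mul ho0 (pow_ne_zero 2 hcdpos.ne'), Nat.factorization_pow, Finsupp.add_apply,
      Finsupp.smul_apply, smul_eq_mul] at h5
    rw [hN3, hNJ3] at h4
    omega
  -- `p` is at least five
  have hvp : (Nat.card G).factorization p = k := by
    have hne : ¬ p ∣ 12 * ((2 * q + 1) * ((2 * q + 3) * q)) := fun h => by
      rcases hp.dvd_mul.1 h with h | h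
      · rcases hp.dvd_mul.1 (show p ∣ 3 * 2 ^ 2 from h) with h | h
        · exact hp3 ((Nat.prime_dvd_prime_iff_eq hp Nat.prime_three).1 h)
        · exact hp2 ((Nat.prime_dvd_prime_iff_eq hp Nat.prime_two).1 (hp.dvd_of_dvd_pow h))
      · exact hrest h
    rw [hG, Nat.factorization_mul (fun e => hne (by rw [e]; exact dvd_zero _)) (pow_ne_zero _ hp.ne_zero), Finsupp.add_apply,
      hp.factorization_pow, Finsupp.single_eq_same, Nat.factorization_eq_zero_of_not_dvd hne, zero_add]
  have hfv : (fx (Ω := Ω) v).card = f := D.card_fx_T hJT hvT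
  have hAv : O ⊓ Subgroup.centralizer ({v} : Set G) ≤ Subgroup.centralizer ({J} : Set G) := by
    intro g hg
    have hJi : J⁻¹ = J := inv_eq_of_mul_eq_one_right hJ.2.2
    set x := g⁻¹ * (J * g * J⁻¹) with hx
    by_cases hx1 : x = 1
    · exact Subgroup.mem_centralizer_singleton_iff.2 (mul_inv_eq_iff_eq_mul.1 (inv_mul_eq_one.1 hx1).symm).symm
    exfalso
    have hgv : g * v = v * g := Subgroup.mem_centralizer_singleton_iff.1 hg.2
    have hxO : x ∈ O := mul_mem (inv_mem hg.1) (hOconj J hJCc g hg.1)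
    have hxv : x * v = v * x :=
      (Commute.mul_left (Commute.inv_left hgv)
        ((Commute.mul_left hvj.symm hgv).mul_left (Commute.inv_left hvj.symm))).eq
    have hxinv : J * x * J⁻¹ = x⁻¹ := by
      rw [hx]
      simp only [mul_inv_rev, inv_inv, hJi]
      rw [show J * (g⁻¹ * (J * g * J)) * J = J * g⁻¹ * J * g * (J * J) by group, hJ.2.2, mul_one]
      group
    have hm1 : orderOf x ≠ 1 := fun e => hx1 (orderOf_eq_one_iff.1 e)
    obtain ⟨r, hr, hrd⟩ := Nat.exists_prime_and_dvd hm1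
    haveI : Fact r.Prime := ⟨hr⟩
    obtain ⟨i, hi⟩ := hrd
    set y := x ^ i with hy
    have hxpos := orderOf_pos x
    have hi0 : i ≠ 0 := fun e => by rw [e, mul_zero] at hi; omega
    have hyo : orderOf y = r := by
      rw [hy, orderOf_pow_of_dvd hi0 (hi ▸ dvd_mul_left i r), hi, Nat.mul_div_cancel _ (Nat.pos_of_ne_zero hi0)]
    have hyO : y ∈ O := pow_mem hxO i
    have hyinv : J * y * J⁻¹ = y⁻¹ := by rw [hy, ← conj_pow, hxinv, inv_pow]
    have hyv : y * v = v * y := (Commute.pow_left hxv i).eq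
    have hr2 : r ≠ 2 := fun e => by
      have := (Subgroup.orderOf_dvd_natCard O hyO)
      rw [hyo, e] at this
      exact (Nat.not_even_iff_odd.2 hOodd) (even_iff_two_dvd.2 this)
    have hy2 : y * y ≠ 1 := fun e => by
      have := orderOf_dvd_of_pow_eq_one (show y ^ 2 = 1 by rw [sq, e])
      rw [hyo] at this
      exact hr2 ((Nat.prime_dvd_prime_iff_eq hr Nat.prime_two).1 this)
    by_cases hrp : r = p
    · have hyp : IsPGroup p (Subgroup.zpowers y) :=
        IsPGroup.of_card (n := 1) (by rw [Nat.card_zpowers, hyo, hrp, pow_one])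
      obtain ⟨m, hm⟩ := IsPGroup.iff_card.1 (IsPGroup.to_sup_of_normal_right' hyp (IsPGroup.of_card hPcard)
        (Subgroup.zpowers_le.2 (Subgroup.centralizer_le_normalizer _ (hOle hyO))))
      have hmk : m ≤ k := by
        have h := Subgroup.card_subgroup_dvd_card (Subgroup.zpowers y ⊔ P)
        rw [hm] at h
        exact hvp ▸ (hp.pow_dvd_iff_le_factorization Nat.card_pos.ne').1 h
      have hsup : P = Subgroup.zpowers y ⊔ P := Subgroup.eq_of_le_of_card_ge le_sup_right
        (by rw [hm, hPcard]; exact Nat.pow_le_pow_right hp.pos hmk)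
      have hyP : y ∈ P := hsup ▸ Subgroup.mem_sup_left (Subgroup.mem_zpowers y)
      rw [← hPJ y hyP, mul_inv_cancel_right] at hyinv
      exact hy2 (mul_eq_one_iff_eq_inv.2 hyinv)
    -- a fixed point of `y` among those of `v`
    have hrf : r ∣ f - 1 := by
      have h := Subgroup.orderOf_dvd_natCard _
        (Subgroup.mem_centralizer_singleton_iff.2 hyv : y ∈ Subgroup.centralizer ({v} : Set G))
      rw [hyo, D.card_cent hvT, hfv] at h
      rcases hr.dvd_mul.1 h with h | h
      · exact absurd ((Nat.prime_dvd_prime_iff_eq hr Nat.prime_two).1 (hr.dvd_of_dvd_pow (show r ∣ 2 ^ 2 from h))) hr2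
      · rcases hr.dvd_mul.1 h with h | h
        · exact absurd ((Nat.prime_dvd_prime_iff_eq hr hp).1 (hr.dvd_of_dvd_pow (hfp ▸ h))) hrp
        · exact h
    obtain ⟨d, hd, hyd⟩ : ∃ d ∈ fx (Ω := Ω) v, y • d = d := by
      letI : MulAction (Subgroup.zpowers y) {x : Ω // x ∈ fx (Ω := Ω) v} :=
        { smul := fun g x => ⟨(g : G) • (x : Ω), cent_preserves (by
            obtain ⟨l, hl⟩ := Subgroup.mem_zpowers_iff.1 g.2
            rw [← hl]; exact (Commute.zpow_left hyv l).eq) x.2⟩
          one_smul := fun x => Subtype.ext (one_smul G (x : Ω))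
          mul_smul := fun g h x => Subtype.ext (mul_smul (g : G) (h : G) (x : Ω)) }
      have hg' : IsPGroup r (Subgroup.zpowers y) :=
        IsPGroup.of_card (n := 1) (by rw [Nat.card_zpowers, hyo, pow_one])
      obtain ⟨x, hx⟩ := hg'.nonempty_fixed_point_of_prime_not_dvd_card {x : Ω // x ∈ fx (Ω := Ω) v} (by
        rw [Nat.card_eq_fintype_card, Fintype.card_coe, hfv]
        intro h
        have := Nat.dvd_sub h hrf
        rw [Nat.sub_sub_self (by omega)] at this
        exact hr.not_dvd_one this)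
      exact ⟨x, x.2, congrArg Subtype.val (hx ⟨y, Subgroup.mem_zpowers y⟩)⟩
    obtain ⟨z, hz, hz1⟩ : ∃ z ∈ P ⊓ Subgroup.centralizer ({v} : Set G), z ≠ 1 := by
      by_contra h
      push Not at h
      have := hcP v hv
      rw [(Subgroup.eq_bot_iff_forall _).2 h, Subgroup.card_bot, D.inter_fx_eq hab hJ hv hJ1 hv1 hvJ] at this
      omega
    have hzd : z • d ≠ d := by
      intro h
      have h1 : orderOf z ∣ p ^ k := hPcard ▸ Subgroup.orderOf_dvd_natCard P hz.1
      have h2 : orderOf z ∣ Nat.card (stabilizer G d) := Subgroup.orderOf_dvd_natCard _ h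
      obtain ⟨i', -, hi'⟩ := (Nat.dvd_prime_pow hp).1 h1
      rcases Nat.eq_zero_or_pos i' with rfl | hi'0
      · exact hz1 (orderOf_eq_one_iff.1 (by rw [hi', pow_zero]))
      have hpd : p ∣ Nat.card (stabilizer G d) := (hi' ▸ dvd_pow_self p hi'0.ne' : p ∣ orderOf z).trans h2
      rw [D.card_stab d, hTa, hq, show q + 1 - 1 = q by omega,
        show (q + 1) * (2 * q + 1) - 1 = (2 * q + 3) * q from Nat.sub_eq_of_eq_add (by ring)] at hpd
      rcases hp.dvd_mul.1 hpd with h | h
      · rcases hp.dvd_mul.1 (show p ∣ 3 * 2 ^ 2 from h) with h | h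
        · exact hp3 ((Nat.prime_dvd_prime_iff_eq hp Nat.prime_three).1 h)
        · exact hp2 ((Nat.prime_dvd_prime_iff_eq hp Nat.prime_two).1 (hp.dvd_of_dvd_pow h))
      · exact hrest (h.mul_left _)
    have hzy : y • z • d = z • d := by
      rw [smul_smul, ← (hmemCc y).1 (hOle hyO) z hz.1, mul_smul, hyd]
    have hzdv : z • d ∈ fx (Ω := Ω) v := cent_preserves (Subgroup.mem_centralizer_singleton_iff.1 hz.2) hd
    exact hy2 (D.inV_of_commute (Ne.symm hzd) ⟨mem_fx.1 hd, mem_fx.1 hzdv, hv.2.2⟩ hv1 hyd hzy hyv.symm).2.2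
  have hcad : ca = cd := by
    rw [hca, hcd]
    refine congrArg (fun H : Subgroup G => Nat.card H) (le_antisymm (fun g hg => ⟨hg.1, ?_⟩)
      (inf_le_inf_left _ (Subgroup.centralizer_le (Set.singleton_subset_iff.2 (show v ∈ A from hv)))))
    refine Subgroup.mem_centralizer_iff.2 fun w hw => ?_
    have hgJ := Subgroup.mem_centralizer_singleton_iff.1 (hAv hg)
    have hgv := Subgroup.mem_centralizer_singleton_iff.1 hg.2
    rcases D.inV_cases hab hJ hJ1 hv hv1 hvJ hw with rfl | rfl | rfl | rfl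
    · simp
    · exact hgJ.symm
    · exact hgv.symm
    · exact (Commute.mul_right hgv hgJ).eq.symm
  have hoz : co = cz := by
    rw [hcad, ← sq] at hW'
    exact (Nat.eq_of_mul_eq_mul_right (pow_pos hcdpos 2) hW').symm
  have hOZ : O = Z := (Subgroup.eq_of_le_of_card_ge hZO hoz.le).symm
  have hCcJ : ∀ g ∈ Cc, g * J = J * g := by
    intro g hg
    obtain ⟨o, ho, c, hc, e⟩ := CfsgLib.IsoApps.exists_mul hiso ⟨g, hg⟩
    have hoZ : (o : G) ∈ Z := hOZ ▸ ⟨o, ho, rfl⟩
    have e' : g = (o : G) * c := congrArg Subtype.val e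
    rw [e']
    exact (Commute.mul_left (hPJ _ hoZ.1)
      (congrArg Subtype.val (Subgroup.mem_centralizer_singleton_iff.1 hc))).eq
  have hNC : N ≤ Subgroup.centralizer ({J} : Set G) := fun g hg => by
    have hg' : g * J * g⁻¹ ∈ Cc := (Subgroup.mem_normalizer_iff.1 (hnormCc hg) J).1 hJCc
    obtain ⟨r, hr, e⟩ := hconj _ hg' (by rw [conj_mul, hJ.2.2]; group) fun e => hJ1 (conj_eq_one_iff.1 e)
    rw [hCcJ r hr, mul_inv_cancel_right] at e
    exact Subgroup.mem_centralizer_singleton_iff.2 (mul_inv_eq_iff_eq_mul.1 e)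
  -- Sylow numbers
  set C := Subgroup.centralizer ({J} : Set G) with hC
  let S : Sylow p G := Sylow.ofCard P (by rw [hPcard, hvp])
  have hScoe : (S : Subgroup G) = P := by simp [S]
  have hn1 : N.index ≡ 1 [MOD p] := by
    have h1 : Nat.card (Sylow p G) = (Subgroup.normalizer ((S : Subgroup G) : Set G)).index :=
      S.card_eq_index_normalizer
    rw [hScoe, ← hN] at h1
    exact h1 ▸ card_sylow_modEq_one p G
  have hPC : P ≤ C := fun y hy => Subgroup.mem_centralizer_singleton_iff.2 (hPJ y hy)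
  have hPC' : Nat.card (P.subgroupOf C) = p ^ (Nat.card C).factorization p := by
    rw [Nat.card_congr (Subgroup.subgroupOfEquivOfLe hPC).toEquiv, hPcard]
    congr 1
    refine le_antisymm ((hp.pow_dvd_iff_le_factorization Nat.card_pos.ne').1
      (hPcard ▸ Subgroup.card_dvd_of_le hPC)) ?_
    rw [← hvp]
    exact (Nat.factorization_le_iff_dvd Nat.card_pos.ne' Nat.card_pos.ne').2 (Subgroup.card_subgroup_dvd_card C) p
  let SC : Sylow p C := Sylow.ofCard (P.subgroupOf C) hPC'
  have hn2 : N.relIndex C ≡ 1 [MOD p] := by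
    have h1 : Nat.card (Sylow p C) = (Subgroup.normalizer ((SC : Subgroup C) : Set C)).index :=
      SC.card_eq_index_normalizer
    have hco' : (SC : Subgroup C) = P.subgroupOf C := by simp [SC]
    rw [hco', ← Subgroup.subgroupOf_normalizer_eq hPC, ← hN] at h1
    show (N.subgroupOf C).index ≡ 1 [MOD p]
    exact h1 ▸ card_sylow_modEq_one p C
  have hmul := Subgroup.relIndex_mul_index hNC
  have hT : C.index = 3 * ((2 * q + 1) * (2 * q + 3)) := by
    have h := C.card_mul_index
    rw [hG, hC, D.card_cent hJT, show Φ.card = f from rfl, hq, show q + 1 - 1 = q by omega, ← hfp, hq] at h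
    refine Nat.eq_of_mul_eq_mul_left (show 0 < 4 * ((q + 1) * q) from
      Nat.mul_pos (by norm_num) (Nat.mul_pos (by omega) (by omega))) (h.trans (by ring))
  have hmod : C.index ≡ 1 [MOD p] := by
    have h := (hn2.mul_right C.index).symm
    rw [one_mul, hmul] at h
    exact h.trans hn1
  rw [hT, ← ZMod.natCast_eq_natCast_iff] at hmod
  push_cast at hmod
  have hq0 : ((q : ℕ) : ZMod p) + 1 = 0 := by
    have : ((q + 1 : ℕ) : ZMod p) = 0 := (ZMod.natCast_eq_zero_iff _ _).2 hpq
    exact_mod_cast this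
  have h4 : ((4 : ℕ) : ZMod p) = 0 := by
    push_cast
    linear_combination -hmod + 12 * (q + 1 : ZMod p) * hq0
  rw [ZMod.natCast_eq_zero_iff] at h4
  exact hp2 ((Nat.prime_dvd_prime_iff_eq hp Nat.prime_two).1 (hp.dvd_of_dvd_pow (show p ∣ 2 ^ 2 from h4)))

end Hyp

end CfsgLib.TwoPointA4
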