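import Cfsg.Agent.Blocks.KleinPsl

/-!
# The possible values of the structure constant of a Klein four Sylow subgroup
-/

set_option autoImplicit false
set_option linter.unusedSectionVars false
set_option linter.style.haveILetI false

namespace CfsgLib.TwoPointA4

open Cfsg Finset CfsgLib.Block CfsgLib.Block.Chr CfsgLib.Char

universe u

/-- With `g = |Y|`, `c = |C(J)|`, `d = |C(P)|` the number `S` in `g d² S = 8 c³` is `8/3` or less
than `2`, and it is at least `1/3`. -/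
theorem klein_value {Y : Type u} [Group Y] [Finite Y] (P : Sylow 2 Y)
    (hP : IsKleinFour (P : Subgroup Y)) (hone : ∀ s t : Y, orderOf s = 2 → orderOf t = 2 → IsConj s t)
    {J : Y} (hJP : J ∈ (P : Subgroup Y)) (hJ : orderOf J = 2) :
    (Nat.card Y * Nat.card (Subgroup.centralizer ((P : Subgroup Y) : Set Y)) ^ 2 =
          3 * Nat.card (Subgroup.centralizer ({J} : Set Y)) ^ 3 ∨
        4 * Nat.card (Subgroup.centralizer ({J} : Set Y)) ^ 3 <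
          Nat.card Y * Nat.card (Subgroup.centralizer ((P : Subgroup Y) : Set Y)) ^ 2) ∧
      Nat.card Y * Nat.card (Subgroup.centralizer ((P : Subgroup Y) : Set Y)) ^ 2 ≤
        24 * Nat.card (Subgroup.centralizer ({J} : Set Y)) ^ 3 := by
  classical
  haveI : Fact (Nat.Prime 2) := ⟨Nat.prime_two⟩
  haveI := Fintype.ofFinite Y
  letI := irrFintype (G := Y)
  obtain ⟨M, hM⟩ := exists_isPModular Nat.prime_two
  haveI := hM.2.1.isPrime
  haveI := hP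
  have hcard : Nat.card P = 4 := IsKleinFour.card_four
  have hexp : ∀ x : P, x * x = 1 := fun x => IsKleinFour.mul_self x
  obtain ⟨h4, v, hv1, hv, hrel⟩ := klein_principal hM P hcard hexp hone
  have hform := klein_order_formula hM P hP hone hJP hJ
  set g := Nat.card Y
  set c := Nat.card (Subgroup.centralizer ({J} : Set Y)) with hc
  set d := Nat.card (Subgroup.centralizer ((P : Subgroup Y) : Set Y)) with hd
  have hc0 : (0 : ℝ) < c := Nat.cast_pos.2 Nat.card_pos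
  have hd0 : (d : ℂ) ≠ 0 := Nat.cast_ne_zero.2 Nat.card_pos.ne'
  set B := univ.filter (· ∈ principalBlock M Y)
  have h1B : oneIrr Y ∈ B := mem_filter.2 ⟨mem_univ _, oneIrr_mem_principalBlock⟩
  obtain ⟨χ₁, χ₂, χ₃, n12, n13, n23, hT⟩ := card_eq_three.1
    (show (B.erase (oneIrr Y)).card = 3 by rw [card_erase_of_mem h1B, h4])
  have hmemT : ∀ χ, χ = χ₁ ∨ χ = χ₂ ∨ χ = χ₃ → χ ≠ oneIrr Y ∧ χ ∈ principalBlock M Y := by
    intro χ hχ
    have h : χ ∈ B.erase (oneIrr Y) := by rw [hT]; simpa using hχ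
    exact ⟨(mem_erase.1 h).1, (mem_filter.1 (mem_erase.1 h).2).2⟩
  have hB : ∀ χ, χ ∈ principalBlock M Y ↔ χ = oneIrr Y ∨ χ = χ₁ ∨ χ = χ₂ ∨ χ = χ₃ := by
    intro χ
    refine ⟨fun h => ?_, ?_⟩
    · by_cases h1 : χ = oneIrr Y
      · exact Or.inl h1
      · have : χ ∈ B.erase (oneIrr Y) := mem_erase.2 ⟨h1, mem_filter.2 ⟨mem_univ _, h⟩⟩
        rw [hT] at this
        exact Or.inr (by simpa using this)
    · rintro (rfl | h)
      exacts [oneIrr_mem_principalBlock, (hmemT χ h).2]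
  obtain ⟨d1, m1⟩ := hmemT χ₁ (Or.inl rfl)
  obtain ⟨d2, m2⟩ := hmemT χ₂ (Or.inr (Or.inl rfl))
  obtain ⟨d3, m3⟩ := hmemT χ₃ (Or.inr (Or.inr rfl))
  have hconj : ∀ {a b t : IrrCharacter Y},
      (∀ χ, χ ∈ principalBlock M Y ↔ χ = oneIrr Y ∨ χ = a ∨ χ = b ∨ χ = t) →
      (oneIrr Y ≠ a ∧ oneIrr Y ≠ b ∧ oneIrr Y ≠ t ∧ a ≠ b ∧ a ≠ t ∧ b ≠ t) →
      a ∈ principalBlock M Y → b ∈ principalBlock M Y → t ∈ principalBlock M Y →
      v a = 1 → v b = 1 → v t = -1 → charDegree (a : Y → ℂ) = charDegree (b : Y → ℂ) := by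
    intro a b t hB' hne ha hb ht va vb vt
    refine klein_conjugate_pair hM P hcard hexp hone hJP hJ hB' hne ?_ ?_ ?_
    · rw [(hv a ha).1 J hJ, va, Int.cast_one]
    · rw [(hv b hb).1 J hJ, vb, Int.cast_one]
    · rw [(hv t ht).1 J hJ, vt]; norm_num
  set x₁ := charDegree (χ₁ : Y → ℂ) with hx₁
  set x₂ := charDegree (χ₂ : Y → ℂ) with hx₂
  set x₃ := charDegree (χ₃ : Y → ℂ) with hx₃
  set S : ℝ := 1 + (v χ₁ : ℝ) / x₁ + (v χ₂ : ℝ) / x₂ + (v χ₃ : ℝ) / x₃ with hS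
  have hsum : ∀ f : IrrCharacter Y → ℂ,
      ∑ χ ∈ B, f χ = f (oneIrr Y) + f χ₁ + f χ₂ + f χ₃ := by
    intro f
    rw [← add_sum_erase B f h1B, hT, sum_insert (by simp [n12, n13]), sum_insert (by simp [n23]),
      sum_singleton]
    ring
  -- the degree relation
  have hdeg : (1 : ℤ) + v χ₁ * x₁ + v χ₂ * x₂ + v χ₃ * x₃ = 0 := by
    have h := hrel 1 (by simp)
    rw [hsum, hv1, oneIrr_coe, (irr_one χ₁).1, (irr_one χ₂).1, (irr_one χ₃).1] at h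
    exact_mod_cast (by push_cast at h ⊢; linear_combination h :
      (((1 : ℤ) + v χ₁ * x₁ + v χ₂ * x₂ + v χ₃ * x₃ : ℤ) : ℂ) = ((0 : ℤ) : ℂ))
  -- the formula
  have key : (g : ℝ) * (d : ℝ) ^ 2 * S = 8 * (c : ℝ) ^ 3 := by
    rw [hsum, oneIrr_coe, (hv _ m1).1 J hJ, (hv _ m2).1 J hJ, (hv _ m3).1 J hJ, (irr_one χ₁).1,
      (irr_one χ₂).1, (irr_one χ₃).1, eq_div_iff (pow_ne_zero 2 hd0), div_one] at hform
    refine Complex.ofReal_injective ?_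
    rw [hS]
    push_cast
    linear_combination hform
  -- the possible values
  have hval : (S = 8 / 3 ∨ S < 2) ∧ 1 / 3 ≤ S := by
    obtain ⟨-, s1, ⟨q1, hq1⟩⟩ := hv _ m1
    obtain ⟨-, s2, ⟨q2, hq2⟩⟩ := hv _ m2
    obtain ⟨-, s3, ⟨q3, hq3⟩⟩ := hv _ m3
    have p1 : 0 < x₁ := (irr_one χ₁).2
    have p2 : 0 < x₂ := (irr_one χ₂).2
    have p3 : 0 < x₃ := (irr_one χ₃).2
    -- one negative sign
    have one_neg : ∀ x y : ℕ, 0 < x → (∃ q : ℤ, (x : ℤ) - 1 = 4 * q) → (y : ℤ) = 1 + x + x →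
        ((1 : ℝ) + 1 / x + 1 / x - 1 / y = 8 / 3 ∨ (1 : ℝ) + 1 / x + 1 / x - 1 / y < 2) ∧
          1 / 3 ≤ (1 : ℝ) + 1 / x + 1 / x - 1 / y := by
      intro x y hx hq hy
      obtain ⟨q, hq⟩ := hq
      have hy' : (y : ℝ) = 1 + x + x := by exact_mod_cast hy
      by_cases h1 : x = 1
      · subst h1
        rw [hy']
        norm_num
      · have h5 : (5 : ℝ) ≤ x := by exact_mod_cast (show 5 ≤ x by omega)
        have h11 : (11 : ℝ) ≤ y := by linarith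
        have a1 : 1 / (x : ℝ) ≤ 1 / 5 := one_div_le_one_div_of_le (by norm_num) h5
        have a2 : (0 : ℝ) < 1 / x := by positivity
        have a3 : (0 : ℝ) < 1 / y := by positivity
        have a4 : 1 / (y : ℝ) ≤ 1 / 11 := one_div_le_one_div_of_le (by norm_num) h11
        exact ⟨Or.inr (by linarith), by linarith⟩
    -- two negative signs
    have two_neg : ∀ x y w : ℕ, 0 < x → (∃ q : ℤ, (y : ℤ) + 1 = 4 * q) →
        (∃ q : ℤ, (w : ℤ) + 1 = 4 * q) →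
        ((1 : ℝ) + 1 / x - 1 / y - 1 / w < 2) ∧ 1 / 3 ≤ (1 : ℝ) + 1 / x - 1 / y - 1 / w := by
      intro x y w hx hy hw
      obtain ⟨q, hq⟩ := hy
      obtain ⟨r, hr⟩ := hw
      have hy3 : (3 : ℝ) ≤ y := by exact_mod_cast (show 3 ≤ y by omega)
      have hw3 : (3 : ℝ) ≤ w := by exact_mod_cast (show 3 ≤ w by omega)
      have a1 : (1 : ℝ) / x ≤ 1 := by
        rw [div_le_one (Nat.cast_pos.2 hx)]; exact_mod_cast hx
      have a2 : (0 : ℝ) < 1 / x := by positivity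
      have a3 : (0 : ℝ) < 1 / y := by positivity
      have a4 : (0 : ℝ) < 1 / w := by positivity
      have a5 : 1 / (y : ℝ) ≤ 1 / 3 := one_div_le_one_div_of_le (by norm_num) hy3
      have a6 : 1 / (w : ℝ) ≤ 1 / 3 := one_div_le_one_div_of_le (by norm_num) hw3
      exact ⟨by linarith, by linarith⟩
    rw [hS]
    rcases s1 with e1 | e1 <;> rcases s2 with e2 | e2 <;> rcases s3 with e3 | e3 <;>
      rw [e1] at hdeg hq1 ⊢ <;> rw [e2] at hdeg hq2 ⊢ <;> rw [e3] at hdeg hq3 ⊢ <;>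
      push_cast at hq1 hq2 hq3 hdeg ⊢
    · omega
    · have he := hconj hB ⟨d1.symm, d2.symm, d3.symm, n12, n13, n23⟩ m1 m2 m3 e1 e2 e3
      rw [← hx₁, ← hx₂] at he
      obtain ⟨h, h'⟩ := one_neg x₁ x₃ p1 ⟨q1, hq1⟩ (by omega)
      rw [← he, neg_div, ← sub_eq_add_neg]
      exact ⟨h, h'⟩
    · have he := hconj (t := χ₂) (b := χ₃) (a := χ₁) (fun χ => (hB χ).trans (by tauto))
        ⟨d1.symm, d3.symm, d2.symm, n13, n12, n23.symm⟩ m1 m3 m2 e1 e3 e2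
      rw [← hx₁, ← hx₃] at he
      obtain ⟨h, h'⟩ := one_neg x₁ x₂ p1 ⟨q1, hq1⟩ (by omega)
      rw [← he, show (1 : ℝ) + 1 / x₁ + -1 / x₂ + 1 / x₁ = 1 + 1 / x₁ + 1 / x₁ - 1 / x₂ by ring]
      exact ⟨h, h'⟩
    · obtain ⟨h, h'⟩ := two_neg x₁ x₂ x₃ p1 ⟨q2, by linarith⟩ ⟨q3, by linarith⟩
      rw [show (1 : ℝ) + 1 / x₁ + -1 / x₂ + -1 / x₃ = 1 + 1 / x₁ - 1 / x₂ - 1 / x₃ by ring]
      exact ⟨Or.inr h, h'⟩
    · have he := hconj (t := χ₁) (b := χ₃) (a := χ₂) (fun χ => (hB χ).trans (by tauto))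
        ⟨d2.symm, d3.symm, d1.symm, n23, n12.symm, n13.symm⟩ m2 m3 m1 e2 e3 e1
      rw [← hx₂, ← hx₃] at he
      obtain ⟨h, h'⟩ := one_neg x₂ x₁ p2 ⟨q2, hq2⟩ (by omega)
      rw [← he, show (1 : ℝ) + -1 / x₁ + 1 / x₂ + 1 / x₂ = 1 + 1 / x₂ + 1 / x₂ - 1 / x₁ by ring]
      exact ⟨h, h'⟩
    · obtain ⟨h, h'⟩ := two_neg x₂ x₁ x₃ p2 ⟨q1, by linarith⟩ ⟨q3, by linarith⟩
      rw [show (1 : ℝ) + -1 / x₁ + 1 / x₂ + -1 / x₃ = 1 + 1 / x₂ - 1 / x₁ - 1 / x₃ by ring]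
      exact ⟨Or.inr h, h'⟩
    · obtain ⟨h, h'⟩ := two_neg x₃ x₁ x₂ p3 ⟨q1, by linarith⟩ ⟨q2, by linarith⟩
      rw [show (1 : ℝ) + -1 / x₁ + -1 / x₂ + 1 / x₃ = 1 + 1 / x₃ - 1 / x₁ - 1 / x₂ by ring]
      exact ⟨Or.inr h, h'⟩
    · omega
  have hc3 : (0 : ℝ) < (c : ℝ) ^ 3 := pow_pos hc0 3
  have hgd : (0 : ℝ) < (g : ℝ) * (d : ℝ) ^ 2 :=
    mul_pos (Nat.cast_pos.2 Nat.card_pos) (pow_pos (Nat.cast_pos.2 Nat.card_pos) 2)
  refine ⟨?_, ?_⟩
  · rcases hval.1 with h | h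
    · refine Or.inl ?_
      rw [h] at key
      have : (g : ℝ) * (d : ℝ) ^ 2 = 3 * (c : ℝ) ^ 3 := by linarith
      exact_mod_cast this
    · refine Or.inr ?_
      have : 4 * (c : ℝ) ^ 3 < (g : ℝ) * (d : ℝ) ^ 2 := by nlinarith
      exact_mod_cast this
  · have : (g : ℝ) * (d : ℝ) ^ 2 ≤ 24 * (c : ℝ) ^ 3 := by nlinarith [hval.2]
    exact_mod_cast this

end CfsgLib.TwoPointA4
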