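import Cfsg.Agent.TwoPointA4.Types
import Cfsg.Agent.TwoPointA4.Klein
import Cfsg.Agent.Invol.IsolatedApps

/-!
# Elementary conclusions in the central type
-/

set_option autoImplicit false
set_option linter.unusedSectionVars false
set_option linter.style.haveILetI false

namespace CfsgLib.TwoPointA4

open MulAction Finset
open scoped Classical

universe u v

variable {G : Type u} {Ω : Type v} [Group G] [MulAction G Ω] [Fintype Ω] [Fintype G]

/-- Parity of the fixed points of an element acting involutively on an invariant set. -/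
theorem card_inter_fx_mod_two (g : G) (Φ : Finset Ω) (hinv : ∀ x ∈ Φ, g • x ∈ Φ)
    (hsq : ∀ x ∈ Φ, g • g • x = x) : (Φ ∩ fx g).card % 2 = Φ.card % 2 := by
  have h : ∑ x ∈ Φ \ fx g, (1 : ZMod 2) = 0 := by
    refine sum_involution (fun x _ => g • x) (fun _ _ => by decide) (fun x hx _ => ?_) (fun x hx => ?_)
      fun x hx => hsq x (mem_sdiff.1 hx).1
    · exact fun e => (mem_sdiff.1 hx).2 (mem_fx.2 e)
    · obtain ⟨h1, h2⟩ := mem_sdiff.1 hx
      refine mem_sdiff.2 ⟨hinv x h1, fun e => h2 (mem_fx.2 ?_)⟩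
      exact (mem_fx.1 e).symm.trans (hsq x h1)
  rw [sum_const, nsmul_one, ZMod.natCast_eq_zero_iff_even] at h
  have := card_sdiff_add_card_inter Φ (fx g)
  obtain ⟨m, hm⟩ := h
  omega

theorem card_fx_mod_two {g : G} (hg : g * g = 1) :
    (fx (Ω := Ω) g).card % 2 = Nat.card Ω % 2 := by
  have := card_inter_fx_mod_two g (univ : Finset Ω) (fun x _ => mem_univ _)
    fun x _ => by rw [smul_smul, hg, one_smul]
  rwa [univ_inter, card_univ, ← Nat.card_eq_fintype_card] at this

/-- Orbit counting on points. -/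
theorem card_subgroup_point (L : Subgroup G) (Φ : Finset Ω) {a : Ω} (ha : a ∈ Φ)
    (hinv : ∀ g ∈ L, ∀ x ∈ Φ, g • x ∈ Φ) (htr : ∀ c ∈ Φ, ∃ g ∈ L, g • a = c) :
    Nat.card L = Φ.card * Nat.card ↥(L ⊓ stabilizer G a) := by
  have horb : orbit L a = ↑Φ := by
    ext c
    constructor
    · rintro ⟨⟨g, hg⟩, rfl⟩
      exact hinv g hg a ha
    · intro hc
      obtain ⟨g, hg, rfl⟩ := htr c hc
      exact ⟨⟨g, hg⟩, rfl⟩
  rw [← Nat.card_congr (orbitProdStabilizerEquivGroup L a), Nat.card_prod, horb,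
    Nat.card_coe_set_eq, Set.ncard_coe_finset]
  congr 1
  exact Nat.card_congr
    { toFun := fun g => ⟨(g : L), (g : L).2, g.2⟩
      invFun := fun g => ⟨⟨g, g.2.1⟩, g.2.2⟩
      left_inv := fun g => rfl
      right_inv := fun g => rfl }

/-- Elements moving all but one point of `Φ`, with `k` of them for each ordered pair: `k` of them fix
each point. -/
theorem fibre_card (L : Subgroup G) (Φ : Finset Ω) (htr : ∀ c ∈ Φ, ∀ d ∈ Φ, ∃ g ∈ L, g • c = d)
    (W : Finset G) (hW : ∀ g ∈ L, ∀ w ∈ W, g * w * g⁻¹ ∈ W)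
    (hmap : ∀ w ∈ W, ∀ x ∈ Φ, w • x ∈ Φ) (hone : ∀ w ∈ W, (Φ ∩ fx w).card = 1) (k : ℕ)
    (hk : ∀ c ∈ Φ, ∀ d ∈ Φ, c ≠ d → (W.filter fun w => w • c = d).card = k) (hΦ : 2 ≤ Φ.card) {c : Ω}
    (hc : c ∈ Φ) : (W.filter fun w => w • c = c).card = k := by
  set m := (W.filter fun w => w • c = c).card with hm
  have hfib : ∀ d ∈ Φ, (W.filter fun w => w • d = d).card = m := by
    intro d hd
    obtain ⟨g, hg, rfl⟩ := htr c hc d hd
    refine (card_bij (fun w _ => g * w * g⁻¹) (fun w hw => ?_)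
      (fun _ _ _ _ h => mul_left_cancel (mul_right_cancel h)) fun w hw => ?_).symm
    · obtain ⟨h1, h2⟩ := mem_filter.1 hw
      exact mem_filter.2 ⟨hW g hg w h1, by rw [conj_smul, h2]⟩
    · obtain ⟨h1, h2⟩ := mem_filter.1 hw
      refine ⟨g⁻¹ * w * g, mem_filter.2 ⟨?_, ?_⟩, by group⟩
      · simpa using hW g⁻¹ (inv_mem hg) w h1
      · rw [mul_smul, mul_smul, h2, inv_smul_smul]
  have h1 : W.card * 1 = Φ.card * m := by
    refine card_mul_eq_card_mul (fun (w : G) (x : Ω) => w • x = x) (fun w hw => ?_) hfib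
    rw [← hone w hw]
    congr 1
    ext x
    simp [bipartiteAbove, mem_fx]
  have h2 : W.card * (Φ.card - 1) = Φ.card * (Φ.card - 1) * k := by
    rw [← card_pairs_of Φ]
    refine card_mul_eq_card_mul (fun (w : G) (p : Ω × Ω) => w • p.1 = p.2) (fun w hw => ?_) fun p hp => ?_
    · have hcard : (Φ \ fx w).card = Φ.card - 1 := by
        rw [card_sdiff, inter_comm, hone w hw]
      rw [← hcard]
      refine card_bij (fun p _ => p.1) (fun p hp => ?_) (fun p hp q hq h => ?_) fun x hx => ?_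
      · simp only [bipartiteAbove, mem_filter, mem_product] at hp
        obtain ⟨⟨⟨e1, -⟩, hne⟩, hwp⟩ := hp
        refine mem_sdiff.2 ⟨e1, fun h => hne ?_⟩
        rw [← hwp, mem_fx.1 h]
      · simp only [bipartiteAbove, mem_filter] at hp hq
        exact Prod.ext h (by rw [← hp.2, ← hq.2, h])
      · obtain ⟨hx1, hx2⟩ := mem_sdiff.1 hx
        refine ⟨(x, w • x), ?_, rfl⟩
        simp only [bipartiteAbove, mem_filter, mem_product, and_true]
        exact ⟨⟨hx1, hmap w hw x hx1⟩, fun e => hx2 (mem_fx.2 e.symm)⟩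
    · simp only [mem_filter, mem_product] at hp
      exact hk p.1 hp.1.1 p.2 hp.1.2 hp.2
  rw [mul_one] at h1
  refine Nat.eq_of_mul_eq_mul_left (show 0 < Φ.card * (Φ.card - 1) from Nat.mul_pos (by omega) (by omega)) ?_
  rw [← h2, h1]
  ring

/-- The four-group of two points as a subgroup. -/
def fourGroup (D : Hyp G Ω) {a b : Ω} (hab : a ≠ b) : Subgroup G where
  carrier := {g | InV a b g}
  one_mem' := inV_one a b
  mul_mem' hg hh := (D.inV_mul hab hg hh).2
  inv_mem' {g} hg := by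
    show InV a b g⁻¹
    rw [inv_eq_of_mul_eq_one_right hg.2.2]
    exact hg

theorem card_fourGroup (D : Hyp G Ω) {a b : Ω} (hab : a ≠ b) : Nat.card (fourGroup D hab) = 4 := by
  rw [← D.card_inV hab, ← Fintype.card_subtype, ← Nat.card_eq_fintype_card]
  rfl

namespace Hyp

variable (D : Hyp G Ω)
include D

/-- In case all involutions of each four-group have the same fixed points, `3` divides `i f`. -/
theorem three_dvd_iCount_mul (hK : KV G Ω) {J : G} (hJ : IsT Ω J) {a b : Ω} (hab : a ≠ b) :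
    3 ∣ D.iCount a b * (fx (Ω := Ω) J).card := by
  have h := D.card_T_stab hJ hab a
  set s := (Tset G Ω).filter fun t => t • a = a
  have h3 : 3 ∣ s.card := by
    rw [card_eq_sum_card_fiberwise (f := fun t : G => fx (Ω := Ω) t) (t := s.image fun t => fx (Ω := Ω) t)
      fun t ht => mem_image_of_mem _ ht]
    refine dvd_sum fun Φ hΦ => ?_
    obtain ⟨t, ht, rfl⟩ := mem_image.1 hΦ
    obtain ⟨htT, hta⟩ := mem_filter.1 ht
    have htT := D.mem_Tset.1 htT
    obtain ⟨c, hc, hca⟩ := exists_mem_ne htT.2.2 a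
    have htV : InV a c t := ⟨hta, mem_fx.1 hc, htT.1⟩
    have hset : s.filter (fun t' => fx (Ω := Ω) t' = fx t) =
        (univ.filter fun g : G => InV a c g).erase 1 := by
      ext g
      simp only [s, mem_filter, mem_erase, Finset.mem_univ, true_and, D.mem_Tset]
      constructor
      · rintro ⟨⟨hgT, hga⟩, he⟩
        refine ⟨hgT.2.1, hga, ?_, hgT.1⟩
        rw [← mem_fx, he]
        exact hc
      · rintro ⟨hg1, hg⟩
        exact ⟨⟨isT_of_inV hca.symm hg hg1, hg.1⟩,
          by rw [hK a c hca.symm g hg hg1, hK a c hca.symm t htV htT.2.1]⟩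
    rw [hset, card_erase_of_mem (mem_filter.2 ⟨mem_univ _, inV_one a c⟩), D.card_inV hca.symm]
  rw [h] at h3
  exact (Nat.dvd_add_right dvd_rfl).1 h3

theorem kv_card (hK : KV G Ω) {a b : Ω} (hab : a ≠ b) {J : G} (hJ : InV a b J) (hJ1 : J ≠ 1) :
    (fx (Ω := Ω) J).card = (FV G a b).card := by rw [hK a b hab J hJ hJ1]

theorem jCount_even_sub {J : G} (hJ : IsT Ω J) {a b : Ω} (hab : a ≠ b) (ha : a ∈ fx J) (hb : b ∈ fx J)
    {z : G} (hz : Swap a b z) (hzz : z * z = 1)
    (hc : ∀ h : G, h • a = a → h • b = b → z * h = h * z) {v : G} (hv : InV a b v) (hv1 : v ≠ 1)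
    (hvJ : v ≠ J) :
    jCount J a b = (if z ∈ kern Ω J then 2 else 0) + (if z * v ∈ kern Ω J then 2 else 0) := by
  have hJV : InV a b J := ⟨mem_fx.1 ha, mem_fx.1 hb, hJ.1⟩
  have hvJV := D.inV_mul hab hv hJV
  have hmem : ∀ g, g ∈ (kern Ω J).filter (fun g => g • a = b) ↔
      g ∈ kern Ω J ∧ (g = z ∨ g = z * J ∨ g = z * v ∨ g = z * (v * J)) := by
    intro g
    rw [mem_filter]
    refine and_congr_right fun hg => ⟨fun hga => ?_, ?_⟩
    · have hgg := (D.kern_isT hJ hg).1
      have hw := (D.central_invol hz hzz hc (swap_of_invol hgg hga)).1 hgg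
      have he : g = z * (z * g) := by rw [← mul_assoc, hzz, one_mul]
      rcases D.inV_cases hab hJV hJ.2.1 hv hv1 hvJ hw with e | e | e | e <;> rw [e] at he
      · exact Or.inl (by rw [he, mul_one])
      · exact Or.inr (Or.inl he)
      · exact Or.inr (Or.inr (Or.inl he))
      · exact Or.inr (Or.inr (Or.inr he))
    · rintro (rfl | rfl | rfl | rfl)
      · exact hz.1
      · rw [mul_smul, hJV.1, hz.1]
      · rw [mul_smul, hv.1, hz.1]
      · rw [mul_smul, hvJV.2.1, hz.1]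
  have hiff : ∀ w : G, w ∈ kern Ω J ↔ w * J ∈ kern Ω J := fun w => ⟨D.kern_mul hJ, fun h => by
    simpa [mul_assoc, hJ.1] using D.kern_mul hJ h⟩
  have hset : (kern Ω J).filter (fun g => g • a = b) =
      (if z ∈ kern Ω J then {z, z * J} else ∅) ∪
        (if z * v ∈ kern Ω J then {z * v, z * (v * J)} else ∅) := by
    ext g
    rw [hmem, mem_union]
    constructor
    · rintro ⟨hg, rfl | rfl | rfl | rfl⟩
      · simp [hg]
      · simp [(hiff z).2 hg]
      · simp [hg]
      · rw [← mul_assoc] at hg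
        simp [(hiff (z * v)).2 hg]
    · rintro (h | h)
      · split_ifs at h with h1
        · simp only [mem_insert, mem_singleton] at h
          rcases h with rfl | rfl
          exacts [⟨h1, Or.inl rfl⟩, ⟨(hiff z).1 h1, Or.inr (Or.inl rfl)⟩]
        · simp at h
      · split_ifs at h with h1
        · simp only [mem_insert, mem_singleton] at h
          rcases h with rfl | rfl
          exacts [⟨h1, Or.inr (Or.inr (Or.inl rfl))⟩,
            ⟨by rw [← mul_assoc]; exact (hiff _).1 h1, Or.inr (Or.inr (Or.inr rfl))⟩]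
        · simp at h
  rw [jCount, hset, card_union_of_disjoint]
  · congr 1 <;> split_ifs <;> try rfl
    · exact card_pair fun e => hJ.2.1 (mul_eq_left.1 e.symm)
    · exact card_pair fun e => hJ.2.1 (mul_eq_left.1 (mul_left_cancel e).symm)
  · have d1 : v * J ≠ 1 := fun e => hvJ (mul_right_cancel (e.trans hJ.1.symm))
    have d2 : v * J ≠ J := fun e => hv1 (mul_eq_right.1 e)
    split_ifs <;> simp [hv1, hvJ, d1, d2]

/-- The isolated involution in the case of three swaps of the class and odd degree. -/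
theorem exists_isolated_three {a b : Ω} (hab : a ≠ b) (hC : Central G Ω) (hi : D.iCount a b = 3)
    {J : G} (hJ : IsT Ω J) (hodd : Odd (fx (Ω := Ω) J).card) :
    ∃ z : G, Cfsg.IsIsolatedInvolution z := by
  have heq := D.swap_equation hab hJ
  rw [hi] at heq
  set f := (fx (Ω := Ω) J).card
  set n := Nat.card Ω with hn
  have hlt := D.fx_lt_card (Ω := Ω) hJ.2.1
  have hn2 : n % 2 = 1 := by
    obtain ⟨m, hm⟩ := hodd
    have h1 : f * (f - 1) % 2 = 0 := by
      rw [hm, show 2 * m + 1 - 1 = 2 * m by omega, ← mul_assoc, mul_comm (2 * m + 1) 2, mul_assoc]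
      exact Nat.mul_mod_right 2 _
    omega
  -- the involutions outside the class
  set Z : Finset G := univ.filter fun g => g * g = 1 ∧ g ≠ 1 ∧ ¬ IsT Ω g with hZ
  have hmemZ : ∀ g, g ∈ Z ↔ g * g = 1 ∧ g ≠ 1 ∧ ¬ IsT Ω g := fun g => by simp [Z]
  have hZc : ∀ g : G, ∀ w ∈ Z, g * w * g⁻¹ ∈ Z := by
    intro g w hw
    obtain ⟨h1, h2, h3⟩ := (hmemZ w).1 hw
    refine (hmemZ _).2 ⟨by rw [conj_mul, h1]; group, fun e => h2 (conj_eq_one_iff.1 e), fun e => h3 ?_⟩
    have := e.conj g⁻¹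
    rwa [show g⁻¹ * (g * w * g⁻¹) * g⁻¹⁻¹ = w by group] at this
  have hone : ∀ w ∈ Z, ((univ : Finset Ω) ∩ fx w).card = 1 := by
    intro w hw
    obtain ⟨h1, h2, h3⟩ := (hmemZ w).1 hw
    rw [univ_inter]
    have hle : ¬ 2 ≤ (fx (Ω := Ω) w).card := fun e => h3 ⟨h1, h2, e⟩
    have := card_fx_mod_two (Ω := Ω) h1
    omega
  have hk : ∀ c ∈ (univ : Finset Ω), ∀ d ∈ (univ : Finset Ω), c ≠ d →
      (Z.filter fun w => w • c = d).card = 1 := by
    intro c _ d _ hcd
    obtain ⟨z, hz, hzz, hzc⟩ := hC c d hcd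
    obtain ⟨v, hv, hv1⟩ := D.exists_T hcd
    have hci := D.central_iCount hcd hz hzz hzc hv hv1
    rw [D.iCount_eq hab hcd, hi] at hci
    have hzT : ¬ IsT Ω z := fun h => by rw [if_pos h] at hci; split_ifs at hci <;> omega
    have hvT : IsT Ω (z * v) := by
      by_contra h
      rw [if_neg h, if_neg hzT] at hci
      omega
    refine card_eq_one.2 ⟨z, ext fun g => ?_⟩
    rw [mem_filter, hmemZ, mem_singleton]
    refine ⟨fun ⟨⟨hgg, hg1, hgT⟩, hgc⟩ => ?_, fun e => e ▸ ⟨⟨hzz, hz.ne_one hcd, hzT⟩, hz.1⟩⟩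
    have hw := (D.central_invol hz hzz hzc (swap_of_invol hgg hgc)).1 hgg
    by_contra hne
    refine hgT ?_
    have hw1 : z * g ≠ 1 := fun e => hne ((mul_left_cancel (e.trans hzz.symm)))
    have := D.central_isT_iff hcd hzc hv hv1 hw hw1 hvT
    rwa [← mul_assoc, hzz, one_mul] at this
  have hfib : ∀ c : Ω, (Z.filter fun w => w • c = c).card = 1 := fun c =>
    fibre_card ⊤ univ (fun p _ q _ => by
        by_cases h : p = q
        · exact ⟨1, Subgroup.mem_top _, by rw [one_smul, h]⟩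
        · obtain ⟨g, hg, -⟩ := D.trans p q q p h (Ne.symm h)
          exact ⟨g, Subgroup.mem_top _, hg⟩)
      Z (fun g _ => hZc g) (fun _ _ _ _ => mem_univ _) hone 1 hk
      (by rw [card_univ, ← Nat.card_eq_fintype_card]; have := hJ.2.2; omega) (mem_univ c)
  obtain ⟨z, hz⟩ := card_pos.1 (show 0 < (Z.filter fun w => w • a = b).card by
    rw [hk a (mem_univ _) b (mem_univ _) hab]; omega)
  have hzZ := (mem_filter.1 hz).1
  obtain ⟨h1, h2, -⟩ := (hmemZ z).1 hzZ
  refine ⟨z, orderOf_eq_prime (by rw [sq, h1]) h2, fun g hg => ?_⟩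
  obtain ⟨c, hc⟩ := card_eq_one.1 (hone z hzZ)
  have hcz : z • c = c := by
    have : c ∈ (univ : Finset Ω) ∩ fx z := by rw [hc]; simp
    exact mem_fx.1 (mem_inter.1 this).2
  obtain ⟨w, hw⟩ := card_eq_one.1 (hfib c)
  have hwc : (g * z * g⁻¹) • c = c := by
    have h : z • ((g * z * g⁻¹) • c) = (g * z * g⁻¹) • c := by
      rw [smul_smul, hg.eq, mul_smul, hcz]
    have : (g * z * g⁻¹) • c ∈ (univ : Finset Ω) ∩ fx z := mem_inter.2 ⟨mem_univ _, mem_fx.2 h⟩
    rw [hc] at this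
    exact mem_singleton.1 this
  have e1 : g * z * g⁻¹ = w := mem_singleton.1 (hw ▸ mem_filter.2 ⟨hZc g z hzZ, hwc⟩)
  have e2 : z = w := mem_singleton.1 (hw ▸ mem_filter.2 ⟨hzZ, hcz⟩)
  rw [e1, e2]

/-- The centralizing involution is not in the class if the common fixed point set is odd. -/
theorem kv_odd_not_isT (hK : KV G Ω) {a b : Ω} (hab : a ≠ b) {z : G} (hz : Swap a b z)
    (hc : ∀ h : G, h • a = a → h • b = b → z * h = h * z)
    (hodd : Odd (FV G a b).card) : ¬ IsT Ω z := by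
  intro hzT
  obtain ⟨J, hJ, hJ1⟩ := D.exists_T hab
  obtain ⟨v, hv, hv1, hvJ⟩ := D.exists_second hab hJ
  set F := FV G a b
  set Φ := fx (Ω := Ω) z
  have hfΦ : Φ.card = F.card := by
    show _ = (FV G a b).card
    rw [← hK a b hab J hJ hJ1]
    exact D.card_fx_T (isT_of_inV hab hJ hJ1) hzT
  have hzF : ∀ x ∈ F, z • x ∈ F := fun x hx => by
    have := (mem_FV_conj z).2 hx
    rwa [hz.1, hz.2, D.FV_eq_of_mem hab (right_mem_FV a b) (left_mem_FV a b) hab.symm] at this
  have hFΦ : (F ∩ Φ).card = 1 := by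
    have h2 : (F ∩ Φ).card % 2 = F.card % 2 := card_inter_fx_mod_two z F hzF fun x _ => by rw [smul_smul, hzT.1, one_smul]
    have hle : ¬ 2 ≤ (F ∩ Φ).card := fun h => by
      obtain ⟨c, hcc, d, hd, hcd⟩ := one_lt_card.1 h
      have hV : InV a b z := (D.inV_iff_of_mem hab (mem_inter.1 hcc).1 (mem_inter.1 hd).1 hcd).1
        ⟨mem_fx.1 (mem_inter.1 hcc).2, mem_fx.1 (mem_inter.1 hd).2, hzT.1⟩
      exact hab (hV.1.symm.trans hz.1)
    obtain ⟨m, hm⟩ := hodd
    omega
  obtain ⟨c, hcF⟩ := card_pos.1 (by omega : 0 < (F ∩ Φ).card)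
  obtain ⟨hcF, hcΦ⟩ := mem_inter.1 hcF
  -- elements inducing involutions
  let W : Finset G := univ.filter fun g => g * z = z * g ∧ (∀ x ∈ Φ, g • g • x = x) ∧ ∃ x ∈ Φ, g • x ≠ x
  have hmemW : ∀ g, g ∈ W ↔ g * z = z * g ∧ (∀ x ∈ Φ, g • g • x = x) ∧ ∃ x ∈ Φ, g • x ≠ x := fun g => by
    simp [W]
  have hfix : ∀ g : G, g * z = z * g → ∀ p ∈ Φ, ∀ q ∈ Φ, p ≠ q → g • p = p → g • q = q →
      InV p q g ∧ ∀ x ∈ Φ, g • x = x := by
    intro g hg p hp q hq hpq h1 h2
    have hzV : InV p q z := ⟨mem_fx.1 hp, mem_fx.1 hq, hzT.1⟩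
    have hV := D.inV_of_commute hpq hzV hzT.2.1 h1 h2 hg.symm
    refine ⟨hV, fun x hx => ?_⟩
    have hx' : x ∈ FV G p q := by rw [← hK p q hpq z hzV hzT.2.1]; exact hx
    exact mem_FV.1 hx' g hV
  have hk : ∀ p ∈ Φ, ∀ q ∈ Φ, p ≠ q → (W.filter fun w => w • p = q).card = 4 := by
    intro p hp q hq hpq
    obtain ⟨s, hs, hsp, hsq⟩ := D.cent_trans hzT hp hq hq hp hpq hpq.symm
    have hzV : InV p q z := ⟨mem_fx.1 hp, mem_fx.1 hq, hzT.1⟩
    rw [← D.card_inV hpq]
    refine (card_bij (fun w _ => s * w) (fun w hw => ?_) (fun _ _ _ _ h => mul_left_cancel h)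
      fun g hg => ?_).symm
    · have hw := (mem_filter.1 hw).2
      have hwz : w * z = z * w := (D.inV_mul hpq hw hzV).1
      have h1 : (s * w) • p = q := by rw [mul_smul, hw.1, hsp]
      have h2 : (s * w) • q = p := by rw [mul_smul, hw.2.1, hsq]
      have hsw : s * w * z = z * (s * w) := (Commute.mul_left hs hwz).eq
      refine mem_filter.2 ⟨(hmemW _).2 ⟨hsw, fun x hx => ?_, p, hp, ?_⟩, h1⟩
      · rw [smul_smul]
        exact (hfix _ (Commute.mul_left hsw hsw).eq p hp q hq hpq (by rw [mul_smul, h1, h2])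
          (by rw [mul_smul, h2, h1])).2 x hx
      · rw [h1]; exact hpq.symm
    · obtain ⟨hgW, hgp⟩ := mem_filter.1 hg
      obtain ⟨hgz, hg2, -⟩ := (hmemW g).1 hgW
      have hgq : g • q = p := by rw [← hgp]; exact hg2 p hp
      refine ⟨s⁻¹ * g, mem_filter.2 ⟨mem_univ _, ?_⟩, mul_inv_cancel_left s g⟩
      exact (hfix _ (Commute.mul_left (Commute.inv_left hs) hgz).eq p hp q hq hpq
        (by rw [mul_smul, hgp, inv_smul_eq_iff, hsp]) (by rw [mul_smul, hgq, inv_smul_eq_iff, hsq])).1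
  have hone : ∀ w ∈ W, (Φ ∩ fx w).card = 1 := by
    intro w hw
    obtain ⟨hwz, hw2, x, hx, hwx⟩ := (hmemW w).1 hw
    have hle : ¬ 2 ≤ (Φ ∩ fx w).card := fun h => by
      obtain ⟨p, hp, q, hq, hpq⟩ := one_lt_card.1 h
      exact hwx ((hfix w hwz p (mem_inter.1 hp).1 q (mem_inter.1 hq).1 hpq (mem_fx.1 (mem_inter.1 hp).2)
        (mem_fx.1 (mem_inter.1 hq).2)).2 x hx)
    have := card_inter_fx_mod_two w Φ (fun x hx => cent_preserves hwz hx) hw2
    obtain ⟨m, hm⟩ := hodd
    omega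
  have hWc : ∀ g ∈ Subgroup.centralizer ({z} : Set G), ∀ w ∈ W, g * w * g⁻¹ ∈ W := by
    intro g hg w hw
    rw [Subgroup.mem_centralizer_singleton_iff] at hg
    obtain ⟨hwz, hw2, x, hx, hwx⟩ := (hmemW w).1 hw
    refine (hmemW _).2 ⟨((Commute.mul_left hg hwz).mul_left (Commute.inv_left hg)).eq,
      fun y hy => ?_, g • x, cent_preserves hg hx, ?_⟩
    · have hy' : g⁻¹ • y ∈ Φ := cent_preserves (Commute.inv_left hg).eq hy
      have := hw2 _ hy'
      rw [smul_smul] at this ⊢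
      rw [show g * w * g⁻¹ * (g * w * g⁻¹) = g * (w * w) * g⁻¹ by group, mul_smul, mul_smul, this,
        smul_inv_smul]
    · rw [conj_smul]; exact fun e => hwx (smul_left_cancel g e)
  have hΦ2 : 2 ≤ Φ.card := hzT.2.2
  have hfib := fibre_card (Subgroup.centralizer ({z} : Set G)) Φ (fun p hp q hq => by
      obtain ⟨r, hr, hrp⟩ := exists_mem_ne hΦ2 p
      obtain ⟨r', hr', hrq⟩ := exists_mem_ne hΦ2 q
      obtain ⟨g, hg, h, -⟩ := D.cent_trans hzT hp hr hq hr' hrp.symm hrq.symm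
      exact ⟨g, Subgroup.mem_centralizer_singleton_iff.2 hg, h⟩)
    W hWc (fun w hw x hx => cent_preserves ((hmemW w).1 hw).1 hx) hone 4 hk hΦ2 hcΦ
  -- too many elements fixing `c`
  have hin : ∀ w : G, InV a b w → w ≠ 1 → ∀ y : G, y = w ∨ y = w * z →
      y ∈ W.filter fun w => w • c = c := by
    intro w hw hw1 y hy
    have hwz : w * z = z * w := (hc w hw.1 hw.2.1).symm
    have hyx : ∀ x ∈ Φ, y • x = w • x := fun x hx => by
      rcases hy with rfl | rfl
      · rfl
      · rw [mul_smul, mem_fx.1 hx]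
    have hyz : y * z = z * y := by
      rcases hy with rfl | rfl
      · exact hwz
      · rw [mul_assoc, ← mul_assoc z w, ← hwz, mul_assoc]
    have hwF : fx (Ω := Ω) w = F := hK a b hab w hw hw1
    obtain ⟨p, hp, hpc⟩ := exists_mem_ne hΦ2 c
    refine mem_filter.2 ⟨(hmemW _).2 ⟨hyz, fun x hx => ?_, p, hp, ?_⟩, ?_⟩
    · rw [hyx x hx, hyx _ (cent_preserves hwz hx), smul_smul, hw.2.2, one_smul]
    · rw [hyx p hp]
      intro e
      have : p ∈ F ∩ Φ := mem_inter.2 ⟨by rw [← hwF]; exact mem_fx.2 e, hp⟩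
      obtain ⟨c', hc'⟩ := card_eq_one.1 hFΦ
      rw [hc', mem_singleton] at this
      have h' : c ∈ F ∩ Φ := mem_inter.2 ⟨hcF, hcΦ⟩
      rw [hc', mem_singleton] at h'
      exact hpc (this.trans h'.symm)
    · rw [hyx c hcΦ]
      exact mem_FV.1 hcF w hw
  have hvJV := D.inV_mul hab hv hJ
  have hvJ1 : v * J ≠ 1 := fun e => hvJ (mul_right_cancel (e.trans hJ.2.2.symm))
  have hzV : ¬ InV a b z := fun h => hab (h.1.symm.trans hz.1)
  have hzz' : ∀ p q : G, InV a b p → InV a b q → p ≠ q * z := fun p q hp hq e => hzV (by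
    have := (D.inV_mul hab hq hp).2
    rwa [e, ← mul_assoc, hq.2.2, one_mul] at this)
  have h5 : ({J, v, v * J, J * z, v * z} : Finset G) ⊆ W.filter fun w => w • c = c := by
    intro y hy
    simp only [mem_insert, mem_singleton] at hy
    rcases hy with rfl | rfl | rfl | rfl | rfl
    exacts [hin _ hJ hJ1 _ (Or.inl rfl), hin _ hv hv1 _ (Or.inl rfl), hin _ hvJV.2 hvJ1 _ (Or.inl rfl),
      hin _ hJ hJ1 _ (Or.inr rfl), hin _ hv hv1 _ (Or.inr rfl)]
  have hc5 := card_le_card h5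
  rw [hfib, card_insert_of_notMem (by
      simp [hvJ.symm, hzz' J J hJ hJ, hzz' J v hJ hv, show J ≠ v * J from fun e => hv1 (mul_eq_right.1 e.symm)]),
    card_insert_of_notMem (by
      simp [hzz' v J hv hJ, hzz' v v hv hv, show v ≠ v * J from fun e => hJ1 (mul_eq_left.1 e.symm)]),
    card_insert_of_notMem (by simp [hzz' _ J hvJV.2 hJ, hzz' _ v hvJV.2 hv]),
    card_insert_of_notMem (by simp [hvJ.symm]), card_singleton] at hc5
  omega

/-- The order formula in a point stabilizer when the number of fixed points is even. -/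
theorem point_formula {a b : Ω} (hab : a ≠ b) {J : G} (hJ : InV a b J) (hJ1 : J ≠ 1)
    (hf : Even (fx (Ω := Ω) J).card) (he : Even (FV G a b).card) :
    let Ta := 3 + D.iCount a b * (fx (Ω := Ω) J).card
    (Ta * ((FV G a b).card - 1) ^ 2 = 3 * ((fx (Ω := Ω) J).card - 1) ^ 2 ∨
        4 * ((fx (Ω := Ω) J).card - 1) ^ 2 < Ta * ((FV G a b).card - 1) ^ 2) ∧
      Ta * ((FV G a b).card - 1) ^ 2 ≤ 24 * ((fx (Ω := Ω) J).card - 1) ^ 2 := by
  intro Ta
  haveI : Fact (Nat.Prime 2) := ⟨Nat.prime_two⟩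
  have hJT := isT_of_inV hab hJ hJ1
  set f := (fx (Ω := Ω) J).card with hf'
  set e := (FV G a b).card with he'
  have hf2 : 2 ≤ f := hJT.2.2
  have he2 : 2 ≤ e := D.two_le_card_FV hab
  -- the order of the stabilizer
  have hY : Nat.card (stabilizer G a) = 4 * (f - 1) * Ta := by
    rw [D.card_stab a]
    have h := D.swap_equation hab hJT
    rw [← hf'] at h
    have hlt : f < Nat.card Ω := D.fx_lt_card hJT.2.1
    obtain ⟨l, hl⟩ : ∃ l, Nat.card Ω = f + l := ⟨Nat.card Ω - f, by omega⟩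
    obtain ⟨k, hk⟩ : ∃ k, f = k + 1 := ⟨f - 1, by omega⟩
    rw [hl, Nat.add_sub_cancel_left] at h
    rw [hl, show f + l - 1 = k + l by omega, show f - 1 = k by omega]
    rw [show f - 1 = k by omega] at h
    calc 12 * (k + l) = 4 * (3 * k + 3 * l) := by ring
      _ = _ := by rw [h]; ring
  set Y := stabilizer G a
  let P0 : Subgroup Y := (fourGroup D hab).subgroupOf Y
  have hle : fourGroup D hab ≤ Y := fun g hg => hg.1
  have hP0 : Nat.card P0 = 4 := by
    rw [Nat.card_congr (Subgroup.subgroupOfEquivOfLe hle).toEquiv, card_fourGroup]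
  have hodd : Odd ((f - 1) * Ta) := by
    refine Odd.mul (Nat.Even.sub_odd (by omega) hf odd_one) ?_
    exact Odd.add_even (by decide) (Even.mul_left hf _)
  have hfac : Nat.card P0 = 2 ^ (Nat.card Y).factorization 2 := by
    rw [hP0, hY, mul_assoc, Nat.factorization_mul (by norm_num) (by obtain ⟨m, hm⟩ := hodd; omega),
      Finsupp.add_apply, Nat.factorization_eq_zero_of_not_dvd (n := (f - 1) * Ta)
        (fun h => (Nat.not_even_iff_odd.2 hodd) (even_iff_two_dvd.2 h)),
      show (4 : ℕ) = 2 ^ 2 by norm_num, Nat.prime_two.factorization_pow, Finsupp.single_eq_same,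
      add_zero]
  let P : Sylow 2 Y := Sylow.ofCard P0 hfac
  have hPmem : ∀ x : Y, x ∈ (P : Subgroup Y) ↔ InV a b (x : G) := fun x => by
    simp [P, P0, Subgroup.mem_subgroupOf, fourGroup]
  have hP : IsKleinFour (P : Subgroup Y) := by
    have hP4 : Nat.card (P : Subgroup Y) = 4 := by simpa [P] using hP0
    haveI : Nontrivial (P : Subgroup Y) := Finite.one_lt_card_iff_nontrivial.1 (by omega)
    refine ⟨hP4, ?_⟩
    refine (Monoid.exponent_eq_prime_iff Nat.prime_two).2 ?_
    intro g hg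
    refine orderOf_eq_prime ?_ hg
    rw [sq]
    exact Subtype.ext (Subtype.ext ((hPmem _).1 g.2).2.2)
  have hJY : J ∈ Y := hJ.1
  have hone : ∀ s t : Y, orderOf s = 2 → orderOf t = 2 → IsConj s t := by
    have hall : ∀ s : Y, orderOf s = 2 → IsConj (⟨J, hJY⟩ : Y) s := by
      intro s hs
      obtain ⟨R, hR⟩ := (IsPGroup.of_card (n := 1) (show Nat.card (Subgroup.zpowers s) = 2 ^ 1 by
        rw [Nat.card_zpowers, hs, pow_one])).exists_le_sylow
      obtain ⟨g, hg⟩ := MulAction.exists_smul_eq Y R P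
      have hmem : g * s * g⁻¹ ∈ (P : Subgroup Y) := by
        rw [← hg]
        exact ⟨s, hR (Subgroup.mem_zpowers s), rfl⟩
      have h1 : ((g * s * g⁻¹ : Y) : G) ≠ 1 := fun h => by
        have := conj_eq_one_iff.1 (Subtype.ext h : g * s * g⁻¹ = 1)
        rw [this, orderOf_one] at hs
        omega
      obtain ⟨h, ha, -, hh⟩ := D.inV_conj_inV hab hJ hJ1 ((hPmem _).1 hmem) h1
      exact (isConj_iff.2 ⟨⟨h, ha⟩, Subtype.ext hh⟩).trans (isConj_iff.2 ⟨g, rfl⟩).symm
    exact fun s t hs ht => (hall s hs).symm.trans (hall t ht)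
  have hJo : orderOf (⟨J, hJY⟩ : Y) = 2 := by
    rw [Subgroup.orderOf_mk]; exact orderOf_eq_prime (by rw [sq, hJ.2.2]) hJ1
  have h := klein_value P hP hone (J := ⟨J, hJY⟩) ((hPmem _).2 hJ) hJo
  -- the centralizers
  have hcJ : Nat.card (Subgroup.centralizer ({⟨J, hJY⟩} : Set Y)) = 4 * (f - 1) := by
    have h1 := card_subgroup_point (Subgroup.centralizer ({J} : Set G)) (fx (Ω := Ω) J) (mem_fx.2 hJ.1)
      (fun g hg x hx => cent_preserves (Subgroup.mem_centralizer_singleton_iff.1 hg) hx) fun c hc => by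
        obtain ⟨r, hr, hrc⟩ := exists_mem_ne hJT.2.2 c
        obtain ⟨g, hg, hga, -⟩ := D.cent_trans hJT (mem_fx.2 hJ.1) (mem_fx.2 hJ.2.1) hc hr hab hrc.symm
        exact ⟨g, Subgroup.mem_centralizer_singleton_iff.2 hg, hga⟩
    rw [D.card_cent hJT, ← hf'] at h1
    refine Nat.eq_of_mul_eq_mul_left (show 0 < f by omega) ?_
    rw [show f * (4 * (f - 1)) = 4 * (f * (f - 1)) by ring, h1]
    congr 1
    exact Nat.card_congr
      { toFun := fun g => ⟨(g : Y), Subgroup.mem_centralizer_singleton_iff.2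
          (congrArg Subtype.val (Subgroup.mem_centralizer_singleton_iff.1 g.2)), (g : Y).2⟩
        invFun := fun g => ⟨⟨g, g.2.2⟩, Subgroup.mem_centralizer_singleton_iff.2
          (Subtype.ext (Subgroup.mem_centralizer_singleton_iff.1 g.2.1))⟩
        left_inv := fun g => rfl
        right_inv := fun g => rfl }
  have hcP : Nat.card (Subgroup.centralizer ((P : Subgroup Y) : Set Y)) = 4 * (e - 1) := by
    set N := normV J a b ⊓ Y with hN
    have hN4 : Nat.card N = 4 * (e - 1) := by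
      have h1 := card_subgroup_point (normV J a b) (FV G a b) (left_mem_FV a b)
        (fun g hg x hx => (hg.2 x).2 hx) fun c hc => by
          obtain ⟨r, hr, hrc⟩ := exists_mem_ne he2 c
          obtain ⟨g, hg, hga, -⟩ := D.normV_trans hab hJ hJ1 hc hr hrc.symm
          exact ⟨g, hg, hga⟩
      rw [D.card_normV hab hJ hJ1, ← he'] at h1
      refine Nat.eq_of_mul_eq_mul_left (show 0 < e by omega) ?_
      rw [← h1]
      ring
    obtain ⟨v, hv, hv1, hvJ⟩ := D.exists_second hab hJ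
    let K : Subgroup N := (Subgroup.centralizer ({v} : Set G)).subgroupOf N
    have hmemK : ∀ g : N, g ∈ K ↔ (g : G) * v = v * g := fun g => by
      simp [K, Subgroup.mem_subgroupOf, Subgroup.mem_centralizer_singleton_iff]
    have hKc : Nat.card K = Nat.card (Subgroup.centralizer ((P : Subgroup Y) : Set Y)) := by
      refine Nat.card_congr
        { toFun := fun g => ⟨⟨(g : N), (g : N).2.2⟩, Subgroup.mem_centralizer_iff.2 fun x hx => ?_⟩
          invFun := fun g => ⟨⟨(g : Y), ⟨?_, ?_⟩, (g : Y).2⟩, ?_⟩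
          left_inv := fun g => rfl
          right_inv := fun g => rfl }
      · refine Subtype.ext ?_
        show (x : G) * ((g : N) : G) = ((g : N) : G) * x
        have hgJ := Subgroup.mem_centralizer_singleton_iff.1 (g : N).2.1.1
        have hgv := (hmemK _).1 g.2
        rcases D.inV_cases hab hJ hJ1 hv hv1 hvJ ((hPmem x).1 hx) with e | e | e | e <;> rw [e]
        · simp
        · exact hgJ.symm
        · exact hgv.symm
        · exact (Commute.mul_right hgv hgJ).eq.symm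
      · exact Subgroup.mem_centralizer_singleton_iff.2 (congrArg Subtype.val
          (Subgroup.mem_centralizer_iff.1 g.2 ⟨J, hJY⟩ ((hPmem _).2 hJ))).symm
      · refine mem_setStab_of_maps fun x hx => mem_FV.2 fun w hw => ?_
        have hc : w * ((g : Y) : G) = ((g : Y) : G) * w :=
          congrArg Subtype.val (Subgroup.mem_centralizer_iff.1 g.2 ⟨w, hw.1⟩ ((hPmem _).2 hw))
        rw [smul_smul, hc, mul_smul, mem_FV.1 hx w hw]
      · exact (hmemK _).2 (congrArg Subtype.val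
          (Subgroup.mem_centralizer_iff.1 g.2 ⟨v, hv.1⟩ ((hPmem _).2 hv))).symm
    rw [← hKc]
    by_cases hall : ∀ g : N, g ∈ K
    · rw [← hN4, show K = ⊤ from eq_top_iff.2 fun g _ => hall g, Subgroup.card_top]
    exfalso
    push Not at hall
    obtain ⟨g0, hg0⟩ := hall
    have hcases : ∀ g : N, (g : G) * v * (g : G)⁻¹ = v ∨ (g : G) * v * (g : G)⁻¹ = v * J := by
      intro g
      have hne : ((g : G) • a) ≠ (g : G) • b := fun e => hab (smul_left_cancel _ e)
      have hc' := (D.inV_iff_of_mem hab ((g.2.1.2 a).2 (left_mem_FV a b))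
        ((g.2.1.2 b).2 (right_mem_FV a b)) hne).1 (hv.conj (g : G))
      have hgJ := Subgroup.mem_centralizer_singleton_iff.1 g.2.1.1
      rcases D.inV_cases hab hJ hJ1 hv hv1 hvJ hc' with h | h | h | h
      · exact absurd (conj_eq_one_iff.1 h) hv1
      · refine absurd ?_ hvJ
        have : (g : G) * v * (g : G)⁻¹ = (g : G) * J * (g : G)⁻¹ := by rw [h, hgJ, mul_inv_cancel_right]
        exact mul_left_cancel (mul_right_cancel this)
      · exact Or.inl h
      · exact Or.inr h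
    have hg0' : (g0 : G) * v * (g0 : G)⁻¹ = v * J :=
      (hcases g0).resolve_left fun h => hg0 ((hmemK _).2 (mul_inv_eq_iff_eq_mul.1 h))
    have hidx : K.index = 2 := by
      rw [Subgroup.index_eq_two_iff]
      refine ⟨g0, fun g => ?_⟩
      have hgJ := Subgroup.mem_centralizer_singleton_iff.1 g.2.1.1
      have hne : v * J ≠ v := fun e => hJ1 (mul_eq_left.1 e)
      simp only [hmemK, Subgroup.coe_mul]
      have key : (g : G) * g0 * v * ((g : G) * g0)⁻¹ = (g : G) * v * (g : G)⁻¹ * J := by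
        calc (g : G) * g0 * v * ((g : G) * g0)⁻¹ = (g : G) * ((g0 : G) * v * (g0 : G)⁻¹) * (g : G)⁻¹ := by
              group
          _ = (g : G) * v * (g : G)⁻¹ * ((g : G) * J * (g : G)⁻¹) := by rw [hg0']; group
          _ = _ := by rw [hgJ, mul_inv_cancel_right]
      rcases hcases g with h | h
      · refine Or.inr ⟨mul_inv_eq_iff_eq_mul.1 h, fun h' => hne ?_⟩
        rw [← mul_inv_eq_iff_eq_mul, key, h] at h'
        exact h'
      · refine Or.inl ⟨?_, fun h' => hne (by rw [← h, h', mul_inv_cancel_right])⟩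
        rw [← mul_inv_eq_iff_eq_mul, key, h, mul_assoc, hJ.2.2, mul_one]
    have hK2 := K.card_mul_index
    rw [hidx, hN4] at hK2
    have h4 : 4 ∣ Nat.card K := by
      rw [hKc, ← hP0]
      refine Subgroup.card_dvd_of_le fun x hx => ?_
      refine Subgroup.mem_centralizer_iff.2 fun y hy => Subtype.ext ?_
      exact (D.inV_mul hab ((hPmem y).1 hy) ((hPmem x).1 hx)).1
    obtain ⟨q, hq⟩ := h4
    obtain ⟨r, hr⟩ := he
    omega
  rw [hY, hcJ, hcP] at h
  have e1 : 4 * (f - 1) * Ta * (4 * (e - 1)) ^ 2 = 64 * (f - 1) * (Ta * (e - 1) ^ 2) := by ring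
  have e2 : (4 * (f - 1)) ^ 3 = 64 * (f - 1) * (f - 1) ^ 2 := by ring
  rw [e1, e2] at h
  have hpos : 0 < 64 * (f - 1) := by omega
  refine ⟨?_, ?_⟩
  · rcases h.1 with h1 | h1
    · exact Or.inl (Nat.eq_of_mul_eq_mul_left hpos (h1.trans (by ring)))
    · refine Or.inr (Nat.lt_of_mul_lt_mul_left (a := 64 * (f - 1)) (lt_of_eq_of_lt (by ring) h1))
  · exact Nat.le_of_mul_le_mul_left (h.2.trans_eq (by ring)) hpos

end Hyp

end CfsgLib.TwoPointA4
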