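import Cfsg.Agent.TwoPointA4.Swap
import Cfsg.Agent.Perm.SharplyTwo

/-!
# The fixed points of the four-groups; counting
-/

set_option autoImplicit false
set_option linter.unusedSectionVars false

namespace CfsgLib.TwoPointA4

open MulAction Finset
open scoped Classical

universe u v

variable {G : Type u} {Ω : Type v} [Group G] [MulAction G Ω] [Fintype Ω] [Fintype G]

/-- The fixed points of the four-group of `a` and `b`. -/
noncomputable def FV (G : Type u) {Ω : Type v} [Group G] [MulAction G Ω] [Fintype Ω] (a b : Ω) :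
    Finset Ω := univ.filter fun x => ∀ v : G, InV a b v → v • x = x

theorem mem_FV {a b x : Ω} : x ∈ FV G a b ↔ ∀ v : G, InV a b v → v • x = x := by simp [FV]

theorem left_mem_FV (a b : Ω) : a ∈ FV G a b := mem_FV.2 fun _ h => h.1

theorem right_mem_FV (a b : Ω) : b ∈ FV G a b := mem_FV.2 fun _ h => h.2.1

theorem FV_subset_fx {a b : Ω} {v : G} (hv : InV a b v) : FV G a b ⊆ fx v := fun _ hx =>
  mem_fx.2 (mem_FV.1 hx v hv)

theorem mem_FV_conj {a b x : Ω} (g : G) : g • x ∈ FV G (g • a) (g • b) ↔ x ∈ FV G a b := by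
  rw [mem_FV, mem_FV]
  constructor
  · intro h v hv
    have := h _ (hv.conj g)
    rwa [conj_smul, smul_left_cancel_iff] at this
  · intro h v hv
    have h' := hv.conj g⁻¹
    rw [inv_smul_smul, inv_smul_smul, inv_inv] at h'
    have := h _ h'
    rwa [mul_smul, mul_smul, inv_smul_eq_iff] at this

theorem card_FV_conj (a b : Ω) (g : G) : (FV G (g • a) (g • b)).card = (FV G a b).card := by
  refine (card_bij (fun x _ => g • x) (fun x hx => (mem_FV_conj g).2 hx)
    (fun _ _ _ _ h => smul_left_cancel g h) fun y hy => ⟨g⁻¹ • y, ?_, smul_inv_smul g y⟩).symm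
  rw [← mem_FV_conj g, smul_inv_smul]
  exact hy

/-- All involutions of a four-group have the same fixed points. -/
def KV (G : Type u) (Ω : Type v) [Group G] [MulAction G Ω] [Fintype Ω] : Prop :=
  ∀ a b : Ω, a ≠ b → ∀ v : G, InV a b v → v ≠ 1 → fx (Ω := Ω) v = FV G a b

/-- The setwise stabilizer. -/
def setStab (G : Type u) {Ω : Type v} [Group G] [MulAction G Ω] (Φ : Finset Ω) : Subgroup G where
  carrier := {g | ∀ x, g • x ∈ Φ ↔ x ∈ Φ}
  one_mem' x := by rw [one_smul]
  mul_mem' {g h} hg hh x := by rw [mul_smul, hg, hh]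
  inv_mem' {g} hg x := by rw [← hg (g⁻¹ • x), smul_inv_smul]

theorem mem_setStab {Φ : Finset Ω} {g : G} : g ∈ setStab G Φ ↔ ∀ x, g • x ∈ Φ ↔ x ∈ Φ := Iff.rfl

theorem mem_setStab_of_maps {Φ : Finset Ω} {g : G} (h : ∀ x ∈ Φ, g • x ∈ Φ) : g ∈ setStab G Φ := by
  have he : Φ.image (fun x => g • x) = Φ :=
    eq_of_subset_of_card_le (fun y hy => by
      obtain ⟨x, hx, rfl⟩ := mem_image.1 hy
      exact h x hx) (by rw [card_image_of_injective _ (MulAction.injective g)])
  refine fun x => ⟨fun hx => ?_, h x⟩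
  rw [← he] at hx
  obtain ⟨y, hy, e⟩ := mem_image.1 hx
  rwa [← smul_left_cancel g e]

/-- The permutations induced on an invariant set. -/
def actHom (L : Subgroup G) (Φ : Finset Ω) (hL : L ≤ setStab G Φ) :
    L →* Equiv.Perm {x // x ∈ Φ} where
  toFun g := (MulAction.toPerm (g : G)).subtypePerm fun x => hL g.2 x
  map_one' := Equiv.ext fun x => Subtype.ext (one_smul G (x : Ω))
  map_mul' g h := Equiv.ext fun x => Subtype.ext (mul_smul (g : G) (h : G) (x : Ω))

theorem actHom_apply {L : Subgroup G} {Φ : Finset Ω} {hL : L ≤ setStab G Φ} (g : L)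
    (x : {x // x ∈ Φ}) : ((actHom L Φ hL g x : {x // x ∈ Φ}) : Ω) = (g : G) • (x : Ω) := rfl

theorem actHom_eq_one {L : Subgroup G} {Φ : Finset Ω} {hL : L ≤ setStab G Φ} {g : L} :
    actHom L Φ hL g = 1 ↔ ∀ x ∈ Φ, (g : G) • x = x :=
  ⟨fun h x hx => congrArg Subtype.val (Equiv.ext_iff.1 h ⟨x, hx⟩),
    fun h => Equiv.ext fun x => Subtype.ext (h x x.2)⟩

/-- The stabilizer in the centralizer of `J` of the fixed points of a four-group. -/
noncomputable def normV (J : G) (a b : Ω) : Subgroup G :=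
  Subgroup.centralizer ({J} : Set G) ⊓ setStab G (FV G a b)

namespace Hyp

variable (D : Hyp G Ω)
include D

theorem FV_eq_inter {a b : Ω} (hab : a ≠ b) {v w : G} (hv : InV a b v) (hw : InV a b w)
    (hv1 : v ≠ 1) (hw1 : w ≠ 1) (hne : w ≠ v) : FV G a b = fx v ∩ fx w := by
  refine subset_antisymm (fun x hx => mem_inter.2 ⟨FV_subset_fx hv hx, FV_subset_fx hw hx⟩)
    fun x hx => mem_FV.2 fun u hu => ?_
  obtain ⟨h1, h2⟩ := mem_inter.1 hx
  rw [mem_fx] at h1 h2
  rcases D.inV_cases hab hv hv1 hw hw1 hne hu with rfl | rfl | rfl | rfl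
  exacts [one_smul G x, h1, h2, by rw [mul_smul, h1, h2]]

theorem inV_iff_of_mem {a b c d : Ω} (hab : a ≠ b) (hc : c ∈ FV G a b) (hd : d ∈ FV G a b)
    (hcd : c ≠ d) {g : G} : InV c d g ↔ InV a b g := by
  have hsub : (univ.filter fun g : G => InV a b g) ⊆ univ.filter fun g : G => InV c d g := fun g hg =>
    mem_filter.2 ⟨mem_univ _, mem_FV.1 hc g (mem_filter.1 hg).2, mem_FV.1 hd g (mem_filter.1 hg).2,
      (mem_filter.1 hg).2.2.2⟩
  have he := eq_of_subset_of_card_le hsub (by rw [D.card_inV hcd, D.card_inV hab])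
  have := Finset.ext_iff.1 he g
  simp only [mem_filter, Finset.mem_univ, true_and] at this
  exact this.symm

theorem FV_eq_of_mem {a b c d : Ω} (hab : a ≠ b) (hc : c ∈ FV G a b) (hd : d ∈ FV G a b)
    (hcd : c ≠ d) : FV G c d = FV G a b := by
  ext x
  simp only [mem_FV, D.inV_iff_of_mem hab hc hd hcd]

theorem card_FV_eq {a b c d : Ω} (hab : a ≠ b) (hcd : c ≠ d) :
    (FV G c d).card = (FV G a b).card := by
  obtain ⟨g, rfl, rfl⟩ := D.trans a b c d hab hcd
  exact card_FV_conj a b g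

theorem two_le_card_FV {a b : Ω} (hab : a ≠ b) : 2 ≤ (FV G a b).card :=
  one_lt_card.2 ⟨a, left_mem_FV a b, b, right_mem_FV a b, hab⟩

theorem kv_of_eq {a b : Ω} (hab : a ≠ b) {v : G} (hv : InV a b v) (hv1 : v ≠ 1)
    (he : fx (Ω := Ω) v = FV G a b) : KV G Ω := by
  intro c d hcd w hw hw1
  obtain ⟨g, rfl, rfl⟩ := D.trans a b c d hab hcd
  obtain ⟨h, hc, hd, hh⟩ := D.inV_conj_inV hcd (hv.conj g) (fun e => hv1 (conj_eq_one_iff.1 e)) hw hw1
  have hk : (h * g) * v * (h * g)⁻¹ = w := by rw [← hh]; group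
  ext y
  obtain ⟨x, rfl⟩ : ∃ x, (h * g) • x = y := ⟨(h * g)⁻¹ • y, smul_inv_smul _ y⟩
  have e : FV G (g • a) (g • b) = FV G ((h * g) • a) ((h * g) • b) := by
    rw [mul_smul, mul_smul, hc, hd]
  rw [← hk, e, mem_fx_conj, mem_FV_conj, he]

theorem card_FV_lt (hK : ¬ KV G Ω) {a b : Ω} (hab : a ≠ b) {v : G} (hv : InV a b v) (hv1 : v ≠ 1) :
    (FV G a b).card < (fx (Ω := Ω) v).card := by
  refine card_lt_card ((FV_subset_fx hv).ssubset_of_ne fun e => ?_)
  exact hK (D.kv_of_eq hab hv hv1 e.symm)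

theorem inter_fx_eq {a b : Ω} (hab : a ≠ b) {J k : G} (hJ : InV a b J) (hk : InV a b k)
    (hJ1 : J ≠ 1) (hk1 : k ≠ 1) (hne : k ≠ J) : fx (Ω := Ω) J ∩ fx k = FV G a b :=
  (D.FV_eq_inter hab hJ hk hJ1 hk1 hne).symm

theorem normV_trans {a b : Ω} (hab : a ≠ b) {J : G} (hJ : InV a b J) (hJ1 : J ≠ 1) {c d : Ω}
    (hc : c ∈ FV G a b) (hd : d ∈ FV G a b) (hcd : c ≠ d) :
    ∃ g ∈ normV J a b, g • a = c ∧ g • b = d := by
  obtain ⟨g, hg, rfl, rfl⟩ := D.cent_trans (isT_of_inV hab hJ hJ1) (mem_fx.2 hJ.1) (mem_fx.2 hJ.2.1)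
    (FV_subset_fx hJ hc) (FV_subset_fx hJ hd) hab hcd
  refine ⟨g, ⟨Subgroup.mem_centralizer_singleton_iff.2 hg, fun x => ?_⟩, rfl, rfl⟩
  rw [← D.FV_eq_of_mem hab hc hd hcd, mem_FV_conj, D.FV_eq_of_mem hab hc hd hcd]

theorem normV_two_point {a b : Ω} (hab : a ≠ b) {J : G} (hJ : InV a b J) (hJ1 : J ≠ 1) {c d : Ω}
    (hc : c ∈ FV G a b) (hd : d ∈ FV G a b) (hcd : c ≠ d) {g : G} :
    (g ∈ normV J a b ∧ g • c = c ∧ g • d = d) ↔ InV a b g := by
  have hJ' : InV c d J := (D.inV_iff_of_mem hab hc hd hcd).2 hJ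
  constructor
  · rintro ⟨hg, h1, h2⟩
    exact (D.inV_iff_of_mem hab hc hd hcd).1 (D.inV_of_commute hcd hJ' hJ1 h1 h2
      (Subgroup.mem_centralizer_singleton_iff.1 hg.1).symm)
  · intro hg
    refine ⟨⟨Subgroup.mem_centralizer_singleton_iff.2 (D.inV_mul hab hg hJ).1,
      mem_setStab_of_maps fun x hx => by rw [mem_FV.1 hx g hg]; exact hx⟩,
      mem_FV.1 hc g hg, mem_FV.1 hd g hg⟩

theorem card_normV {a b : Ω} (hab : a ≠ b) {J : G} (hJ : InV a b J) (hJ1 : J ≠ 1) :
    Nat.card (normV J a b) = 4 * ((FV G a b).card * ((FV G a b).card - 1)) := by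
  rw [card_subgroup_pairs (normV J a b) (FV G a b) (left_mem_FV a b) (right_mem_FV a b) hab
    (fun g hg x hx => (hg.2 x).2 hx) (fun c hc d hd hcd => D.normV_trans hab hJ hJ1 hc hd hcd),
    mul_comm]
  congr 1
  rw [← D.card_inV hab, ← Fintype.card_subtype, ← Nat.card_eq_fintype_card]
  exact Nat.card_congr (Equiv.subtypeEquivRight fun g =>
    D.normV_two_point hab hJ hJ1 (left_mem_FV a b) (right_mem_FV a b) hab)

/-- The number of fixed points of a four-group is a prime power. -/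
theorem isPrimePow_card_FV {a b : Ω} (hab : a ≠ b) : IsPrimePow (FV G a b).card := by
  obtain ⟨J, hJ, hJ1⟩ := D.exists_T hab
  set Φ := FV G a b
  let f := actHom (normV J a b) Φ inf_le_right
  haveI : IsMultiplyPretransitive f.range {x // x ∈ Φ} 2 := by
    rw [is_two_pretransitive_iff]
    intro p q r s hpq hrs
    have key : ∀ c d : {x // x ∈ Φ}, c ≠ d → ∃ g : normV J a b, (g : G) • a = c ∧ (g : G) • b = d :=
      fun c d h => by
        obtain ⟨g, hg, h'⟩ := D.normV_trans hab hJ hJ1 c.2 d.2 (fun e => h (Subtype.ext e))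
        exact ⟨⟨g, hg⟩, h'⟩
    obtain ⟨g, hga, hgb⟩ := key p q hpq
    obtain ⟨k, hka, hkb⟩ := key r s hrs
    refine ⟨⟨f (k * g⁻¹), _, rfl⟩, Subtype.ext ?_, Subtype.ext ?_⟩
    · show ((k * g⁻¹ : normV J a b) : G) • (p : Ω) = r
      rw [← hga, Subgroup.coe_mul, Subgroup.coe_inv, mul_smul, inv_smul_smul, hka]
    · show ((k * g⁻¹ : normV J a b) : G) • (q : Ω) = s
      rw [← hgb, Subgroup.coe_mul, Subgroup.coe_inv, mul_smul, inv_smul_smul, hkb]
  have hsharp : ∀ x : Fin 2 ↪ {x // x ∈ Φ}, stabilizer f.range x = ⊥ := by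
    intro x
    refine eq_bot_iff.2 fun p hp => ?_
    obtain ⟨_, g, rfl⟩ := p
    rw [mem_stabilizer_iff] at hp
    have h0 : (g : G) • ((x 0 : {x // x ∈ Φ}) : Ω) = (x 0 : {x // x ∈ Φ}) :=
      congrArg Subtype.val (DFunLike.congr_fun hp 0)
    have h1 : (g : G) • ((x 1 : {x // x ∈ Φ}) : Ω) = (x 1 : {x // x ∈ Φ}) :=
      congrArg Subtype.val (DFunLike.congr_fun hp 1)
    have hne : ((x 0 : {x // x ∈ Φ}) : Ω) ≠ (x 1 : {x // x ∈ Φ}) := fun e => by
      simpa using x.injective (Subtype.ext e)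
    have hv := (D.normV_two_point hab hJ hJ1 (x 0).2 (x 1).2 hne).1 ⟨g.2, h0, h1⟩
    rw [Subgroup.mem_bot]
    exact Subtype.ext (actHom_eq_one.2 fun y hy => mem_FV.1 hy _ hv)
  have hn : 2 ≤ Nat.card {x // x ∈ Φ} := by
    rw [Nat.card_eq_fintype_card, Fintype.card_coe]; exact D.two_le_card_FV hab
  obtain ⟨p, j, K, hp, hj, hα, -⟩ := CfsgLib.SharplyTwo.exists_kernel hsharp hn
  rw [Nat.card_eq_fintype_card, Fintype.card_coe] at hα
  exact ⟨p, j, hp.prime, hj, hα.symm⟩

/-- In the symmetric type the number of fixed points of a four-group is `2` or `3` modulo `4`. -/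
theorem sym_parity (hS : SymType G Ω) {a b : Ω} (hab : a ≠ b) :
    ∃ m, Odd m ∧ (FV G a b).card * ((FV G a b).card - 1) = 2 * m := by
  haveI : Fact (Nat.Prime 2) := ⟨Nat.prime_two⟩
  obtain ⟨J, hJ, hJ1⟩ := D.exists_T hab
  obtain ⟨v, hv, hv1, hvJ⟩ := D.exists_second hab hJ
  obtain ⟨u, hu, huu, huJ, huV⟩ := D.sym_exists hS hab hJ hJ1
  set N := normV J a b
  set Φ := FV G a b
  let f := actHom N Φ inf_le_right
  have huN : u ∈ N := by
    refine ⟨Subgroup.mem_centralizer_singleton_iff.2 huJ, fun x => ?_⟩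
    have h := mem_FV_conj (G := G) (a := a) (b := b) (x := x) u
    rw [hu.1, hu.2] at h
    rwa [D.FV_eq_of_mem hab (right_mem_FV a b) (left_mem_FV a b) hab.symm] at h
  have hVN : ∀ g : G, InV a b g → g ∈ N := fun g hg =>
    ((D.normV_two_point hab hJ hJ1 (left_mem_FV a b) (right_mem_FV a b) hab).2 hg).1
  let Dc : Subgroup N := (Subgroup.centralizer ({v} : Set G)).subgroupOf N
  have hmemD : ∀ g : N, g ∈ Dc ↔ (g : G) * v = v * g := fun g => by
    simp [Dc, Subgroup.mem_subgroupOf, Subgroup.mem_centralizer_singleton_iff]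
  -- conjugates of `v`
  have hcases : ∀ g : N, (g : G) * v * (g : G)⁻¹ = v ∨ (g : G) * v * (g : G)⁻¹ = v * J := by
    intro g
    have hne : ((g : G) • a) ≠ (g : G) • b := fun e => hab (smul_left_cancel _ e)
    have hc := (g.2.2 a).2 (left_mem_FV a b)
    have hd := (g.2.2 b).2 (right_mem_FV a b)
    have hc' := (D.inV_iff_of_mem hab hc hd hne).1 (hv.conj (g : G))
    rcases D.inV_cases hab hJ hJ1 hv hv1 hvJ hc' with e | e | e | e
    · exact absurd (conj_eq_one_iff.1 e) hv1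
    · refine absurd ?_ hvJ
      have hgJ := Subgroup.mem_centralizer_singleton_iff.1 g.2.1
      have : (g : G) * v * (g : G)⁻¹ = (g : G) * J * (g : G)⁻¹ := by
        rw [e, hgJ, mul_inv_cancel_right]
      exact mul_left_cancel (mul_right_cancel this)
    · exact Or.inl e
    · exact Or.inr e
  have hidx : Dc.index = 2 := by
    rw [Subgroup.index_eq_two_iff]
    refine ⟨⟨u, huN⟩, fun g => ?_⟩
    simp only [hmemD, Subgroup.coe_mul]
    have hne : v * J ≠ v := fun e => hJ1 (mul_eq_left.1 e)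
    have hui : u⁻¹ = u := inv_eq_of_mul_eq_one_right huu
    have hu1 : u * v * u = v * J := huV v hv hv1 hvJ
    rcases hcases g with e | e
    · refine Or.inr ⟨mul_inv_eq_iff_eq_mul.1 e, fun h => ?_⟩
      have h' : (g : G) * (u * v * u) * (g : G)⁻¹ = v := by
        calc (g : G) * (u * v * u) * (g : G)⁻¹ = (g : G) * u * v * (u⁻¹ * (g : G)⁻¹) := by
              rw [hui]; group
          _ = v := by rw [h]; group
      rw [hu1] at h'
      exact hne (mul_left_cancel (mul_right_cancel (h'.trans e.symm)))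
    · refine Or.inl ⟨?_, fun h => hne (by rw [← e, h, mul_inv_cancel_right])⟩
      refine mul_inv_eq_iff_eq_mul.1 ?_
      have hgJ := Subgroup.mem_centralizer_singleton_iff.1 g.2.1
      calc (g : G) * u * v * ((g : G) * u)⁻¹ = (g : G) * (u * v * u⁻¹) * (g : G)⁻¹ := by group
        _ = (g : G) * v * (g : G)⁻¹ * ((g : G) * J * (g : G)⁻¹) := by rw [hui, hu1]; group
        _ = v * J * J := by rw [e, hgJ, mul_inv_cancel_right]
        _ = v := by rw [mul_assoc, hJ.2.2, mul_one]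
  have hcardD : 2 * Nat.card Dc = Nat.card N := by rw [← hidx, mul_comm, Subgroup.card_mul_index]
  let fD : Dc →* Equiv.Perm {x // x ∈ Φ} := f.comp Dc.subtype
  have hker : Nat.card fD.ker = 4 := by
    rw [← D.card_inV hab, ← Fintype.card_subtype, ← Nat.card_eq_fintype_card]
    refine Nat.card_congr
      { toFun := fun g => ⟨((g : Dc) : N), ?_⟩
        invFun := fun g => ⟨⟨⟨g, hVN g g.2⟩, (hmemD _).2 (D.inV_mul hab g.2 hv).1⟩, ?_⟩
        left_inv := fun g => rfl
        right_inv := fun g => rfl }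
    · have hg1 : f ((g : Dc) : N) = 1 := MonoidHom.mem_ker.1 g.2
      have h := actHom_eq_one.1 hg1
      exact (D.normV_two_point hab hJ hJ1 (left_mem_FV a b) (right_mem_FV a b) hab).1
        ⟨((g : Dc) : N).2, h a (left_mem_FV a b), h b (right_mem_FV a b)⟩
    · refine MonoidHom.mem_ker.2 ?_
      show f _ = 1
      exact actHom_eq_one.2 fun x hx => mem_FV.1 hx _ g.2
  refine ⟨Nat.card fD.range, Nat.not_even_iff_odd.1 fun hev => ?_, ?_⟩
  · obtain ⟨⟨π, ⟨g, hg⟩⟩, hπ⟩ := exists_prime_orderOf_dvd_card' (G := fD.range) 2 (even_iff_two_dvd.1 hev)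
    rw [← Subgroup.orderOf_coe] at hπ
    obtain ⟨c, hc⟩ : ∃ c, π c ≠ c := by
      by_contra h
      push Not at h
      obtain rfl : π = 1 := Equiv.ext h
      simp at hπ
    have hsq : π * π = 1 := by rw [← sq, ← hπ, pow_orderOf_eq_one]
    have hswap : Swap (c : Ω) (π c : Ω) ((g : N) : G) := by
      subst hg
      refine ⟨rfl, ?_⟩
      exact congrArg Subtype.val (Equiv.ext_iff.1 hsq c)
    have hne : (c : Ω) ≠ (π c : Ω) := fun e => hc (Subtype.ext e.symm)
    obtain ⟨y, hy, hyne⟩ := hS _ _ hne _ hswap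
    refine hyne ?_
    have hgJ := Subgroup.mem_centralizer_singleton_iff.1 (g : N).2.1
    have hgv := (hmemD _).1 g.2
    rcases D.inV_cases hab hJ hJ1 hv hv1 hvJ ((D.inV_iff_of_mem hab c.2 (π c).2 hne).1 hy)
      with rfl | rfl | rfl | rfl
    · simp
    · exact hgJ
    · exact hgv
    · exact (Commute.mul_right hgv hgJ).eq
  · have h1 := fD.ker.card_mul_index
    rw [Subgroup.index_ker, hker] at h1
    have h2 := D.card_normV hab hJ hJ1
    rw [← hcardD, ← h1] at h2
    linarith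

/-- The number of involutions of the class exchanging two points. -/
noncomputable def iCount (_D : Hyp G Ω) (a b : Ω) : ℕ :=
  ((Tset G Ω).filter fun t => t • a = b).card

theorem iCount_eq {a b c d : Ω} (hab : a ≠ b) (hcd : c ≠ d) : D.iCount c d = D.iCount a b := by
  simp only [iCount, Tset, filter_filter]
  exact D.card_swap_eq (IsT Ω) (fun g t h => h.conj g) hab hcd

theorem fx_lt_card {t : G} (h1 : t ≠ 1) : (fx (Ω := Ω) t).card < Nat.card Ω := by
  rw [Nat.card_eq_fintype_card]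
  refine card_lt_univ_of_notMem (x := Classical.choose (not_forall.1 fun h => h1 (D.faithful t h))) ?_
  rw [mem_fx]
  exact Classical.choose_spec (not_forall.1 fun h => h1 (D.faithful t h))

theorem swap_equation {a b : Ω} (hab : a ≠ b) {J : G} (hJ : IsT Ω J) :
    3 * (Nat.card Ω - (fx (Ω := Ω) J).card) =
      D.iCount a b * ((fx (Ω := Ω) J).card * ((fx (Ω := Ω) J).card - 1)) := by
  set f := (fx (Ω := Ω) J).card with hf
  set n := Nat.card Ω with hn
  have h1 : (Tset G Ω).card * (n - f) = (pairs Ω).card * D.iCount a b := by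
    refine card_mul_eq_card_mul (fun (t : G) (p : Ω × Ω) => t • p.1 = p.2) (fun t ht => ?_) fun p hp => ?_
    · have ht' := D.mem_Tset.1 ht
      rw [hf, ← D.card_fx_T hJ ht', hn, Nat.card_eq_fintype_card, ← card_compl]
      refine card_bij (fun p _ => p.1) (fun p hp => ?_) (fun p hp q hq h => ?_) fun x hx => ?_
      · simp only [bipartiteAbove, mem_filter, mem_pairs] at hp
        rw [mem_compl, mem_fx, hp.2]
        exact fun h => hp.1 h.symm
      · simp only [bipartiteAbove, mem_filter] at hp hq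
        exact Prod.ext h (by rw [← hp.2, ← hq.2, h])
      · rw [mem_compl, mem_fx] at hx
        exact ⟨(x, t • x), by simp [bipartiteAbove, mem_pairs, Ne.symm hx], rfl⟩
    · rw [← D.iCount_eq hab (mem_pairs.1 hp)]
      rfl
  rw [card_pairs'] at h1
  have h2 := D.card_T hJ
  have hn2 : 2 ≤ n := by
    rw [hn, Nat.card_eq_fintype_card]
    obtain ⟨p, q, hpq⟩ := D.nontriv
    exact Fintype.one_lt_card_iff.2 ⟨p, q, hpq⟩
  refine Nat.eq_of_mul_eq_mul_left (show 0 < 4 * (n * (n - 1)) from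
    Nat.mul_pos (by norm_num) (Nat.mul_pos (by omega) (by omega))) ?_
  calc 4 * (n * (n - 1)) * (3 * (n - f)) = 12 * (n * (n - 1)) * (n - f) := by ring
    _ = (Tset G Ω).card * (n - f) * (4 * (f * (f - 1))) := by rw [← h2]; ring
    _ = _ := by rw [h1]; ring

theorem card_T_stab {J : G} (hJ : IsT Ω J) {a b : Ω} (hab : a ≠ b) (c : Ω) :
    ((Tset G Ω).filter fun t => t • c = c).card = 3 + D.iCount a b * (fx (Ω := Ω) J).card := by
  set f := (fx (Ω := Ω) J).card with hf
  set n := Nat.card Ω with hn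
  set Ta := ((Tset G Ω).filter fun t => t • c = c).card
  have h1 : (Tset G Ω).card * f = (univ : Finset Ω).card * Ta := by
    refine card_mul_eq_card_mul (fun (t : G) (x : Ω) => t • x = x) (fun t ht => ?_) fun x _ => ?_
    · rw [hf, ← D.card_fx_T hJ (D.mem_Tset.1 ht)]; rfl
    · simp only [bipartiteBelow, Ta, Tset, filter_filter]
      exact D.card_fix_eq (IsT Ω) (fun g t h => h.conj g) c x
  rw [card_univ, ← Nat.card_eq_fintype_card] at h1
  have h2 := D.card_T hJ
  have h3 := D.swap_equation hab hJ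
  have hf2 : 2 ≤ f := hJ.2.2
  have hlt : f < n := D.fx_lt_card hJ.2.1
  obtain ⟨k, hk⟩ : ∃ k, f = k + 2 := ⟨f - 2, by omega⟩
  obtain ⟨l, hl⟩ : ∃ l, n = f + l := ⟨n - f, by omega⟩
  rw [← hn] at h1
  rw [← hf, ← hn] at h2 h3
  rw [hl, hk] at h1 h2 h3
  rw [show k + 2 - 1 = k + 1 by omega] at h2 h3
  rw [show k + 2 + l - (k + 2) = l by omega] at h3
  rw [show k + 2 + l - 1 = k + 1 + l by omega] at h2
  rw [hk]
  refine Nat.eq_of_mul_eq_mul_left (show 0 < 4 * (k + 1) * (k + 2 + l) by positivity) ?_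
  calc 4 * (k + 1) * (k + 2 + l) * Ta = 4 * (k + 1) * ((k + 2 + l) * Ta) := by ring
    _ = (Tset G Ω).card * (4 * ((k + 2) * (k + 1))) := by rw [← h1]; ring
    _ = 4 * (k + 2 + l) * (3 * (k + 1) + 3 * l) := by rw [h2]; ring
    _ = _ := by rw [h3]; ring

end Hyp

end CfsgLib.TwoPointA4
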