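import Cfsg.Agent.TwoPointA4.Central

/-!
# A regular invariant Sylow subgroup in the centralizer of an involution
-/

set_option autoImplicit false
set_option linter.unusedSectionVars false
set_option linter.style.haveILetI false

namespace CfsgLib.TwoPointA4

open MulAction Finset
open scoped Classical

universe u v

variable {G : Type u} {Ω : Type v} [Group G] [MulAction G Ω] [Fintype Ω] [Fintype G]

/-- Fixed points in a regular invariant subgroup. -/
theorem card_cent_regular (P : Subgroup G) (Φ : Finset Ω) (hP : ∀ y ∈ P, ∀ x ∈ Φ, y • x ∈ Φ)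
    (htr : ∀ c ∈ Φ, ∀ d ∈ Φ, ∃ y ∈ P, y • c = d) (hfree : ∀ y ∈ P, ∀ c ∈ Φ, y • c = c → y = 1)
    (k : G) (hk : ∀ y ∈ P, k * y * k⁻¹ ∈ P) {c : Ω} (hc : c ∈ Φ) (hkc : k • c = c) :
    Nat.card ↥(P ⊓ Subgroup.centralizer ({k} : Set G)) = (Φ ∩ fx k).card := by
  have hki : k⁻¹ • c = c := inv_smul_eq_iff.2 hkc.symm
  rw [← Fintype.card_coe, ← Nat.card_eq_fintype_card]
  refine Nat.card_congr (Equiv.ofBijective
    (fun y => ⟨(y : G) • c, mem_inter.2 ⟨hP _ y.2.1 c hc, ?_⟩⟩) ⟨fun y y' h => ?_, fun d => ?_⟩)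
  · rw [mem_fx, smul_smul, ← Subgroup.mem_centralizer_singleton_iff.1 y.2.2, mul_smul, hkc]
  · have h' : (y : G) • c = (y' : G) • c := congrArg Subtype.val h
    have := hfree _ (mul_mem (inv_mem y'.2.1) y.2.1) c hc (by rw [mul_smul, h', inv_smul_smul])
    exact Subtype.ext (inv_mul_eq_one.1 this).symm
  · obtain ⟨hd1, hd2⟩ := mem_inter.1 d.2
    obtain ⟨y, hy, hyc⟩ := htr c hc d hd1
    have hy2 : (k * y * k⁻¹) • c = d := by rw [mul_smul, hki, mul_smul, hyc, mem_fx.1 hd2]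
    have := hfree _ (mul_mem (inv_mem hy) (hk y hy)) c hc (by rw [mul_smul, hy2, ← hyc, inv_smul_smul])
    refine ⟨⟨y, hy, Subgroup.mem_centralizer_singleton_iff.2 ?_⟩, Subtype.ext hyc⟩
    exact (mul_inv_eq_iff_eq_mul.1 (inv_mul_eq_one.1 this).symm).symm

namespace Hyp

variable (D : Hyp G Ω)
include D

/-- If involutions of the permutation group induced by `C(t)` fix unique points, one for each point,
a Sylow subgroup for the odd prime dividing the number of fixed points is regular, and one is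
normalized by a given 2-subgroup. -/
theorem exists_regular_sylow {t : G} (ht : IsT Ω t) {p k : ℕ} (hp : p.Prime) (hp2 : p ≠ 2)
    (hk0 : 1 ≤ k) (hf : (fx (Ω := Ω) t).card = p ^ k)
    (hker : ∀ g : G, g * t = t * g → (∀ x ∈ fx (Ω := Ω) t, g • x = x) → g = 1 ∨ g = t)
    (W : Finset G) (hWt : ∀ w ∈ W, w * t = t * w) (hWmul : ∀ w ∈ W, w * t ∈ W)
    (hWc : ∀ g : G, g * t = t * g → ∀ w ∈ W, g * w * g⁻¹ ∈ W)
    (hWsq : ∀ w ∈ W, w * w = 1 ∨ w * w = t) (hone : ∀ w ∈ W, (fx (Ω := Ω) t ∩ fx w).card = 1)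
    (hpair : ∀ c ∈ fx (Ω := Ω) t, ∀ d ∈ fx (Ω := Ω) t, c ≠ d →
      (W.filter fun w => w • c = d).card = 2)
    (E : Subgroup G) (hE : ∀ g ∈ E, g * t = t * g) (hE2 : IsPGroup 2 E) :
    ∃ P : Subgroup G, (∀ y ∈ P, y * t = t * y) ∧ Nat.card P = p ^ k ∧
      (∀ g ∈ E, ∀ y ∈ P, g * y * g⁻¹ ∈ P) ∧
      (∀ c ∈ fx (Ω := Ω) t, ∀ d ∈ fx (Ω := Ω) t, ∃ y ∈ P, y • c = d) ∧
      (∀ y ∈ P, ∀ c ∈ fx (Ω := Ω) t, y • c = c → y = 1) := by
  haveI : Fact (Nat.Prime 2) := ⟨Nat.prime_two⟩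
  haveI : Fact p.Prime := ⟨hp⟩
  set C := Subgroup.centralizer ({t} : Set G) with hC
  set Φ := fx (Ω := Ω) t with hΦ
  have hmemC : ∀ g : G, g ∈ C ↔ g * t = t * g := fun g => Subgroup.mem_centralizer_singleton_iff
  have hCΦ : C ≤ setStab G Φ := fun g hg =>
    mem_setStab_of_maps fun x hx => cent_preserves ((hmemC g).1 hg) hx
  have hΦ2 : 2 ≤ Φ.card := ht.2.2
  let φ := actHom C Φ hCΦ
  have htC : t ∈ C := (hmemC t).2 rfl
  have hkerφ : ∀ g : C, φ g = 1 → (g : G) = 1 ∨ (g : G) = t := fun g hg =>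
    hker g ((hmemC _).1 g.2) (actHom_eq_one.1 hg)
  have hφt : φ ⟨t, htC⟩ = 1 := actHom_eq_one.2 fun x hx => mem_fx.1 hx
  have htrC : ∀ c ∈ Φ, ∀ d ∈ Φ, ∃ g ∈ C, g • c = d := by
    intro p hp q hq
    obtain ⟨r, hr, hrp⟩ := exists_mem_ne hΦ2 p
    obtain ⟨r', hr', hrq⟩ := exists_mem_ne hΦ2 q
    obtain ⟨g, hg, h, -⟩ := D.cent_trans ht hp hr hq hr' hrp.symm hrq.symm
    exact ⟨g, (hmemC g).2 hg, h⟩
  -- the isolated involution
  obtain ⟨a0, ha0, b0, hb0, hab0⟩ := one_lt_card.1 hΦ2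
  obtain ⟨w0, hw0⟩ := card_pos.1 (show 0 < (W.filter fun w => w • a0 = b0).card by
    rw [hpair a0 ha0 b0 hb0 hab0]; omega)
  have hw0W := (mem_filter.1 hw0).1
  obtain ⟨c, hc⟩ := card_eq_one.1 (hone w0 hw0W)
  have hcm : c ∈ Φ ∩ fx w0 := by rw [hΦ, hc]; simp
  have hcΦ := (mem_inter.1 hcm).1
  have hw0c := mem_fx.1 (mem_inter.1 hcm).2
  have hfib : (W.filter fun w => w • c = c).card = 2 :=
    fibre_card C Φ htrC W (fun g hg => hWc g ((hmemC g).1 hg))
      (fun w hw x hx => cent_preserves (hWt w hw) hx) hone 2 hpair hΦ2 hcΦ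
  have hfib2 : ∀ w ∈ W, w • c = c → w = w0 ∨ w = w0 * t := by
    have hsub : ({w0, w0 * t} : Finset G) ⊆ W.filter fun w => w • c = c := by
      intro w hw
      simp only [mem_insert, mem_singleton] at hw
      rcases hw with rfl | rfl
      · exact mem_filter.2 ⟨hw0W, hw0c⟩
      · exact mem_filter.2 ⟨hWmul _ hw0W, by rw [mul_smul, mem_fx.1 hcΦ, hw0c]⟩
    have he := eq_of_subset_of_card_le hsub (by
      rw [hfib, card_pair fun e => ht.2.1 (mul_eq_left.1 e.symm)])
    intro w hw hwc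
    have : w ∈ ({w0, w0 * t} : Finset G) := by rw [he]; exact mem_filter.2 ⟨hw, hwc⟩
    simpa using this
  let w0' : C := ⟨w0, (hmemC w0).2 (hWt w0 hw0W)⟩
  let π : φ.range := ⟨φ w0', w0', rfl⟩
  have hπ : orderOf π = 2 := by
    refine orderOf_eq_prime ?_ fun h => ?_
    · refine Subtype.ext ?_
      show φ w0' ^ 2 = 1
      rw [← map_pow]
      refine actHom_eq_one.2 fun x hx => ?_
      rw [Subgroup.coe_pow, sq]
      rcases hWsq w0 hw0W with e | e <;> rw [e]
      exacts [one_smul G x, mem_fx.1 hx]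
    · have h1 : φ w0' = 1 := congrArg Subtype.val h
      have h2 := actHom_eq_one.1 h1
      have hall : Φ ∩ fx w0 = Φ := inter_eq_left.2 fun x hx => mem_fx.2 (h2 x hx)
      have := hone w0 hw0W
      rw [hall] at this
      omega
  have hfixc : ∀ g : C, φ g * φ w0' = φ w0' * φ g → (g : G) • c = c := by
    intro g hg
    have h := congrArg Subtype.val (Equiv.ext_iff.1 hg ⟨c, hcΦ⟩)
    simp only [Equiv.Perm.mul_apply] at h
    have hmem : (g : G) • c ∈ Φ ∩ fx w0 := by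
      refine mem_inter.2 ⟨cent_preserves ((hmemC _).1 g.2) hcΦ, mem_fx.2 ?_⟩
      have e1 : (g : G) • w0 • c = w0 • (g : G) • c := h
      rw [← e1, hw0c]
    rw [hΦ, hc] at hmem
    exact mem_singleton.1 hmem
  have hiso : Cfsg.IsIsolatedInvolution π := by
    refine ⟨hπ, fun x hx => ?_⟩
    obtain ⟨g, hg⟩ := x.2
    have hconj : ((x * π * x⁻¹ : φ.range) : Equiv.Perm {x // x ∈ Φ}) = φ (g * w0' * g⁻¹) := by
      simp [π, hg]
    have hcomm : φ (g * w0' * g⁻¹) * φ w0' = φ w0' * φ (g * w0' * g⁻¹) := by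
      rw [← hconj]
      exact (congrArg Subtype.val hx.eq).symm
    have hW := hWc (g : G) ((hmemC _).1 g.2) w0 hw0W
    refine Subtype.ext (hconj.trans ?_)
    rcases hfib2 _ hW (hfixc _ hcomm) with e | e
    · exact congrArg φ (Subtype.ext e)
    · rw [show g * w0' * g⁻¹ = w0' * ⟨t, htC⟩ from Subtype.ext e, map_mul, hφt, mul_one]
  set O := Cfsg.oddCore φ.range with hO
  haveI hOn : O.Normal := CfsgLib.Solvable.pPrimeCore_normal 2
  have hOtr : ∀ d ∈ Φ, ∃ o ∈ O, ((o : Equiv.Perm {x // x ∈ Φ}) ⟨c, hcΦ⟩ : Ω) = d := by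
    intro d hd
    obtain ⟨g, hg, hgc⟩ := htrC c hcΦ d hd
    obtain ⟨o, ho, s, hs, hgs⟩ := CfsgLib.IsoApps.exists_mul hiso ⟨φ ⟨g, hg⟩, _, rfl⟩
    obtain ⟨s', hs'⟩ := s.2
    have hscomm : φ s' * φ w0' = φ w0' * φ s' := by
      rw [hs']
      exact congrArg Subtype.val (Subgroup.mem_centralizer_singleton_iff.1 hs)
    refine ⟨o, ho, ?_⟩
    have h1 : φ ⟨g, hg⟩ = (o : Equiv.Perm {x // x ∈ Φ}) * φ s' := by
      rw [hs']; exact congrArg Subtype.val hgs
    have h2 := congrArg Subtype.val (Equiv.ext_iff.1 h1 ⟨c, hcΦ⟩)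
    rw [Equiv.Perm.mul_apply] at h2
    have h3 : φ s' ⟨c, hcΦ⟩ = ⟨c, hcΦ⟩ := Subtype.ext (hfixc s' hscomm)
    rw [h3] at h2
    exact h2.symm.trans hgc
  -- the preimage
  let ψ : C →* φ.range := φ.rangeRestrict
  set N := O.comap ψ with hN
  haveI : N.Normal := hOn.comap ψ
  have hψker : Nat.card ψ.ker = 2 := by
    rw [show ψ.ker = Subgroup.zpowers (⟨t, htC⟩ : C) from ?_, Nat.card_zpowers, Subgroup.orderOf_mk,
      orderOf_eq_prime (by rw [sq, ht.1]) ht.2.1]
    rw [MonoidHom.ker_rangeRestrict]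
    refine le_antisymm (fun g hg => ?_) (Subgroup.zpowers_le.2 hφt)
    rcases hkerφ g hg with e | e
    · rw [show g = 1 from Subtype.ext e]; exact one_mem _
    · rw [show g = ⟨t, htC⟩ from Subtype.ext e]; exact Subgroup.mem_zpowers _
  have hcardN : Nat.card N = 2 * Nat.card O := by
    have h1 := Subgroup.card_mul_index N
    have h2 : N.index = O.index := Subgroup.index_comap_of_surjective _ φ.rangeRestrict_surjective
    have h3 := Subgroup.card_mul_index O
    have h4 := ψ.ker.card_mul_index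
    rw [Subgroup.index_ker, MonoidHom.range_eq_top.2 φ.rangeRestrict_surjective, Subgroup.card_top,
      hψker] at h4
    refine Nat.eq_of_mul_eq_mul_right (Nat.pos_of_ne_zero (Subgroup.index_ne_zero_of_finite (H := O))) ?_
    calc Nat.card N * O.index = Nat.card C := by rw [← h2, h1]
      _ = 2 * Nat.card φ.range := h4.symm
      _ = _ := by rw [← h3]; ring
  have hOodd : Odd (Nat.card O) := CfsgLib.IsoApps.odd_oddCore
  -- the `p`-part
  have hpO : p ^ k ∣ Nat.card O := by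
    have horb : orbit O (⟨c, hcΦ⟩ : {x // x ∈ Φ}) = Set.univ := Set.eq_univ_of_forall fun d => by
      obtain ⟨o, ho, he⟩ := hOtr d.1 d.2
      exact ⟨⟨o, ho⟩, Subtype.ext he⟩
    have := Nat.card_congr (orbitProdStabilizerEquivGroup O (⟨c, hcΦ⟩ : {x // x ∈ Φ}))
    rw [Nat.card_prod, horb, Nat.card_univ, Nat.card_eq_fintype_card (α := {x // x ∈ Φ}),
      Fintype.card_coe, hf] at this
    exact ⟨_, this.symm⟩
  have hcop : ∀ m : ℕ, m ∣ 4 * (p ^ k - 1) → ¬ p ∣ m := by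
    intro m hm hpm
    rcases (Nat.Prime.dvd_mul hp).1 (hpm.trans hm) with h | h
    · exact hp2 ((Nat.prime_dvd_prime_iff_eq hp Nat.prime_two).1
        (hp.dvd_of_dvd_pow (show p ∣ 2 ^ 2 from h)))
    · have h1 : p ∣ p ^ k := dvd_pow_self p (by omega)
      have h2 : 1 ≤ p ^ k := Nat.one_le_pow _ _ hp.pos
      have h3 := Nat.dvd_sub h1 h
      rw [Nat.sub_sub_self h2] at h3
      exact hp.not_dvd_one h3
  have hNp : (Nat.card N).factorization p = k := by
    refine le_antisymm ?_ ((hp.pow_dvd_iff_le_factorization Nat.card_pos.ne').1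
      (by rw [hcardN]; exact hpO.mul_left 2))
    have hd : Nat.card N ∣ p ^ k * (4 * (p ^ k - 1)) := by
      have h := Subgroup.card_subgroup_dvd_card N
      rw [D.card_cent ht, ← hΦ, hf] at h
      rwa [show p ^ k * (4 * (p ^ k - 1)) = 4 * (p ^ k * (p ^ k - 1)) by ring]
    have hne : 4 * (p ^ k - 1) ≠ 0 := by
      rw [← hf]
      omega
    have hle := (Nat.factorization_le_iff_dvd Nat.card_pos.ne' (mul_ne_zero (pow_ne_zero _ hp.ne_zero) hne)).2 hd p
    rwa [Nat.factorization_mul (pow_ne_zero _ hp.ne_zero) hne, Finsupp.add_apply,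
      hp.factorization_pow, Finsupp.single_eq_same,
      Nat.factorization_eq_zero_of_not_dvd (hcop _ dvd_rfl), add_zero] at hle
  -- the invariant Sylow subgroup
  have htN : (⟨t, htC⟩ : C) ∈ N := by
    show ψ ⟨t, htC⟩ ∈ O
    rw [show ψ ⟨t, htC⟩ = 1 from Subtype.ext hφt]
    exact one_mem _
  have hoddSyl : ¬ 2 ∣ Nat.card (Sylow p N) := by
    let R : Sylow p N := default
    rw [R.card_eq_index_normalizer]
    intro h2
    have hkle : Subgroup.zpowers (⟨⟨t, htC⟩, htN⟩ : N) ≤ Subgroup.normalizer ((R : Subgroup N) : Set N) := by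
      rw [Subgroup.zpowers_le]
      refine (Subgroup.centralizer_le_normalizer _) (Subgroup.mem_centralizer_iff.2 fun y _ => ?_)
      exact Subtype.ext (Subtype.ext ((hmemC _).1 (y : C).2))
    have hcz : Nat.card (Subgroup.zpowers (⟨⟨t, htC⟩, htN⟩ : N)) = 2 := by
      rw [Nat.card_zpowers, Subgroup.orderOf_mk, Subgroup.orderOf_mk,
        orderOf_eq_prime (by rw [sq, ht.1]) ht.2.1]
    obtain ⟨q, hq⟩ := hcz ▸ Subgroup.card_dvd_of_le hkle
    obtain ⟨r, hr⟩ := h2
    have := Subgroup.card_mul_index (Subgroup.normalizer ((R : Subgroup N) : Set N))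
    have e : 2 * Nat.card O = 2 * q * (2 * r) :=
      hcardN.symm.trans (this.symm.trans (congrArg₂ (· * ·) hq hr))
    refine (Nat.not_even_iff_odd.2 hOodd) ⟨q * r, ?_⟩
    linarith
  let E' : Subgroup C := E.subgroupOf C
  have hE' : IsPGroup 2 E' := hE2.comap_of_injective C.subtype C.subtype_injective
  let hom : E' →* MulAut N := (MulAut.conjNormal).comp E'.subtype
  letI : MulDistribMulAction E' N := MulDistribMulAction.compHom N hom
  obtain ⟨R, hR⟩ := hE'.nonempty_fixed_point_of_prime_not_dvd_card (Sylow p N) hoddSyl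
  set P := ((R : Subgroup N).map N.subtype).map C.subtype with hPdef
  have hPC : ∀ y ∈ P, y * t = t * y := by
    rintro _ ⟨y, -, rfl⟩
    exact (hmemC _).1 y.2
  have hPcard : Nat.card P = p ^ k := by
    rw [hPdef, Subgroup.card_map_of_injective C.subtype_injective,
      Subgroup.card_map_of_injective N.subtype_injective, R.card_eq_multiplicity, hNp]
  have hfree : ∀ y ∈ P, ∀ d ∈ Φ, y • d = d → y = 1 := by
    intro y hy d hd hyd
    have hstab : Nat.card ↥(C ⊓ stabilizer G d) = 4 * (p ^ k - 1) := by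
      have h1 := card_subgroup_point C Φ hd (fun g hg x hx => cent_preserves ((hmemC g).1 hg) hx)
        fun q hq => htrC d hd q hq
      rw [D.card_cent ht, ← hΦ, hf] at h1
      refine Nat.eq_of_mul_eq_mul_left (pow_pos hp.pos k) ?_
      rw [← h1]; ring
    have h1 : orderOf y ∣ 4 * (p ^ k - 1) := by
      rw [← hstab]
      exact Subgroup.orderOf_dvd_natCard _ ⟨(hmemC y).2 (hPC y hy), hyd⟩
    have h2 : orderOf y ∣ p ^ k := hPcard ▸ Subgroup.orderOf_dvd_natCard _ hy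
    obtain ⟨i, -, hi⟩ := (Nat.dvd_prime_pow hp).1 h2
    rcases Nat.eq_zero_or_pos i with rfl | hi0
    · rwa [pow_zero, orderOf_eq_one_iff] at hi
    · exact absurd (hi ▸ dvd_pow_self p hi0.ne') (hcop _ h1)
  refine ⟨P, hPC, hPcard, fun g hg y hy => ?_, fun d hd d' hd' => ?_, hfree⟩
  · obtain ⟨yc, ⟨yn, hyn, rfl⟩, rfl⟩ := hy
    let g' : E' := ⟨⟨g, (hmemC g).2 (hE g hg)⟩, hg⟩
    have hfix : (hom g') yn ∈ (R : Subgroup N) := by
      rw [← hR g']
      exact Subgroup.smul_mem_pointwise_smul yn g' _ hyn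
    refine ⟨_, ⟨_, hfix, rfl⟩, ?_⟩
    simp [hom, g']
  · have himg : (univ : Finset P).image (fun y : P => (y : G) • d) = Φ := by
      refine eq_of_subset_of_card_le (fun x hx => ?_) ?_
      · obtain ⟨y, -, rfl⟩ := mem_image.1 hx
        exact cent_preserves (hPC y y.2) hd
      · rw [card_image_of_injective, card_univ, ← Nat.card_eq_fintype_card, hPcard, hf]
        intro y y' h
        have := hfree _ (mul_mem (inv_mem y'.2) y.2) d hd (by
          rw [mul_smul, show (y : G) • d = (y' : G) • d from h, inv_smul_smul])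
        exact Subtype.ext (inv_mul_eq_one.1 this).symm
    rw [← himg] at hd'
    obtain ⟨y, -, hy⟩ := mem_image.1 hd'
    exact ⟨y, y.2, hy⟩

end Hyp

end CfsgLib.TwoPointA4
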