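import Cfsg.Agent.TwoPointA4.Basic

/-!
# The elements exchanging two points
-/

set_option autoImplicit false
set_option linter.unusedSectionVars false

namespace CfsgLib.TwoPointA4

open MulAction Finset
open scoped Classical

universe u v

variable {G : Type u} {Ω : Type v} [Group G] [MulAction G Ω] [Fintype Ω] [Fintype G]

/-- The two-point stabilizer has a centralizing involution exchanging the points. -/
def Central (G : Type u) (Ω : Type v) [Group G] [MulAction G Ω] : Prop :=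
  ∀ a b : Ω, a ≠ b → ∃ z : G, Swap a b z ∧ z * z = 1 ∧
    ∀ h : G, h • a = a → h • b = b → z * h = h * z

/-- No element exchanging two points centralizes their four-group. -/
def SymType (G : Type u) (Ω : Type v) [Group G] [MulAction G Ω] : Prop :=
  ∀ a b : Ω, a ≠ b → ∀ s : G, Swap a b s → ∃ v : G, InV a b v ∧ s * v ≠ v * s

theorem Swap.sq_fix {a b : Ω} {g : G} (hg : Swap a b g) : (g * g) • a = a ∧ (g * g) • b = b :=
  ⟨by rw [mul_smul, hg.1, hg.2], by rw [mul_smul, hg.2, hg.1]⟩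

theorem Swap.ne_one {a b : Ω} (hab : a ≠ b) {g : G} (hg : Swap a b g) : g ≠ 1 := by
  rintro rfl
  exact hab ((one_smul G a).symm.trans hg.1)

theorem Swap.inv {a b : Ω} {g : G} (hg : Swap a b g) : Swap a b g⁻¹ :=
  ⟨inv_smul_eq_iff.2 hg.2.symm, inv_smul_eq_iff.2 hg.1.symm⟩

theorem Swap.conj {a b : Ω} {g : G} (hg : Swap a b g) (k : G) :
    Swap (k • a) (k • b) (k * g * k⁻¹) :=
  ⟨by rw [conj_smul, hg.1], by rw [conj_smul, hg.2]⟩

theorem Swap.inV_conj {a b : Ω} {g v : G} (hg : Swap a b g) (hv : InV a b v) :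
    InV a b (g * v * g⁻¹) := by
  have := hv.conj g
  rw [hg.1, hg.2] at this
  exact inV_comm'.1 this

theorem Swap.mul_right {a b : Ω} {g h : G} (hg : Swap a b g) (ha : h • a = a) (hb : h • b = b) :
    Swap a b (g * h) :=
  ⟨by rw [mul_smul, ha, hg.1], by rw [mul_smul, hb, hg.2]⟩

theorem Swap.mul_left {a b : Ω} {g h : G} (hg : Swap a b g) (ha : h • a = a) (hb : h • b = b) :
    Swap a b (h * g) :=
  ⟨by rw [mul_smul, hg.1, hb], by rw [mul_smul, hg.2, ha]⟩

theorem Swap.inv_mul {a b : Ω} {g k : G} (hg : Swap a b g) (hk : Swap a b k) :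
    (g⁻¹ * k) • a = a ∧ (g⁻¹ * k) • b = b :=
  ⟨by rw [mul_smul, hk.1, inv_smul_eq_iff, hg.1], by rw [mul_smul, hk.2, inv_smul_eq_iff, hg.2]⟩

theorem swap_of_invol {a b : Ω} {t : G} (ht : t * t = 1) (h : t • a = b) : Swap a b t :=
  ⟨h, by rw [← h, smul_smul, ht, one_smul]⟩

theorem inV_one (a b : Ω) : InV a b (1 : G) := ⟨one_smul _ _, one_smul _ _, one_mul _⟩

namespace Hyp

variable (D : Hyp G Ω)
include D

theorem exists_swap {a b : Ω} (hab : a ≠ b) : ∃ s : G, Swap a b s :=
  D.trans a b b a hab hab.symm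

/-- The four elements of the four-group. -/
theorem inV_cases {a b : Ω} (hab : a ≠ b) {J v : G} (hJ : InV a b J) (hJ1 : J ≠ 1)
    (hv : InV a b v) (hv1 : v ≠ 1) (hvJ : v ≠ J) {w : G} (hw : InV a b w) :
    w = 1 ∨ w = J ∨ w = v ∨ w = v * J := by
  by_contra h
  push Not at h
  obtain ⟨h1, h2, h3, h4⟩ := h
  have hvJ' := (D.inV_mul hab hv hJ).2
  have e1 : v * J ≠ 1 := fun e => hvJ (mul_right_cancel (e.trans hJ.2.2.symm))
  have e2 : v * J ≠ J := fun e => hv1 (mul_eq_right.1 e)
  have e3 : v * J ≠ v := fun e => hJ1 (mul_eq_left.1 e)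
  have : ({1, J, v, v * J, w} : Finset G) ⊆ univ.filter fun g : G => InV a b g := by
    intro g hg
    simp only [mem_insert, mem_singleton] at hg
    rcases hg with rfl | rfl | rfl | rfl | rfl
    exacts [mem_filter.2 ⟨mem_univ _, inV_one a b⟩, mem_filter.2 ⟨mem_univ _, hJ⟩,
      mem_filter.2 ⟨mem_univ _, hv⟩, mem_filter.2 ⟨mem_univ _, hvJ'⟩, mem_filter.2 ⟨mem_univ _, hw⟩]
  have hc := card_le_card this
  rw [D.card_inV hab, card_insert_of_notMem (by simp [hJ1.symm, hv1.symm, e1.symm, h1.symm]),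
    card_insert_of_notMem (by simp [hvJ.symm, e2.symm, h2.symm]),
    card_insert_of_notMem (by simp [e3.symm, h3.symm]),
    card_insert_of_notMem (by simp [h4.symm]), card_singleton] at hc
  omega

theorem exists_second {a b : Ω} (hab : a ≠ b) {J : G} (hJ : InV a b J) :
    ∃ v : G, InV a b v ∧ v ≠ 1 ∧ v ≠ J := by
  by_contra h
  push Not at h
  have : (univ.filter fun g : G => InV a b g) ⊆ {1, J} := fun g hg => by
    by_cases h1 : g = 1
    · simp [h1]
    · simp [h g (mem_filter.1 hg).2 h1]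
  have := (card_le_card this).trans card_le_two
  rw [D.card_inV hab] at this
  omega

theorem central_unique {a b : Ω} (hab : a ≠ b) {z z' : G} (hz : Swap a b z) (hz' : Swap a b z')
    (hc : ∀ h : G, h • a = a → h • b = b → z * h = h * z)
    (hc' : ∀ h : G, h • a = a → h • b = b → z' * h = h * z') : z = z' := by
  obtain ⟨ha, hb⟩ := hz.inv_mul hz'
  obtain ⟨v, hv, hv1⟩ := D.exists_T hab
  obtain ⟨x, xa, xb, -, -, hx⟩ := D.exists_three hab
  have hcomm : ∀ h : G, h • a = a → h • b = b → Commute (z⁻¹ * z') h := fun h h1 h2 =>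
    (Commute.inv_left (hc h h1 h2)).mul_left (hc' h h1 h2)
  have hw := D.inV_of_commute hab hv hv1 ha hb (hcomm v hv.1 hv.2.1).eq.symm
  by_contra hne
  refine (hx _ hw fun e => hne (inv_mul_eq_one.1 e)).1 ?_
  rw [← (hcomm x xa xb).eq, mul_inv_cancel_right]

theorem central_of_cent {a b : Ω} (hab : a ≠ b) {s : G} (hs : Swap a b s)
    (hc : ∀ v : G, InV a b v → s * v = v * s) :
    ∃ z : G, Swap a b z ∧ z * z = 1 ∧ ∀ h : G, h • a = a → h • b = b → z * h = h * z := by
  obtain ⟨x, xa, xb, x3, x1, hx⟩ := D.exists_three hab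
  have xi : x⁻¹ • a = a ∧ x⁻¹ • b = b := ⟨inv_smul_eq_iff.2 xa.symm, inv_smul_eq_iff.2 xb.symm⟩
  have hxv : ∀ v : G, InV a b v → InV a b (x * v * x⁻¹) := fun v hv => by
    have := hv.conj x
    rwa [xa, xb] at this
  have hxv' : ∀ v : G, InV a b v → InV a b (x⁻¹ * v * x) := fun v hv => by
    have := hv.conj x⁻¹
    rwa [xi.1, xi.2, inv_inv] at this
  obtain ⟨v0, hv0, hv01⟩ := D.exists_T hab
  -- `x s x⁻¹ = s w`
  set w := s⁻¹ * (x * s * x⁻¹) with hw
  have hs' : Swap a b (x * s * x⁻¹) := by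
    have := hs.conj x
    rwa [xa, xb] at this
  have hwV : InV a b w := by
    refine D.inV_of_commute hab hv0 hv01 (hs.inv_mul hs').1 (hs.inv_mul hs').2 ?_
    have e1 : Commute v0 (x * s * x⁻¹) := by
      have := hc _ (hxv' _ hv0)
      refine Commute.symm ?_
      show x * s * x⁻¹ * v0 = v0 * (x * s * x⁻¹)
      calc x * s * x⁻¹ * v0 = x * (s * (x⁻¹ * v0 * x)) * x⁻¹ := by group
        _ = _ := by rw [this]; group
    exact ((Commute.inv_right (hc v0 hv0).symm).mul_right e1).eq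
  -- solve for the translate
  obtain ⟨v, hv, hvw⟩ : ∃ v : G, InV a b v ∧ v * (x * v * x⁻¹) = w := by
    have hsurj := Finset.surjOn_of_injOn_of_card_le (s := univ.filter fun g : G => InV a b g)
      (t := univ.filter fun g : G => InV a b g) (fun v : G => v * (x * v * x⁻¹))
      (fun v hv => mem_filter.2 ⟨mem_univ _, (D.inV_mul hab (mem_filter.1 hv).2
        (hxv v (mem_filter.1 hv).2)).2⟩) ?_ le_rfl
    · obtain ⟨v, hv, h⟩ := hsurj (mem_filter.2 ⟨mem_univ _, hwV⟩)
      exact ⟨v, (mem_filter.1 hv).2, h⟩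
    intro v hv v' hv' h
    have hv := (mem_filter.1 hv).2
    have hv' := (mem_filter.1 hv').2
    have hq := (D.inV_mul hab hv' hv).2
    by_contra hne
    refine (hx _ hq fun e => hne (mul_left_cancel (e.trans hv'.2.2.symm))).1 ?_
    calc x * (v' * v) * x⁻¹ = (x * v' * x⁻¹) * (x * v * x⁻¹) := by group
      _ = (x * v' * x⁻¹) * (v * (v * (x * v * x⁻¹))) := by rw [← mul_assoc v v, hv.2.2, one_mul]
      _ = (x * v' * x⁻¹) * (v * (v' * (x * v' * x⁻¹))) := by rw [show v * (x * v * x⁻¹) = _ from h]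
      _ = (x * v' * x⁻¹) * ((v * v') * (x * v' * x⁻¹)) := by rw [mul_assoc v v']
      _ = (v * v') * ((x * v' * x⁻¹) * (x * v' * x⁻¹)) := by
        rw [← mul_assoc, (D.inV_mul hab (hxv v' hv') (D.inV_mul hab hv hv').2).1, mul_assoc]
      _ = v' * v := by rw [(hxv v' hv').2.2, mul_one, (D.inV_mul hab hv hv').1]
  set z := s * v with hz
  have hzs : Swap a b z := hs.mul_right hv.1 hv.2.1
  have hzV : ∀ u : G, InV a b u → z * u = u * z := fun u hu => by
    rw [hz, mul_assoc, (D.inV_mul hab hv hu).1, ← mul_assoc, hc u hu, mul_assoc]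
  have hzx : z * x = x * z := by
    refine (mul_inv_eq_iff_eq_mul.1 ?_).symm
    calc x * z * x⁻¹ = s * (s⁻¹ * (x * s * x⁻¹)) * (x * v * x⁻¹) := by rw [hz]; group
      _ = s * (v * ((x * v * x⁻¹) * (x * v * x⁻¹))) := by rw [← hw, ← hvw]; group
      _ = z := by rw [(hxv v hv).2.2, mul_one]
  have hzH : ∀ h : G, h • a = a → h • b = b → z * h = h * z := by
    intro h ha hb
    by_cases hh : h * h = 1
    · exact hzV h ⟨ha, hb, hh⟩
    have hxx : x * x ≠ 1 := fun e => x1 (by rw [e, one_mul] at x3; exact x3)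
    rcases D.cosets_three hab ha hb xa xb hh hxx with h' | h'
    · have := (Commute.mul_right (hzV _ h') hzx).eq
      rwa [inv_mul_cancel_right] at this
    · have := (Commute.mul_right (hzV _ h') (Commute.inv_right hzx)).eq
      rwa [mul_inv_cancel_right] at this
  refine ⟨z, hzs, ?_, hzH⟩
  obtain ⟨h1, h2⟩ := hzs.sq_fix
  have hq := D.inV_of_commute hab hv0 hv01 h1 h2
    ((Commute.mul_right (hzV v0 hv0).symm (hzV v0 hv0).symm).eq)
  by_contra hne
  refine (hx _ hq hne).1 ?_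
  rw [← (Commute.mul_left hzx hzx).eq, mul_inv_cancel_right]

theorem dichotomy : Central G Ω ∨ SymType G Ω := by
  by_cases h : SymType G Ω
  · exact Or.inr h
  left
  unfold SymType at h
  push Not at h
  obtain ⟨a, b, hab, s, hs, hc⟩ := h
  obtain ⟨z, hz, hzz, hzc⟩ := D.central_of_cent hab hs hc
  intro c d hcd
  obtain ⟨g, rfl, rfl⟩ := D.trans a b c d hab hcd
  refine ⟨g * z * g⁻¹, hz.conj g, by rw [conj_mul, hzz]; group, fun h h1 h2 => ?_⟩
  have := hzc (g⁻¹ * h * g) (by rw [mul_smul, mul_smul, h1, inv_smul_smul])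
    (by rw [mul_smul, mul_smul, h2, inv_smul_smul])
  calc g * z * g⁻¹ * h = g * (z * (g⁻¹ * h * g)) * g⁻¹ := by group
    _ = h * (g * z * g⁻¹) := by rw [this]; group

/-- The elements exchanging `a` and `b` in the centralizer of an involution fixing both form a
coset of the four-group. -/
theorem swap_cent_coset {a b : Ω} (hab : a ≠ b) {J : G} (hJ : InV a b J) (hJ1 : J ≠ 1) {s g : G}
    (hs : Swap a b s) (hsJ : s * J = J * s) (hg : Swap a b g) (hgJ : g * J = J * g) :
    InV a b (s⁻¹ * g) :=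
  D.inV_of_commute hab hJ hJ1 (hs.inv_mul hg).1 (hs.inv_mul hg).2
    ((Commute.inv_right hsJ.symm).mul_right hgJ.symm).eq

/-! ### The central type -/

theorem central_invol {a b : Ω} {z : G} (hz : Swap a b z) (hzz : z * z = 1)
    (hc : ∀ h : G, h • a = a → h • b = b → z * h = h * z) {g : G} (hg : Swap a b g) :
    (g * g = 1 ↔ InV a b (z * g)) := by
  have hfix : (z * g) • a = a ∧ (z * g) • b = b := by
    have := hz.inv_mul hg
    rwa [inv_eq_of_mul_eq_one_right hzz] at this
  have hzg : z * g * z = g := by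
    rw [← hc _ hfix.1 hfix.2, ← mul_assoc, hzz, one_mul]
  have key : z * g * (z * g) = g * g := by rw [← mul_assoc, hzg]
  exact ⟨fun h => ⟨hfix.1, hfix.2, key.trans h⟩, fun h => key.symm.trans h.2.2⟩

theorem central_swap_cent {a b : Ω} (hab : a ≠ b) {z : G} (hz : Swap a b z) (hzz : z * z = 1)
    (hc : ∀ h : G, h • a = a → h • b = b → z * h = h * z) {J : G} (hJ : InV a b J) (hJ1 : J ≠ 1)
    {g : G} (hg : Swap a b g) (hgJ : g * J = J * g) : InV a b (z * g) := by
  have := D.swap_cent_coset hab hJ hJ1 hz (hc J hJ.1 hJ.2.1) hg hgJ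
  rwa [inv_eq_of_mul_eq_one_right hzz] at this

/-! ### The symmetric type -/

theorem sym_exists (hS : SymType G Ω) {a b : Ω} (hab : a ≠ b) {J : G} (hJ : InV a b J)
    (hJ1 : J ≠ 1) : ∃ u : G, Swap a b u ∧ u * u = 1 ∧ u * J = J * u ∧
      ∀ v : G, InV a b v → v ≠ 1 → v ≠ J → u * v * u = v * J := by
  obtain ⟨s0, hs0⟩ := D.exists_swap hab
  obtain ⟨h, ha, hb, hh⟩ := D.inV_conj_inV hab (hs0.inV_conj hJ)
    (fun e => hJ1 (conj_eq_one_iff.1 e)) hJ hJ1
  set s := h * s0 with hs
  have hss : Swap a b s := hs0.mul_left ha hb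
  have hsJ : s * J = J * s := by
    refine mul_inv_eq_iff_eq_mul.1 ?_
    calc s * J * s⁻¹ = h * (s0 * J * s0⁻¹) * h⁻¹ := by rw [hs]; group
      _ = J := hh
  obtain ⟨w, hw, hw1, hwJ⟩ := D.exists_second hab hJ
  have hswap : ∀ v : G, InV a b v → v ≠ 1 → v ≠ J → s * v * s⁻¹ = v * J := by
    intro v hv hv1 hvJ
    rcases D.inV_cases hab hJ hJ1 hv hv1 hvJ (hss.inV_conj hv) with e | e | e | e
    · exact absurd (conj_eq_one_iff.1 e) hv1
    · refine absurd ?_ hvJ
      have : s * v * s⁻¹ = s * J * s⁻¹ := by rw [e, hsJ, mul_inv_cancel_right]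
      exact mul_left_cancel (mul_right_cancel this)
    · exfalso
      have hsv : Commute s v := mul_inv_eq_iff_eq_mul.1 e
      obtain ⟨y, hy, hyne⟩ := hS a b hab s hss
      rcases D.inV_cases hab hJ hJ1 hv hv1 hvJ hy with rfl | rfl | rfl | rfl
      · exact hyne (by simp)
      · exact hyne hsJ
      · exact hyne hsv.eq
      · exact hyne (Commute.mul_right hsv hsJ).eq
    · exact e
  have hsq : InV a b (s * s) :=
    D.inV_of_commute hab hJ hJ1 hss.sq_fix.1 hss.sq_fix.2 (Commute.mul_right hsJ.symm hsJ.symm).eq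
  rcases D.inV_cases hab hJ hJ1 hw hw1 hwJ hsq with e | e | e | e
  · exact ⟨s, hss, e, hsJ, fun v hv h1 h2 => by
      rw [← hswap v hv h1 h2, inv_eq_of_mul_eq_one_right e]⟩
  · -- `s` has order four; pass to `s w`
    have hsi : s⁻¹ = J * s := by
      refine inv_eq_of_mul_eq_one_right ?_
      rw [← mul_assoc, hsJ, mul_assoc, e, hJ.2.2]
    refine ⟨s * w, hss.mul_right hw.1 hw.2.1, ?_,
      ((show Commute J s from hsJ.symm).mul_right (D.inV_mul hab hJ hw).1).eq.symm, fun v hv h1 h2 => ?_⟩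
    · calc s * w * (s * w) = (s * w * s⁻¹) * (s * s) * w := by group
        _ = w * (J * J) * w := by rw [hswap w hw hw1 hwJ, e]; group
        _ = 1 := by rw [hJ.2.2, mul_one, hw.2.2]
    · have hvw := (D.inV_mul hab hv hw).1
      have hwi : (s * w)⁻¹ = s * w := by
        refine inv_eq_of_mul_eq_one_right ?_
        calc s * w * (s * w) = (s * w * s⁻¹) * (s * s) * w := by group
          _ = w * (J * J) * w := by rw [hswap w hw hw1 hwJ, e]; group
          _ = 1 := by rw [hJ.2.2, mul_one, hw.2.2]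
      calc s * w * v * (s * w) = s * w * v * (s * w)⁻¹ := by rw [hwi]
        _ = s * (w * v * w⁻¹) * s⁻¹ := by group
        _ = v * J := by rw [← hvw, mul_inv_cancel_right, hswap v hv h1 h2]
  · exfalso
    have h := hswap w hw hw1 hwJ
    rw [← e, show s * (s * s) * s⁻¹ = s * s by group] at h
    exact hJ1 (mul_eq_left.1 h.symm)
  · exfalso
    have h := hswap (w * J) (D.inV_mul hab hw hJ).2
      (fun h => hwJ (mul_right_cancel (h.trans hJ.2.2.symm))) fun h => hw1 (mul_eq_right.1 h)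
    rw [← e, show s * (s * s) * s⁻¹ = s * s by group] at h
    exact hJ1 (mul_eq_left.1 h.symm)

theorem sym_cases (hS : SymType G Ω) {a b : Ω} (hab : a ≠ b) {J u v : G} (hJ : InV a b J)
    (hJ1 : J ≠ 1) (hv : InV a b v) (hv1 : v ≠ 1) (hvJ : v ≠ J) (hu : Swap a b u) (huu : u * u = 1)
    (huJ : u * J = J * u) (huv : u * v * u = v * J) {g : G} (hg : Swap a b g) (hgJ : g * J = J * g) :
    (g = u ∨ g = u * J ∨ g = u * v ∨ g = u * (v * J)) ∧
      (g * g = 1 → g = u ∨ g = u * J) ∧ (g = u * v ∨ g = u * (v * J) → g * g = J) := by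
  have hvj := (D.inV_mul hab hv hJ).1
  have h4 : u * v * (u * v) = J := by
    rw [← mul_assoc, huv, mul_assoc, ← hvj, ← mul_assoc, hv.2.2, one_mul]
  have h5 : u * (v * J) * (u * (v * J)) = J := by
    have hc : Commute J (u * v) := Commute.mul_right huJ.symm hvj.symm
    calc u * (v * J) * (u * (v * J)) = u * v * (J * (u * v)) * J := by group
      _ = u * v * ((u * v) * J) * J := by rw [hc.eq]
      _ = (u * v * (u * v)) * (J * J) := by group
      _ = J := by rw [h4, hJ.2.2, mul_one]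
  have hI := D.swap_cent_coset hab hJ hJ1 hu huJ hg hgJ
  rw [inv_eq_of_mul_eq_one_right huu] at hI
  have hback : ∀ {y : G}, u * g = y → g = u * y := fun h => by
    rw [← h, ← mul_assoc, huu, one_mul]
  refine ⟨?_, fun h2 => ?_, ?_⟩
  · rcases D.inV_cases hab hJ hJ1 hv hv1 hvJ hI with e | e | e | e
    · exact Or.inl (by rw [hback e, mul_one])
    · exact Or.inr (Or.inl (hback e))
    · exact Or.inr (Or.inr (Or.inl (hback e)))
    · exact Or.inr (Or.inr (Or.inr (hback e)))
  · rcases D.inV_cases hab hJ hJ1 hv hv1 hvJ hI with e | e | e | e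
    · exact Or.inl (by rw [hback e, mul_one])
    · exact Or.inr (hback e)
    · rw [hback e, h4] at h2; exact absurd h2 hJ1
    · rw [hback e, h5] at h2; exact absurd h2 hJ1
  · rintro (rfl | rfl)
    exacts [h4, h5]

end Hyp

end CfsgLib.TwoPointA4
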