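import Cfsg.Agent.TwoPointA4.Count

/-!
# The two types; kernel involutions
-/

set_option autoImplicit false
set_option linter.unusedSectionVars false

namespace CfsgLib.TwoPointA4

open MulAction Finset
open scoped Classical

universe u v

variable {G : Type u} {Ω : Type v} [Group G] [MulAction G Ω] [Fintype Ω] [Fintype G]

/-- The involutions of the centralizer of `J` other than `J` fixing two fixed points of `J`. -/
noncomputable def kern (Ω : Type v) [MulAction G Ω] [Fintype Ω] (J : G) : Finset G :=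
  univ.filter fun g => g ≠ 1 ∧ g ≠ J ∧ g * J = J * g ∧ 2 ≤ (fx (Ω := Ω) J ∩ fx g).card

theorem mem_kern {J g : G} : g ∈ kern Ω J ↔
    g ≠ 1 ∧ g ≠ J ∧ g * J = J * g ∧ 2 ≤ (fx (Ω := Ω) J ∩ fx g).card := by
  simp [kern]

/-- The number of kernel involutions exchanging two points. -/
noncomputable def jCount (J : G) (a b : Ω) : ℕ := ((kern Ω J).filter fun g => g • a = b).card

theorem fx_inter_conj (g s t : G) :
    (fx (Ω := Ω) (g * s * g⁻¹) ∩ fx (g * t * g⁻¹)).card = (fx (Ω := Ω) s ∩ fx t).card := by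
  refine (card_bij (fun x _ => g • x) (fun x hx => ?_) (fun _ _ _ _ h => smul_left_cancel g h)
    fun y hy => ⟨g⁻¹ • y, ?_, smul_inv_smul g y⟩).symm
  · obtain ⟨h1, h2⟩ := mem_inter.1 hx
    exact mem_inter.2 ⟨mem_fx_conj.2 h1, mem_fx_conj.2 h2⟩
  · obtain ⟨h1, h2⟩ := mem_inter.1 hy
    rw [← smul_inv_smul g y, mem_fx_conj] at h1 h2
    exact mem_inter.2 ⟨h1, h2⟩

namespace Hyp

variable (D : Hyp G Ω)
include D

/-! ### Kernel involutions -/

theorem kern_spec {J g : G} (hJ : IsT Ω J) (hg : g ∈ kern Ω J) :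
    ∃ c d : Ω, c ≠ d ∧ InV c d J ∧ InV c d g := by
  obtain ⟨h1, h2, h3, h4⟩ := mem_kern.1 hg
  obtain ⟨c, hc, d, hd, hcd⟩ := one_lt_card.1 h4
  obtain ⟨hcJ, hcg⟩ := mem_inter.1 hc
  obtain ⟨hdJ, hdg⟩ := mem_inter.1 hd
  have hJV : InV c d J := ⟨mem_fx.1 hcJ, mem_fx.1 hdJ, hJ.1⟩
  exact ⟨c, d, hcd, hJV, D.inV_of_commute hcd hJV hJ.2.1 (mem_fx.1 hcg) (mem_fx.1 hdg) h3.symm⟩

theorem kern_isT {J g : G} (hJ : IsT Ω J) (hg : g ∈ kern Ω J) : IsT Ω g := by
  obtain ⟨c, d, hcd, -, h⟩ := D.kern_spec hJ hg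
  exact isT_of_inV hcd h (mem_kern.1 hg).1

theorem kern_of_inV {a b : Ω} (hab : a ≠ b) {J g : G} (hJ : InV a b J) (hg : InV a b g)
    (h1 : g ≠ 1) (h2 : g ≠ J) : g ∈ kern Ω J :=
  mem_kern.2 ⟨h1, h2, (D.inV_mul hab hg hJ).1,
    one_lt_card.2 ⟨a, mem_inter.2 ⟨mem_fx.2 hJ.1, mem_fx.2 hg.1⟩, b,
      mem_inter.2 ⟨mem_fx.2 hJ.2.1, mem_fx.2 hg.2.1⟩, hab⟩⟩

theorem kern_mul {J g : G} (hJ : IsT Ω J) (hg : g ∈ kern Ω J) : g * J ∈ kern Ω J := by
  obtain ⟨h1, h2, -, -⟩ := mem_kern.1 hg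
  obtain ⟨c, d, hcd, hJV, hgV⟩ := D.kern_spec hJ hg
  exact D.kern_of_inV hcd hJV (D.inV_mul hcd hgV hJV).2
    (fun e => h2 (mul_right_cancel (e.trans hJ.1.symm))) fun e => h1 (mul_eq_right.1 e)

theorem kern_inter {J g : G} (hJ : IsT Ω J) (hg : g ∈ kern Ω J) {a b : Ω} (hab : a ≠ b) :
    (fx (Ω := Ω) J ∩ fx g).card = (FV G a b).card := by
  obtain ⟨c, d, hcd, hJV, hgV⟩ := D.kern_spec hJ hg
  rw [D.inter_fx_eq hcd hJV hgV hJ.2.1 (mem_kern.1 hg).1 (mem_kern.1 hg).2.1]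
  exact D.card_FV_eq hab hcd

theorem kern_card {a b : Ω} (hab : a ≠ b) {J : G} (hJ : IsT Ω J) :
    (kern Ω J).card * ((FV G a b).card * ((FV G a b).card - 1)) =
      2 * ((fx (Ω := Ω) J).card * ((fx (Ω := Ω) J).card - 1)) := by
  rw [mul_comm 2, ← card_pairs_of (fx (Ω := Ω) J)]
  refine card_mul_eq_card_mul (fun (g : G) (p : Ω × Ω) => g • p.1 = p.1 ∧ g • p.2 = p.2)
    (fun g hg => ?_) fun p hp => ?_
  · rw [← D.kern_inter hJ hg hab, ← card_pairs_of]
    congr 1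
    ext p
    simp only [bipartiteAbove, mem_filter, mem_product, mem_inter, mem_fx]
    tauto
  · simp only [mem_filter, mem_product] at hp
    obtain ⟨⟨h1, h2⟩, hne⟩ := hp
    have hJV : InV p.1 p.2 J := ⟨mem_fx.1 h1, mem_fx.1 h2, hJ.1⟩
    have : (kern Ω J).bipartiteBelow (fun (g : G) (p : Ω × Ω) => g • p.1 = p.1 ∧ g • p.2 = p.2) p =
        ((univ.filter fun g : G => InV p.1 p.2 g).erase 1).erase J := by
      ext g
      simp only [bipartiteBelow, mem_filter, mem_erase, Finset.mem_univ, true_and]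
      constructor
      · rintro ⟨hg, hg1, hg2⟩
        obtain ⟨k1, k2, k3, -⟩ := mem_kern.1 hg
        exact ⟨k2, k1, D.inV_of_commute hne hJV hJ.2.1 hg1 hg2 k3.symm⟩
      · rintro ⟨k2, k1, hV⟩
        exact ⟨D.kern_of_inV hne hJV hV k1 k2, hV.1, hV.2.1⟩
    rw [this, card_erase_of_mem, card_erase_of_mem, D.card_inV hne]
    · exact mem_filter.2 ⟨mem_univ _, inV_one _ _⟩
    · exact mem_erase.2 ⟨hJ.2.1, mem_filter.2 ⟨mem_univ _, hJV⟩⟩

theorem jCount_eq {J : G} (hJ : IsT Ω J) {a b c d : Ω} (ha : a ∈ fx J) (hb : b ∈ fx J)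
    (hc : c ∈ fx J) (hd : d ∈ fx J) (hab : a ≠ b) (hcd : c ≠ d) : jCount J c d = jCount J a b := by
  obtain ⟨k, hk, rfl, rfl⟩ := D.cent_trans hJ ha hb hc hd hab hcd
  have hk' : k * J * k⁻¹ = J := by rw [hk, mul_inv_cancel_right]
  have hk'' : k⁻¹ * J * k = J := by rw [mul_assoc, ← hk, inv_mul_cancel_left]
  have hmem : ∀ g : G, ∀ l : G, l * J * l⁻¹ = J → g ∈ kern Ω J → l * g * l⁻¹ ∈ kern Ω J := by
    intro g l hl hg
    obtain ⟨h1, h2, h3, h4⟩ := mem_kern.1 hg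
    refine mem_kern.2 ⟨fun e => h1 (conj_eq_one_iff.1 e), fun e => h2 ?_, ?_, ?_⟩
    · exact mul_left_cancel (mul_right_cancel (e.trans hl.symm))
    · calc l * g * l⁻¹ * J = l * g * l⁻¹ * (l * J * l⁻¹) := by rw [hl]
        _ = l * (g * J) * l⁻¹ := by group
        _ = (l * J * l⁻¹) * (l * g * l⁻¹) := by rw [h3]; group
        _ = _ := by rw [hl]
    · rwa [← hl, fx_inter_conj]
  refine (card_bij (fun g _ => k * g * k⁻¹) (fun g hg => ?_)
    (fun _ _ _ _ h => mul_left_cancel (mul_right_cancel h)) fun g hg => ?_).symm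
  · obtain ⟨h1, h2⟩ := mem_filter.1 hg
    exact mem_filter.2 ⟨hmem g k hk' h1, by rw [conj_smul, h2]⟩
  · obtain ⟨h1, h2⟩ := mem_filter.1 hg
    refine ⟨k⁻¹ * g * k, mem_filter.2 ⟨?_, ?_⟩, by group⟩
    · simpa using hmem g k⁻¹ (by rw [inv_inv, hk'']) h1
    · rw [mul_smul, mul_smul, h2, inv_smul_smul]

theorem kern_swap_equation {J : G} (hJ : IsT Ω J) {a b : Ω} (hab : a ≠ b) (ha : a ∈ fx J)
    (hb : b ∈ fx J) :
    2 * ((fx (Ω := Ω) J).card - (FV G a b).card) =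
      jCount J a b * ((FV G a b).card * ((FV G a b).card - 1)) := by
  set f := (fx (Ω := Ω) J).card with hf
  set e := (FV G a b).card with he
  have h1 : (kern Ω J).card * (f - e) = jCount J a b * (f * (f - 1)) := by
    rw [mul_comm (jCount J a b), hf, ← card_pairs_of (fx (Ω := Ω) J)]
    refine card_mul_eq_card_mul (fun (g : G) (p : Ω × Ω) => g • p.1 = p.2) (fun g hg => ?_) fun p hp => ?_
    · have hgJ := (mem_kern.1 hg).2.2.1
      rw [he, ← D.kern_inter hJ hg hab, inter_comm, ← card_sdiff]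
      refine card_bij (fun p _ => p.1) (fun p hp => ?_) (fun p hp q hq h => ?_) fun x hx => ?_
      · simp only [bipartiteAbove, mem_filter, mem_product] at hp
        obtain ⟨⟨⟨h1, -⟩, hne⟩, hgp⟩ := hp
        refine mem_sdiff.2 ⟨h1, fun h => hne ?_⟩
        rw [← hgp, mem_fx.1 h]
      · simp only [bipartiteAbove, mem_filter] at hp hq
        exact Prod.ext h (by rw [← hp.2, ← hq.2, h])
      · obtain ⟨hx1, hx2⟩ := mem_sdiff.1 hx
        refine ⟨(x, g • x), ?_, rfl⟩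
        simp only [bipartiteAbove, mem_filter, mem_product, and_true]
        exact ⟨⟨hx1, cent_preserves hgJ hx1⟩, fun e => hx2 (mem_fx.2 e.symm)⟩
    · simp only [mem_filter, mem_product] at hp
      rw [← D.jCount_eq hJ ha hb hp.1.1 hp.1.2 hab hp.2]
      rfl
  have h2 := D.kern_card hab hJ
  rw [← hf, ← he] at h2
  have hf2 : 2 ≤ f := hJ.2.2
  refine Nat.eq_of_mul_eq_mul_left (show 0 < f * (f - 1) from Nat.mul_pos (by omega) (by omega)) ?_
  calc f * (f - 1) * (2 * (f - e)) = (2 * (f * (f - 1))) * (f - e) := by ring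
    _ = (kern Ω J).card * (f - e) * (e * (e - 1)) := by rw [← h2]; ring
    _ = _ := by rw [h1]; ring

/-! ### The central type -/

theorem central_isT_iff {a b : Ω} (hab : a ≠ b) {z : G}
    (hc : ∀ h : G, h • a = a → h • b = b → z * h = h * z) {v w : G} (hv : InV a b v) (hv1 : v ≠ 1)
    (hw : InV a b w) (hw1 : w ≠ 1) : IsT Ω (z * v) → IsT Ω (z * w) := by
  intro h
  obtain ⟨k, ka, kb, hk⟩ := D.inV_conj_inV hab hv hv1 hw hw1
  have : k * (z * v) * k⁻¹ = z * w := by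
    rw [← hk, ← mul_assoc k z, ← hc k ka kb]
    group
  exact this ▸ h.conj k

theorem central_iCount {a b : Ω} (hab : a ≠ b) {z : G} (hz : Swap a b z) (hzz : z * z = 1)
    (hc : ∀ h : G, h • a = a → h • b = b → z * h = h * z) {v : G} (hv : InV a b v) (hv1 : v ≠ 1) :
    D.iCount a b = (if IsT Ω z then 1 else 0) + (if IsT Ω (z * v) then 3 else 0) := by
  have h : (Tset G Ω).filter (fun t => t • a = b) =
      ((univ.filter fun w : G => InV a b w).filter fun w => IsT Ω (z * w)).image (fun w => z * w) := by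
    ext t
    simp only [mem_filter, mem_image, Finset.mem_univ, true_and, D.mem_Tset]
    constructor
    · rintro ⟨ht, hta⟩
      refine ⟨z * t, ⟨(D.central_invol hz hzz hc (swap_of_invol ht.1 hta)).1 ht.1, ?_⟩, ?_⟩
      · rwa [← mul_assoc, hzz, one_mul]
      · rw [← mul_assoc, hzz, one_mul]
    · rintro ⟨w, ⟨hw, hT⟩, rfl⟩
      exact ⟨hT, by rw [mul_smul, hw.1, hz.1]⟩
  rw [iCount, h, card_image_of_injective _ (mul_right_injective z)]
  have hone : (1 : G) ∈ univ.filter fun w : G => InV a b w :=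
    mem_filter.2 ⟨mem_univ _, inV_one a b⟩
  rw [← insert_erase hone, filter_insert, mul_one]
  by_cases h2 : IsT Ω (z * v)
  · rw [if_pos h2]
    have : ((univ.filter fun w : G => InV a b w).erase 1).filter (fun w => IsT Ω (z * w)) =
        (univ.filter fun w : G => InV a b w).erase 1 := filter_true_of_mem fun w hw => by
      obtain ⟨h1, hw⟩ := mem_erase.1 hw
      exact D.central_isT_iff hab hc hv hv1 (mem_filter.1 hw).2 h1 h2
    rw [this]
    split_ifs with h1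
    · rw [card_insert_of_notMem (by simp), card_erase_of_mem hone, D.card_inV hab]
    · rw [card_erase_of_mem hone, D.card_inV hab]
  · rw [if_neg h2]
    have : ((univ.filter fun w : G => InV a b w).erase 1).filter (fun w => IsT Ω (z * w)) = ∅ :=
      filter_false_of_mem fun w hw hT => by
        obtain ⟨h1, hw⟩ := mem_erase.1 hw
        exact h2 (D.central_isT_iff hab hc (mem_filter.1 hw).2 h1 hv hv1 hT)
    rw [this]
    split_ifs with h1 <;> simp

theorem iCount_pos {a b : Ω} (hab : a ≠ b) {J : G} (hJ : IsT Ω J) : D.iCount a b ≠ 0 := by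
  intro h
  have h1 := D.swap_equation hab hJ
  have h2 := D.fx_lt_card hJ.2.1
  rw [h, Nat.zero_mul] at h1
  omega

/-! ### The symmetric type -/

theorem sym_invol_conj (hS : SymType G Ω) {a b : Ω} (hab : a ≠ b) {s t : G} (hs : Swap a b s)
    (hss : s * s = 1) (ht : Swap a b t) (htt : t * t = 1) : IsConj s t := by
  have hcomm : ∀ r : G, Swap a b r → r * r = 1 → ∃ J, InV a b J ∧ J ≠ 1 ∧ r * J = J * r := by
    intro r hr hrr
    obtain ⟨v, hv, hv1⟩ := D.exists_T hab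
    have hri : r⁻¹ = r := inv_eq_of_mul_eq_one_right hrr
    have hw := hr.inV_conj hv
    by_cases h : r * v * r⁻¹ = v
    · exact ⟨v, hv, hv1, mul_inv_eq_iff_eq_mul.1 h⟩
    refine ⟨v * (r * v * r⁻¹), (D.inV_mul hab hv hw).2, fun e => h ?_,
      mul_inv_eq_iff_eq_mul.1 ?_⟩
    · exact (mul_left_cancel (e.trans hv.2.2.symm))
    · calc r * (v * (r * v * r⁻¹)) * r⁻¹ = r * v * r⁻¹ * (r * r * v * (r⁻¹ * r⁻¹)) := by group
        _ = r * v * r⁻¹ * v := by rw [hri, hrr, one_mul, mul_one]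
        _ = v * (r * v * r⁻¹) := (D.inV_mul hab hw hv).1
  obtain ⟨J, hJ, hJ1, hsJ⟩ := hcomm s hs hss
  obtain ⟨K, hK, hK1, htK⟩ := hcomm t ht htt
  obtain ⟨h, ha, hb, hh⟩ := D.inV_conj_inV hab hJ hJ1 hK hK1
  have hs' : Swap a b (h * s * h⁻¹) := by
    have := hs.conj h
    rwa [ha, hb] at this
  have hs's : h * s * h⁻¹ * (h * s * h⁻¹) = 1 := by rw [conj_mul, hss]; group
  have hs'K : h * s * h⁻¹ * K = K * (h * s * h⁻¹) := by
    rw [← hh, conj_mul, conj_mul, hsJ]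
  refine (isConj_iff.2 ⟨h, rfl⟩ : IsConj s (h * s * h⁻¹)).trans ?_
  obtain ⟨u, hu, huu, huK, huV⟩ := D.sym_exists hS hab hK hK1
  obtain ⟨v, hv, hv1, hvK⟩ := D.exists_second hab hK
  have key : IsConj u (u * K) := by
    refine isConj_iff.2 ⟨v, ?_⟩
    calc v * u * v⁻¹ = v * u * v := by rw [inv_eq_of_mul_eq_one_right hv.2.2]
      _ = u * (u * v * u) * v := by simp only [← mul_assoc, huu, one_mul]
      _ = u * (v * K * v) := by rw [huV v hv hv1 hvK]; group
      _ = u * K := by rw [(D.inV_mul hab hv hK).1, mul_assoc, hv.2.2, mul_one]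
  have hall : ∀ g : G, Swap a b g → g * g = 1 → g * K = K * g → IsConj u g := by
    intro g hg hgg hgK
    rcases (D.sym_cases hS hab hK hK1 hv hv1 hvK hu huu huK (huV v hv hv1 hvK) hg hgK).2.1 hgg with
      rfl | rfl
    exacts [IsConj.refl _, key]
  exact (hall _ hs' hs's hs'K).symm.trans (hall t ht htt htK)

theorem sym_isT (hS : SymType G Ω) {t : G} (htt : t * t = 1) (ht1 : t ≠ 1) : IsT Ω t := by
  obtain ⟨a, ha⟩ : ∃ a : Ω, t • a ≠ a := by
    by_contra h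
    push Not at h
    exact ht1 (D.faithful t h)
  set b := t • a
  have hab : a ≠ b := Ne.symm ha
  obtain ⟨J, hJ, hJ1⟩ := D.exists_T hab
  obtain ⟨r, hr⟩ := card_pos.1 (Nat.pos_of_ne_zero (D.iCount_pos hab (isT_of_inV hab hJ hJ1)))
  obtain ⟨hrT, hra⟩ := mem_filter.1 hr
  have hrT := D.mem_Tset.1 hrT
  obtain ⟨g, rfl⟩ := isConj_iff.1
    (D.sym_invol_conj hS hab (swap_of_invol hrT.1 hra) hrT.1 (swap_of_invol htt rfl) htt)
  exact hrT.conj g

theorem sym_iCount (hS : SymType G Ω) {a b : Ω} (hab : a ≠ b) : D.iCount a b = 6 := by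
  have hmem : ∀ t, t ∈ (Tset G Ω).filter (fun t => t • a = b) ↔ (t * t = 1 ∧ Swap a b t) := by
    intro t
    rw [mem_filter, D.mem_Tset]
    exact ⟨fun h => ⟨h.1.1, swap_of_invol h.1.1 h.2⟩,
      fun h => ⟨D.sym_isT hS h.1 (h.2.ne_one hab), h.2.1⟩⟩
  have h := card_mul_eq_card_mul (fun (t : G) (J : G) => t * J = J * t)
    (s := (Tset G Ω).filter fun t => t • a = b) (t := (univ.filter fun g : G => InV a b g).erase 1)
    (m := 1) (n := 2) (fun t ht => ?_) fun J hJ => ?_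
  · rw [card_erase_of_mem (mem_filter.2 ⟨mem_univ _, inV_one a b⟩), D.card_inV hab, mul_one] at h
    exact h
  · obtain ⟨htt, hts⟩ := (hmem t).1 ht
    obtain ⟨v, hv, hv1⟩ := D.exists_T hab
    have hti : t⁻¹ = t := inv_eq_of_mul_eq_one_right htt
    refine card_eq_one.2 ?_
    obtain ⟨J, hJ, hJ1, htJ⟩ : ∃ J, InV a b J ∧ J ≠ 1 ∧ t * J = J * t := by
      by_cases h : t * v * t⁻¹ = v
      · exact ⟨v, hv, hv1, mul_inv_eq_iff_eq_mul.1 h⟩
      have hw := hts.inV_conj hv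
      refine ⟨v * (t * v * t⁻¹), (D.inV_mul hab hv hw).2,
        fun e => h (mul_left_cancel (e.trans hv.2.2.symm)), mul_inv_eq_iff_eq_mul.1 ?_⟩
      calc t * (v * (t * v * t⁻¹)) * t⁻¹ = t * v * t⁻¹ * (t * t * v * (t⁻¹ * t⁻¹)) := by group
        _ = t * v * t⁻¹ * v := by rw [hti, htt, one_mul, mul_one]
        _ = v * (t * v * t⁻¹) := (D.inV_mul hab hw hv).1
    refine ⟨J, ext fun K => ?_⟩
    simp only [bipartiteAbove, mem_filter, mem_erase, Finset.mem_univ, true_and, mem_singleton]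
    refine ⟨fun ⟨⟨hK1, hK⟩, htK⟩ => ?_, fun e => e ▸ ⟨⟨hJ1, hJ⟩, htJ⟩⟩
    by_contra hne
    obtain ⟨y, hy, hyne⟩ := hS a b hab t hts
    rcases D.inV_cases hab hJ hJ1 hK hK1 hne hy with rfl | rfl | rfl | rfl
    · exact hyne (by simp)
    · exact hyne htJ
    · exact hyne htK
    · exact hyne (Commute.mul_right htK htJ).eq
  · obtain ⟨hJ1, hJ⟩ := mem_erase.1 hJ
    have hJ := (mem_filter.1 hJ).2
    obtain ⟨u, hu, huu, huJ, huV⟩ := D.sym_exists hS hab hJ hJ1
    obtain ⟨v, hv, hv1, hvJ⟩ := D.exists_second hab hJ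
    rw [show (Finset.bipartiteBelow (fun (t : G) (J : G) => t * J = J * t)
        ((Tset G Ω).filter fun t => t • a = b) J) = {u, u * J} from ext fun g => ?_]
    · exact card_pair fun e => hJ1 (mul_eq_left.1 e.symm)
    rw [bipartiteBelow, mem_filter, hmem, mem_insert, mem_singleton]
    refine ⟨fun ⟨⟨hgg, hg⟩, hgJ⟩ =>
      (D.sym_cases hS hab hJ hJ1 hv hv1 hvJ hu huu huJ (huV v hv hv1 hvJ) hg hgJ).2.1 hgg, ?_⟩
    rintro (rfl | rfl)
    · exact ⟨⟨huu, hu⟩, huJ⟩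
    · refine ⟨⟨?_, hu.mul_right hJ.1 hJ.2.1⟩, by rw [huJ, mul_assoc, huJ]⟩
      calc u * J * (u * J) = u * J * (J * u) := by rw [huJ]
        _ = u * (J * J) * u := by group
        _ = 1 := by rw [hJ.2.2, mul_one, huu]

end Hyp

end CfsgLib.TwoPointA4
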